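import Mathlib

set_option autoImplicit false

/-!
The pointwise stabiliser of two distinct nonzero vectors in `GL_4(2)` has order dividing 96.
-/

namespace Cfsg.Agent.Lib.helper19.A7b

open Matrix

theorem dvd_of_free {K T : Type*} [Group K] (act : K → T → T)
    (h1 : ∀ t, act 1 t = t) (hmul : ∀ g h t, act (g * h) t = act g (act h t))
    (hfree : ∀ g t, act g t = t → g = 1) : Nat.card K ∣ Nat.card T := by
  letI : MulAction K T := { smul := act, one_smul := h1, mul_smul := hmul }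
  have hst : ∀ b : T, MulAction.stabilizer K b = ⊥ := by
    intro b
    rw [eq_bot_iff]
    intro g hg
    rw [Subgroup.mem_bot]
    exact hfree g b (MulAction.mem_stabilizer_iff.mp hg)
  have e := MulAction.selfEquivOrbitsQuotientProd hst
  rw [Nat.card_congr e, Nat.card_prod]
  exact Dvd.intro_left _ rfl

theorem mat_ext4 {F : Type*} [Field F] (U : Fin 4 → (Fin 4 → F)) (hU : LinearIndependent F U)
    (M N : Matrix (Fin 4) (Fin 4) F) (h : ∀ i, M *ᵥ U i = N *ᵥ U i) : M = N := by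
  have hspan : Submodule.span F (Set.range U) = ⊤ :=
    hU.span_eq_top_of_card_eq_finrank' (by simp)
  apply Matrix.toLin'.injective
  apply LinearMap.ext_on hspan
  rintro _ ⟨i, rfl⟩
  rw [Matrix.toLin'_apply, Matrix.toLin'_apply]
  exact h i

theorem not_mem_span_map {F : Type*} [Field F] (M : Matrix (Fin 4) (Fin 4) F)
    (hM : ∀ a b : Fin 4 → F, M *ᵥ a = M *ᵥ b → a = b) {k : ℕ} (t : Fin k → (Fin 4 → F))
    (z : Fin 4 → F) (hz : z ∉ Submodule.span F (Set.range t)) :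
    M *ᵥ z ∉ Submodule.span F (Set.range (fun i => M *ᵥ t i)) := by
  intro hmem
  have e : Set.range (fun i => M *ᵥ t i) = (Matrix.mulVecLin M) '' Set.range t := by
    rw [← Set.range_comp]
    rfl
  rw [e, ← Submodule.map_span] at hmem
  obtain ⟨z', hz', hzz⟩ := Submodule.mem_map.mp hmem
  have h1 : z' = z := hM z' z hzz
  rw [h1] at hz'
  exact hz hz'

theorem card_compl_span {F : Type*} [Field F] [Fintype F] (hF : Fintype.card F = 2) {k : ℕ}
    (t : Fin k → (Fin 4 → F)) (ht : LinearIndependent F t) :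
    Nat.card {z : Fin 4 → F // z ∉ Submodule.span F (Set.range t)} = 2 ^ 4 - 2 ^ k := by
  classical
  have h1 : Nat.card ↥(Submodule.span F (Set.range t)) = 2 ^ k := by
    rw [Nat.card_eq_fintype_card, Module.card_eq_pow_finrank (K := F), hF,
      finrank_span_eq_card ht, Fintype.card_fin]
  have h2 : Nat.card (Fin 4 → F) = 2 ^ 4 := by
    rw [Nat.card_eq_fintype_card, Fintype.card_fun, hF, Fintype.card_fin]
  have h3 := Nat.card_congr
    (Equiv.sumCompl (fun z : Fin 4 → F => z ∈ Submodule.span F (Set.range t)))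
  rw [Nat.card_sum, h2] at h3
  have h4 : Nat.card {z : Fin 4 → F // z ∈ Submodule.span F (Set.range t)} = 2 ^ k := h1
  omega

theorem card_fix_pair_dvd {F : Type*} [Field F] [Fintype F] (hF : Fintype.card F = 2)
    (v w : Fin 4 → F) (hv : v ≠ 0) (hw : w ≠ 0) (hvw : v ≠ w)
    (K : Subgroup (Matrix.GeneralLinearGroup (Fin 4) F))
    (hK : ∀ g ∈ K, (g : Matrix (Fin 4) (Fin 4) F).mulVec v = v ∧
      (g : Matrix (Fin 4) (Fin 4) F).mulVec w = w) : Nat.card K ∣ 96 := by
  classical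
  have h01 : ∀ a : F, a = 0 ∨ a = 1 := by
    intro a
    by_contra hcon
    push_neg at hcon
    have h3 : ({0, 1, a} : Finset F).card = 3 := by
      rw [Finset.card_insert_of_notMem, Finset.card_insert_of_notMem, Finset.card_singleton]
      · simp [hcon.2.symm]
      · simp [hcon.1.symm]
    have h4 := Finset.card_le_univ ({0, 1, a} : Finset F)
    omega
  have h2 : (1 : F) + 1 = 0 := by
    rcases h01 (1 + 1) with h | h
    · exact h
    · have h' : (1 : F) = 0 := by linear_combination h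
      exact absurd h' one_ne_zero
  have hs₂ : LinearIndependent F ![v, w] := by
    rw [LinearIndependent.pair_iff]
    intro s t hst
    rcases h01 s with rfl | rfl <;> rcases h01 t with rfl | rfl
    · exact ⟨rfl, rfl⟩
    · rw [zero_smul, one_smul, zero_add] at hst
      exact absurd hst hw
    · rw [zero_smul, one_smul, add_zero] at hst
      exact absurd hst hv
    · rw [one_smul, one_smul] at hst
      exfalso
      apply hvw
      have hww : w + w = 0 := by
        rw [← one_smul F w, ← add_smul, h2, zero_smul]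
      calc v = v + w + w := by rw [add_assoc, hww, add_zero]
        _ = w := by rw [hst, zero_add]
  obtain ⟨s₂, hs₂def⟩ : ∃ s₂ : Fin 2 → (Fin 4 → F), s₂ = ![v, w] := ⟨_, rfl⟩
  rw [← hs₂def] at hs₂
  have hs₂fix : ∀ g ∈ K, ∀ i, (g : Matrix (Fin 4) (Fin 4) F) *ᵥ s₂ i = s₂ i := by
    intro g hg i
    rw [hs₂def]
    fin_cases i
    · exact (hK g hg).1
    · exact (hK g hg).2
  obtain ⟨P, hP⟩ : ∃ P : (Fin 4 → F) × (Fin 4 → F) → Prop, P = fun p =>
      p.1 ∉ Submodule.span F (Set.range s₂) ∧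
      p.2 ∉ Submodule.span F (Set.range (Fin.cons p.1 s₂ : Fin 3 → (Fin 4 → F))) := ⟨_, rfl⟩
  have hPiff : ∀ p, P p ↔ (p.1 ∉ Submodule.span F (Set.range s₂) ∧
      p.2 ∉ Submodule.span F (Set.range (Fin.cons p.1 s₂ : Fin 3 → (Fin 4 → F)))) := by
    intro p
    rw [hP]
  have hcount : Nat.card {p // P p} = 96 := by
    have e : {p // P p} ≃ Σ x : {x : Fin 4 → F // x ∉ Submodule.span F (Set.range s₂)},
        {y : Fin 4 → F // y ∉ Submodule.span F
          (Set.range (Fin.cons x.1 s₂ : Fin 3 → (Fin 4 → F)))} :=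
      { toFun := fun p => ⟨⟨p.1.1, ((hPiff p.1).mp p.2).1⟩, ⟨p.1.2, ((hPiff p.1).mp p.2).2⟩⟩
        invFun := fun s => ⟨(s.1.1, s.2.1), (hPiff _).mpr ⟨s.1.2, s.2.2⟩⟩
        left_inv := fun p => rfl
        right_inv := fun s => rfl }
    rw [Nat.card_congr e, Nat.card_sigma]
    have hfib : ∀ x : {x : Fin 4 → F // x ∉ Submodule.span F (Set.range s₂)},
        Nat.card {y : Fin 4 → F // y ∉ Submodule.span F
          (Set.range (Fin.cons x.1 s₂ : Fin 3 → (Fin 4 → F)))} = 8 := by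
      intro x
      rw [card_compl_span hF _ (linearIndependent_fin_cons.mpr ⟨hs₂, x.2⟩)]
      norm_num
    rw [Finset.sum_congr rfl (fun x _ => hfib x), Finset.sum_const, Finset.card_univ,
      ← Nat.card_eq_fintype_card, card_compl_span hF s₂ hs₂]
    rfl
  have hinj : ∀ g : ↥K, ∀ a b : Fin 4 → F, (g.1 : Matrix (Fin 4) (Fin 4) F) *ᵥ a =
      (g.1 : Matrix (Fin 4) (Fin 4) F) *ᵥ b → a = b := by
    intro g a b hab
    have h1 : ((g.1⁻¹ : GL (Fin 4) F) : Matrix (Fin 4) (Fin 4) F) *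
        (g.1 : Matrix (Fin 4) (Fin 4) F) = 1 := by
      rw [← Units.val_mul, inv_mul_cancel, Units.val_one]
    have h3 := congrArg
      (fun z => ((g.1⁻¹ : GL (Fin 4) F) : Matrix (Fin 4) (Fin 4) F) *ᵥ z) hab
    simp only [Matrix.mulVec_mulVec, h1, Matrix.one_mulVec] at h3
    exact h3
  have hPinv : ∀ (g : ↥K) (p : (Fin 4 → F) × (Fin 4 → F)), P p →
      P ((g.1 : Matrix (Fin 4) (Fin 4) F) *ᵥ p.1, (g.1 : Matrix (Fin 4) (Fin 4) F) *ᵥ p.2) := by
    intro g p hp
    rw [hPiff] at hp ⊢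
    have e2 : (fun i => (g.1 : Matrix (Fin 4) (Fin 4) F) *ᵥ s₂ i) = s₂ :=
      funext (hs₂fix g.1 g.2)
    have e3 : (fun i => (g.1 : Matrix (Fin 4) (Fin 4) F) *ᵥ
        (Fin.cons p.1 s₂ : Fin 3 → (Fin 4 → F)) i) =
        (Fin.cons ((g.1 : Matrix (Fin 4) (Fin 4) F) *ᵥ p.1) s₂ : Fin 3 → (Fin 4 → F)) := by
      funext i
      refine Fin.cases ?_ (fun j => ?_) i
      · rw [Fin.cons_zero, Fin.cons_zero]
      · rw [Fin.cons_succ, Fin.cons_succ, hs₂fix g.1 g.2 j]
    constructor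
    · have h := not_mem_span_map (g.1 : Matrix (Fin 4) (Fin 4) F) (hinj g) s₂ p.1 hp.1
      rw [e2] at h
      exact h
    · have h := not_mem_span_map (g.1 : Matrix (Fin 4) (Fin 4) F) (hinj g)
        (Fin.cons p.1 s₂ : Fin 3 → (Fin 4 → F)) p.2 hp.2
      rw [e3] at h
      exact h
  have hdvd : Nat.card ↥K ∣ Nat.card {p // P p} := by
    refine dvd_of_free (K := ↥K) (T := {p // P p})
      (fun g p => ⟨((g.1 : Matrix (Fin 4) (Fin 4) F) *ᵥ p.1.1,
        (g.1 : Matrix (Fin 4) (Fin 4) F) *ᵥ p.1.2), hPinv g p.1 p.2⟩) ?_ ?_ ?_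
    · intro t
      apply Subtype.ext
      show ((((1 : ↥K).1 : GL (Fin 4) F) : Matrix (Fin 4) (Fin 4) F) *ᵥ t.1.1,
        (((1 : ↥K).1 : GL (Fin 4) F) : Matrix (Fin 4) (Fin 4) F) *ᵥ t.1.2) = t.1
      have e1 : (((1 : ↥K).1 : GL (Fin 4) F) : Matrix (Fin 4) (Fin 4) F) = 1 := rfl
      rw [e1, Matrix.one_mulVec, Matrix.one_mulVec]
    · intro g h t
      apply Subtype.ext
      show ((((g * h : ↥K).1 : GL (Fin 4) F) : Matrix (Fin 4) (Fin 4) F) *ᵥ t.1.1,
        (((g * h : ↥K).1 : GL (Fin 4) F) : Matrix (Fin 4) (Fin 4) F) *ᵥ t.1.2) =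
        ((g.1 : Matrix (Fin 4) (Fin 4) F) *ᵥ ((h.1 : Matrix (Fin 4) (Fin 4) F) *ᵥ t.1.1),
          (g.1 : Matrix (Fin 4) (Fin 4) F) *ᵥ ((h.1 : Matrix (Fin 4) (Fin 4) F) *ᵥ t.1.2))
      have e1 : (((g * h : ↥K).1 : GL (Fin 4) F) : Matrix (Fin 4) (Fin 4) F) =
          (g.1 : Matrix (Fin 4) (Fin 4) F) * (h.1 : Matrix (Fin 4) (Fin 4) F) := rfl
      rw [e1, Matrix.mulVec_mulVec, Matrix.mulVec_mulVec]
    · intro g t hgt
      have h1 : (g.1 : Matrix (Fin 4) (Fin 4) F) *ᵥ t.1.1 = t.1.1 :=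
        congrArg (fun z : {p // P p} => z.1.1) hgt
      have h2' : (g.1 : Matrix (Fin 4) (Fin 4) F) *ᵥ t.1.2 = t.1.2 :=
        congrArg (fun z : {p // P p} => z.1.2) hgt
      have ht := (hPiff t.1).mp t.2
      have hLI3 : LinearIndependent F (Fin.cons t.1.1 s₂ : Fin 3 → (Fin 4 → F)) :=
        linearIndependent_fin_cons.mpr ⟨hs₂, ht.1⟩
      have hLI4 : LinearIndependent F
          (Fin.cons t.1.2 (Fin.cons t.1.1 s₂ : Fin 3 → (Fin 4 → F)) : Fin 4 → (Fin 4 → F)) :=
        linearIndependent_fin_cons.mpr ⟨hLI3, ht.2⟩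
      apply Subtype.ext
      apply Units.ext
      show (g.1 : Matrix (Fin 4) (Fin 4) F) = 1
      apply mat_ext4 _ hLI4
      intro i
      rw [Matrix.one_mulVec]
      refine Fin.cases ?_ (fun j => ?_) i
      · rw [Fin.cons_zero]
        exact h2'
      · rw [Fin.cons_succ]
        refine Fin.cases ?_ (fun j' => ?_) j
        · rw [Fin.cons_zero]
          exact h1
        · rw [Fin.cons_succ]
          exact hs₂fix g.1 g.2 j'
  rw [hcount] at hdvd
  exact hdvd

end Cfsg.Agent.Lib.helper19.A7b
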