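import Mathlib

/-!
The `p`-part of the order of `GL_n(q)` for an odd prime `p` not dividing `q`.
-/

namespace Cfsg.Agent.Lib.helper19.GLp

variable (p : ℕ) [hp : Fact p.Prime]

theorem order_pos (q : ℕ) (hpq : ¬ p ∣ q) : 0 < orderOf (q : ZMod p) := by
  have hq0 : (q : ZMod p) ≠ 0 := by
    intro h
    exact hpq ((ZMod.natCast_eq_zero_iff q p).mp h)
  have h1 := ZMod.pow_card_sub_one_eq_one hq0
  exact orderOf_pos_iff.mpr (isOfFinOrder_iff_pow_eq_one.mpr
    ⟨p - 1, Nat.sub_pos_of_lt hp.out.one_lt, h1⟩)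

theorem dvd_iff (q : ℕ) (hq : 1 ≤ q) (j : ℕ) :
    p ∣ q ^ j - 1 ↔ orderOf (q : ZMod p) ∣ j := by
  have h1 : 1 ≤ q ^ j := Nat.one_le_pow _ _ hq
  rw [← ZMod.natCast_eq_zero_iff, Nat.cast_sub h1, Nat.cast_pow, Nat.cast_one, sub_eq_zero,
    orderOf_dvd_iff_pow_eq_one]

theorem vp_not_dvd (q : ℕ) (hq : 1 ≤ q) (j : ℕ) (hj : ¬ orderOf (q : ZMod p) ∣ j) :
    padicValNat p (q ^ j - 1) = 0 :=
  padicValNat.eq_zero_of_not_dvd (fun h => hj ((dvd_iff p q hq j).mp h))

theorem vp_dvd (hp1 : Odd p) (q : ℕ) (hq2 : 2 ≤ q) (hpq : ¬ p ∣ q) (t : ℕ) (ht : t ≠ 0) :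
    padicValNat p (q ^ (orderOf (q : ZMod p) * t) - 1) =
      padicValNat p (q ^ orderOf (q : ZMod p) - 1) + padicValNat p t := by
  have he := order_pos p q hpq
  have h1 : 1 < q ^ orderOf (q : ZMod p) := Nat.one_lt_pow (by omega) (by omega)
  have h2 : p ∣ q ^ orderOf (q : ZMod p) - 1 := (dvd_iff p q (by omega) _).mpr dvd_rfl
  have h3 : ¬ p ∣ q ^ orderOf (q : ZMod p) := fun h => hpq (hp.out.dvd_of_dvd_pow h)
  have := padicValNat.pow_sub_pow hp1 h1 h2 h3 ht
  rw [one_pow] at this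
  rw [pow_mul]
  exact this

theorem sum_vp (hp1 : Odd p) (q : ℕ) (hq2 : 2 ≤ q) (hpq : ¬ p ∣ q) (n : ℕ) :
    ∑ j ∈ Finset.range n, padicValNat p (q ^ (j + 1) - 1) =
      padicValNat p (q ^ orderOf (q : ZMod p) - 1) * (n / orderOf (q : ZMod p)) +
        padicValNat p (n / orderOf (q : ZMod p)).factorial := by
  have he := order_pos p q hpq
  induction n with
  | zero => simp
  | succ n ih =>
    rw [Finset.sum_range_succ, ih, Nat.succ_div]
    by_cases hd : orderOf (q : ZMod p) ∣ n + 1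
    · rw [if_pos hd]
      obtain ⟨t, ht⟩ := hd
      have ht0 : t ≠ 0 := by
        rintro rfl
        simp at ht
      have h1 : n / orderOf (q : ZMod p) + 1 = t := by
        have := Nat.succ_div (a := n) (b := orderOf (q : ZMod p))
        rw [if_pos ⟨t, ht⟩, ht, Nat.mul_div_cancel_left _ he] at this
        exact this.symm
      rw [ht, vp_dvd p hp1 q hq2 hpq t ht0, ← h1, Nat.factorial_succ,
        padicValNat.mul (by omega) (Nat.factorial_ne_zero _)]
      ring
    · rw [if_neg hd, vp_not_dvd p q (by omega) _ hd]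
      rfl

theorem vp_card_GL (hp1 : Odd p) {F : Type*} [Field F] [Fintype F]
    (hpq : ¬ p ∣ Fintype.card F) (n : ℕ) :
    (Nat.card (GL (Fin n) F)).factorization p =
      padicValNat p (Fintype.card F ^ orderOf ((Fintype.card F : ℕ) : ZMod p) - 1) *
        (n / orderOf ((Fintype.card F : ℕ) : ZMod p)) +
        padicValNat p (n / orderOf ((Fintype.card F : ℕ) : ZMod p)).factorial := by
  have hq2 : 2 ≤ Fintype.card F := Fintype.one_lt_card
  have hne : ∀ i ∈ (Finset.univ : Finset (Fin n)),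
      Fintype.card F ^ n - Fintype.card F ^ (i : ℕ) ≠ 0 := by
    intro i _
    have := Nat.pow_lt_pow_right (a := Fintype.card F) (by omega) i.2
    omega
  rw [Matrix.card_GL_field, Nat.factorization_prod hne, Finsupp.finsetSum_apply]
  have hterm : ∀ i : Fin n, (Fintype.card F ^ n - Fintype.card F ^ (i : ℕ)).factorization p =
      padicValNat p (Fintype.card F ^ (n - 1 - (i : ℕ) + 1) - 1) := by
    intro i
    have hi := i.2
    have e : Fintype.card F ^ n - Fintype.card F ^ (i : ℕ) =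
        Fintype.card F ^ (i : ℕ) * (Fintype.card F ^ (n - 1 - (i : ℕ) + 1) - 1) := by
      rw [Nat.mul_sub, ← pow_add, mul_one]
      congr 2
      omega
    have hm : Fintype.card F ^ (n - 1 - (i : ℕ) + 1) - 1 ≠ 0 := by
      have := Nat.one_lt_pow (n := n - 1 - (i : ℕ) + 1) (a := Fintype.card F) (by omega)
        (by omega)
      omega
    rw [e, Nat.factorization_def _ hp.out, padicValNat.mul (pow_ne_zero _ (by omega)) hm,
      padicValNat.pow, padicValNat.eq_zero_of_not_dvd hpq, mul_zero, zero_add]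
  rw [Finset.sum_congr rfl (fun i _ => hterm i),
    Fin.sum_univ_eq_sum_range
      (fun i => padicValNat p (Fintype.card F ^ (n - 1 - i + 1) - 1)) n,
    Finset.sum_range_reflect (fun j => padicValNat p (Fintype.card F ^ (j + 1) - 1)) n]
  exact sum_vp p hp1 _ hq2 hpq n

end Cfsg.Agent.Lib.helper19.GLp
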