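import Cfsg.Agent.Lib.helper19.SylDL

/-!
Monomial groups `(Λ → D) ⋊ Perm Λ` and embeddings of iterated regular wreath products.
-/

namespace Cfsg.Agent.Lib.helper19.MonW

universe u

/-- the monomial group -/
abbrev Mon (D : Type*) [Group D] (Λ : Type*) :=
  (Λ → D) ⋊[mulAutArrow (G := Equiv.Perm Λ) (A := Λ) (M := D)] Equiv.Perm Λ

theorem mon_mul_left {D : Type*} [Group D] {Λ : Type*} (a b : Mon D Λ) (μ : Λ) :
    (a * b).left μ = a.left μ * b.left (a.right⁻¹ μ) := rfl

/-- functoriality of regular wreath products in the base -/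
def rwMap {D₁ D₂ : Type*} (Q : Type*) [Group D₁] [Group D₂] [Group Q] (φ : D₁ →* D₂) :
    D₁ ≀ᵣ Q →* D₂ ≀ᵣ Q where
  toFun w := ⟨fun x => φ (w.left x), w.right⟩
  map_one' := by
    apply RegularWreathProduct.ext
    · funext x
      exact map_one φ
    · rfl
  map_mul' a b := by
    apply RegularWreathProduct.ext
    · funext x
      show φ (a.left x * b.left (a.right⁻¹ * x)) = φ (a.left x) * φ (b.left (a.right⁻¹ * x))
      exact map_mul φ _ _
    · rfl

theorem rwMap_injective {D₁ D₂ : Type*} (Q : Type*) [Group D₁] [Group D₂] [Group Q]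
    (φ : D₁ →* D₂) (hφ : Function.Injective φ) : Function.Injective (rwMap Q φ) := by
  intro a b h
  apply RegularWreathProduct.ext
  · funext x
    exact hφ (congrFun (congrArg RegularWreathProduct.left h) x)
  · have hr : (rwMap Q φ a).right = (rwMap Q φ b).right := congrArg RegularWreathProduct.right h
    exact hr

theorem toPerm_inv_apply {Λ C : Type*} [Group C] (w : Equiv.Perm Λ ≀ᵣ C) (μ : Λ) (y : C) :
    (RegularWreathProduct.toPerm (Equiv.Perm Λ) C Λ w)⁻¹ (μ, y) =
      ((w.left y)⁻¹ μ, w.right⁻¹ * y) := by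
  rw [← map_inv]
  show (w⁻¹ • ((μ, y) : Λ × C)) = _
  simp [RegularWreathProduct.smul_def]

/-- the wreath step -/
def stepHom (D : Type*) [Group D] (Λ : Type*) (C : Type*) [Group C] :
    Mon D Λ ≀ᵣ C →* Mon D (Λ × C) where
  toFun w := ⟨fun p => (w.left p.2).left p.1,
    RegularWreathProduct.toPerm (Equiv.Perm Λ) C Λ (rwMap C SemidirectProduct.rightHom w)⟩
  map_one' := by
    apply SemidirectProduct.ext
    · rfl
    · show RegularWreathProduct.toPerm (Equiv.Perm Λ) C Λ (rwMap C SemidirectProduct.rightHom 1)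
        = 1
      rw [map_one, map_one]
  map_mul' a b := by
    apply SemidirectProduct.ext
    · funext p
      obtain ⟨μ, y⟩ := p
      show ((a * b).left y).left μ = (a.left y).left μ *
        (b.left (((RegularWreathProduct.toPerm (Equiv.Perm Λ) C Λ
          (rwMap C SemidirectProduct.rightHom a))⁻¹ (μ, y)).2)).left
          (((RegularWreathProduct.toPerm (Equiv.Perm Λ) C Λ
          (rwMap C SemidirectProduct.rightHom a))⁻¹ (μ, y)).1)
      rw [toPerm_inv_apply]
      rfl
    · show RegularWreathProduct.toPerm (Equiv.Perm Λ) C Λ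
          (rwMap C SemidirectProduct.rightHom (a * b)) =
        RegularWreathProduct.toPerm (Equiv.Perm Λ) C Λ (rwMap C SemidirectProduct.rightHom a) *
        RegularWreathProduct.toPerm (Equiv.Perm Λ) C Λ (rwMap C SemidirectProduct.rightHom b)
      rw [map_mul, map_mul]

theorem stepHom_injective (D : Type*) [Group D] (Λ : Type*) [Nonempty Λ] (C : Type*) [Group C] :
    Function.Injective (stepHom D Λ C) := by
  intro a b h
  have h1 : RegularWreathProduct.toPerm (Equiv.Perm Λ) C Λ
      (rwMap C SemidirectProduct.rightHom a) =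
      RegularWreathProduct.toPerm (Equiv.Perm Λ) C Λ (rwMap C SemidirectProduct.rightHom b) :=
    congrArg SemidirectProduct.right h
  have h2 := RegularWreathProduct.toPermInj (Equiv.Perm Λ) C Λ h1
  have h3 : ∀ p : Λ × C, (a.left p.2).left p.1 = (b.left p.2).left p.1 :=
    fun p => congrFun (congrArg SemidirectProduct.left h) p
  apply RegularWreathProduct.ext
  · funext y
    apply SemidirectProduct.ext
    · funext μ
      exact h3 (μ, y)
    · exact congrFun (congrArg RegularWreathProduct.left h2) y
  · have hr : (rwMap C (SemidirectProduct.rightHom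
        (φ := mulAutArrow (G := Equiv.Perm Λ) (A := Λ) (M := D))) a).right =
        (rwMap C SemidirectProduct.rightHom b).right := congrArg RegularWreathProduct.right h2
    exact hr

/-- extension along an embedding -/
noncomputable def extHom (D : Type*) [Group D] {Λ Ω : Type*} (ι : Λ ↪ Ω)
    [DecidablePred (· ∈ Set.range ι)] : Mon D Λ →* Mon D Ω where
  toFun w := ⟨Function.extend ι w.left 1, Equiv.Perm.viaEmbeddingHom ι w.right⟩
  map_one' := by
    apply SemidirectProduct.ext
    · funext ω
      by_cases hω : ω ∈ Set.range ι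
      · obtain ⟨l, rfl⟩ := hω
        show Function.extend ι (1 : Λ → D) 1 (ι l) = 1
        rw [ι.injective.extend_apply]
        rfl
      · show Function.extend ι (1 : Λ → D) 1 ω = 1
        rw [Function.extend_apply' _ _ _ (fun ⟨l, hl⟩ => hω ⟨l, hl⟩)]
        rfl
    · show Equiv.Perm.viaEmbeddingHom ι (1 : Equiv.Perm Λ) = 1
      rw [map_one]
  map_mul' a b := by
    apply SemidirectProduct.ext
    · funext ω
      have hinv : (Equiv.Perm.viaEmbeddingHom ι a.right)⁻¹ =
          Equiv.Perm.viaEmbedding a.right⁻¹ ι := by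
        rw [← map_inv, Equiv.Perm.viaEmbeddingHom_apply]
      show Function.extend ι (a * b).left 1 ω = Function.extend ι a.left 1 ω *
        Function.extend ι b.left 1 ((Equiv.Perm.viaEmbeddingHom ι a.right)⁻¹ ω)
      rw [hinv]
      by_cases hω : ω ∈ Set.range ι
      · obtain ⟨l, rfl⟩ := hω
        rw [Equiv.Perm.viaEmbedding_apply, ι.injective.extend_apply, ι.injective.extend_apply,
          ι.injective.extend_apply]
        rfl
      · rw [Equiv.Perm.viaEmbedding_apply_of_notMem _ _ _ hω,
          Function.extend_apply' _ _ _ (fun ⟨l, hl⟩ => hω ⟨l, hl⟩),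
          Function.extend_apply' _ _ _ (fun ⟨l, hl⟩ => hω ⟨l, hl⟩),
          Function.extend_apply' _ _ _ (fun ⟨l, hl⟩ => hω ⟨l, hl⟩)]
        simp
    · show Equiv.Perm.viaEmbeddingHom ι (a.right * b.right) =
        Equiv.Perm.viaEmbeddingHom ι a.right * Equiv.Perm.viaEmbeddingHom ι b.right
      rw [map_mul]

theorem extHom_injective (D : Type*) [Group D] {Λ Ω : Type*} (ι : Λ ↪ Ω)
    [DecidablePred (· ∈ Set.range ι)] : Function.Injective (extHom D ι) := by
  intro a b h
  have h1 : Function.extend ι a.left 1 = Function.extend ι b.left 1 :=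
    congrArg SemidirectProduct.left h
  have h2 : Equiv.Perm.viaEmbeddingHom ι a.right = Equiv.Perm.viaEmbeddingHom ι b.right :=
    congrArg SemidirectProduct.right h
  apply SemidirectProduct.ext
  · funext l
    have := congrFun h1 (ι l)
    rw [ι.injective.extend_apply, ι.injective.extend_apply] at this
    exact this
  · exact Equiv.Perm.viaEmbeddingHom_injective ι h2

/-- base change -/
def monMap {D₁ D₂ : Type*} [Group D₁] [Group D₂] (φ : D₁ →* D₂) (Λ : Type*) :
    Mon D₁ Λ →* Mon D₂ Λ :=
  SemidirectProduct.map (φ.compLeft Λ) (MonoidHom.id _)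
    (fun _ => MonoidHom.ext fun _ => funext fun _ => rfl)

theorem monMap_injective {D₁ D₂ : Type*} [Group D₁] [Group D₂] (φ : D₁ →* D₂)
    (hφ : Function.Injective φ) (Λ : Type*) : Function.Injective (monMap φ Λ) := by
  intro a b h
  have h1 : (φ.compLeft Λ) a.left = (φ.compLeft Λ) b.left := congrArg SemidirectProduct.left h
  have h2 : (monMap φ Λ a).right = (monMap φ Λ b).right := congrArg SemidirectProduct.right h
  apply SemidirectProduct.ext
  · funext l
    exact hφ (congrFun h1 l)
  · exact h2

theorem exists_emb (Q : Type u) [Group Q] [Finite Q] (hQ : IsPGroup 2 Q)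
    (hQ1 : derivedSeries Q 1 ≠ ⊥) (k : ℕ) :
    ∃ (X : Type u) (_ : Group X) (_ : Finite X) (Λ : Type) (_ : Fintype Λ) (_ : Nonempty Λ)
      (ι : X →* Mon Q Λ), Function.Injective ι ∧ IsPGroup 2 X ∧ Fintype.card Λ = 2 ^ k ∧
        derivedSeries X (k + 1) ≠ ⊥ := by
  induction k with
  | zero =>
    refine ⟨Q, inferInstance, inferInstance, Unit, inferInstance, inferInstance,
      { toFun := fun q => ⟨fun _ => q, 1⟩
        map_one' := rfl
        map_mul' := fun a b => by
          apply SemidirectProduct.ext
          · rfl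
          · show (1 : Equiv.Perm Unit) = 1 * 1
            rw [one_mul] }, ?_, hQ, by simp, hQ1⟩
    intro a b h
    have h1 := congrFun (congrArg SemidirectProduct.left h) ()
    exact h1
  | succ k ih =>
    obtain ⟨X, iG, iF, Λ, iT, iN, ι, hι, hp, hc, hd⟩ := ih
    have hC : Nat.card (Multiplicative (ZMod 2)) = 2 := by
      rw [Nat.card_congr Multiplicative.toAdd, Nat.card_zmod]
    refine ⟨X ≀ᵣ Multiplicative (ZMod 2), inferInstance, inferInstance,
      Λ × Multiplicative (ZMod 2), inferInstance, inferInstance,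
      (stepHom Q Λ (Multiplicative (ZMod 2))).comp (rwMap (Multiplicative (ZMod 2)) ι),
      ?_, ?_, ?_, ?_⟩
    · exact (stepHom_injective Q Λ _).comp (rwMap_injective _ ι hι)
    · obtain ⟨m, hm⟩ := IsPGroup.iff_card.mp hp
      apply IsPGroup.of_card (n := m * 2 + 1)
      rw [RegularWreathProduct.card, hm, hC, ← pow_mul, pow_succ]
    · rw [Fintype.card_prod, hc, ← Nat.card_eq_fintype_card (α := Multiplicative (ZMod 2)), hC,
        pow_succ]
    · exact SylDL.rw_lower (D := X) (Q := Multiplicative (ZMod 2)) (Multiplicative.ofAdd 1)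
        (by decide) (k + 1) hd

end Cfsg.Agent.Lib.helper19.MonW
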