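import Cfsg.Agent.Lib.helper19.GLpA
import Cfsg.Agent.Lib.helper19.MonW
import Cfsg.Agent.Lib.helper4.GLWreath
import Cfsg.Agent.S2638

/-!
Derived length of the Sylow `p`-subgroups of `GL_n(q)`, `p` odd not dividing `q`.
-/

namespace Cfsg.Agent.Lib.helper19.GLp

open Matrix Cfsg.Agent.Lib.helper19.MonW Cfsg.Agent.Lib.helper4.GLWreath

universe u

theorem exists_emb_p (p : ℕ) [hp : Fact p.Prime] (Q : Type u) [Group Q] [Finite Q]
    (hQ : IsPGroup p Q) (i : ℕ) (hQ1 : derivedSeries Q i ≠ ⊥) (k : ℕ) :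
    ∃ (X : Type u) (_ : Group X) (_ : Finite X) (Λ : Type) (_ : Fintype Λ) (_ : Nonempty Λ)
      (ι : X →* Mon Q Λ), Function.Injective ι ∧ IsPGroup p X ∧ Fintype.card Λ = p ^ k ∧
        derivedSeries X (k + i) ≠ ⊥ := by
  have : NeZero p := ⟨hp.out.ne_zero⟩
  have : Fact (1 < p) := ⟨hp.out.one_lt⟩
  induction k with
  | zero =>
    refine ⟨Q, inferInstance, inferInstance, Unit, inferInstance, inferInstance,
      { toFun := fun q => ⟨fun _ => q, 1⟩
        map_one' := rfl
        map_mul' := fun a b => by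
          apply SemidirectProduct.ext
          · rfl
          · show (1 : Equiv.Perm Unit) = 1 * 1
            rw [one_mul] }, ?_, hQ, by simp, by rw [zero_add]; exact hQ1⟩
    intro a b h
    have h1 := congrFun (congrArg SemidirectProduct.left h) ()
    exact h1
  | succ k ih =>
    obtain ⟨X, iG, iF, Λ, iT, iN, ι, hι, hpX, hc, hd⟩ := ih
    have hC : Nat.card (Multiplicative (ZMod p)) = p := by
      rw [Nat.card_congr Multiplicative.toAdd, Nat.card_zmod]
    have hne : (Multiplicative.ofAdd (1 : ZMod p)) ≠ 1 := by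
      intro h
      have h' : Multiplicative.ofAdd (1 : ZMod p) = Multiplicative.ofAdd 0 := h
      exact one_ne_zero (α := ZMod p) (Multiplicative.ofAdd.injective h')
    refine ⟨X ≀ᵣ Multiplicative (ZMod p), inferInstance, inferInstance,
      Λ × Multiplicative (ZMod p), inferInstance, inferInstance,
      (stepHom Q Λ (Multiplicative (ZMod p))).comp (rwMap (Multiplicative (ZMod p)) ι),
      ?_, ?_, ?_, ?_⟩
    · exact (stepHom_injective Q Λ _).comp (rwMap_injective _ ι hι)
    · obtain ⟨m, hm⟩ := IsPGroup.iff_card.mp hpX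
      apply IsPGroup.of_card (n := m * p + 1)
      rw [RegularWreathProduct.card, hm, hC, ← pow_mul, pow_succ]
    · rw [Fintype.card_prod, hc, ← Nat.card_eq_fintype_card (α := Multiplicative (ZMod p)), hC,
        pow_succ]
    · have e : k + 1 + i = (k + i) + 1 := by omega
      rw [e]
      exact SylDL.rw_lower (D := X) (Q := Multiplicative (ZMod p)) (Multiplicative.ofAdd 1)
        hne (k + i) hd

theorem ds_sub' {G : Type*} [Group G] (K : Subgroup G) (j : ℕ) (hK : derivedSeries G j ≤ K)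
    (a : ℕ) : derivedSeries G (j + a) ≤ (derivedSeries K a).map K.subtype := by
  induction a with
  | zero =>
    rw [derivedSeries_zero, ← MonoidHom.range_eq_map, Subgroup.range_subtype]
    exact hK
  | succ a ih =>
    rw [← add_assoc, derivedSeries_succ G (j + a), derivedSeries_succ (↥K) a,
      Subgroup.map_commutator]
    exact Subgroup.commutator_mono ih ih

theorem exists_glw {F : Type*} [Field F] [Fintype F] (e w n : ℕ) (he : 0 < e)
    (hn : e * w ≤ n) : ∃ Ψ : W F (Fin e) w →* GL (Fin n) F, Function.Injective Ψ := by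
  classical
  have : Nonempty (Fin e) := ⟨⟨0, he⟩⟩
  obtain ⟨b, hb⟩ : ∃ b, e * w + b = n := ⟨n - e * w, by omega⟩
  have eq : (Fin e × Fin w) ⊕ Fin b ≃ Fin n := Fintype.equivOfCardEq (by simp [hb])
  let Ψ₁ : W F (Fin e) w × (Fin b → Fˣ) →* GL (Fin n) F :=
    (Units.mapEquiv (Matrix.reindexAlgEquiv F F eq).toMulEquiv).toMonoidHom.comp
      ((blk F (Fin e × Fin w) (Fin b)).comp ((Φ F (Fin e) w).prodMap (τ F b)))
  refine ⟨Ψ₁.comp (MonoidHom.inl _ _), ?_⟩
  intro x y hxy
  have h1 := (Units.mapEquiv (Matrix.reindexAlgEquiv F F eq).toMulEquiv).injective hxy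
  have h3 := blk_injective _ _ h1
  have h4 : Φ F (Fin e) w x = Φ F (Fin e) w y := congrArg Prod.fst h3
  exact Φ_injective h4

section

variable (p : ℕ) [hp : Fact p.Prime] (F : Type*) [Field F] [Fintype F]

/-- the order of `q` modulo `p` -/
noncomputable abbrev eo : ℕ := orderOf ((Fintype.card F : ℕ) : ZMod p)

/-- the `p`-adic valuation of `q ^ e - 1` -/
noncomputable abbrev ao : ℕ := padicValNat p (Fintype.card F ^ eo p F - 1)

theorem sylow_e_comm (hp1 : Odd p) (hpq : ¬ p ∣ Fintype.card F)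
    (C : Sylow p (GL (Fin (eo p F)) F)) :
    Nat.card ↥(C : Subgroup (GL (Fin (eo p F)) F)) = p ^ ao p F ∧ 1 ≤ ao p F ∧
      ∀ x y : ↥(C : Subgroup (GL (Fin (eo p F)) F)), x * y = y * x := by
  classical
  have hepos : 0 < eo p F := order_pos p _ hpq
  have hq2 : 2 ≤ Fintype.card F := Fintype.one_lt_card
  have hdvd : p ∣ Fintype.card F ^ eo p F - 1 := (dvd_iff p _ (by omega) _).mpr dvd_rfl
  have hne0 : Fintype.card F ^ eo p F - 1 ≠ 0 := by
    have := Nat.one_lt_pow (n := eo p F) (a := Fintype.card F) (by omega) (by omega)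
    omega
  have ha : 1 ≤ ao p F := one_le_padicValNat_of_dvd hne0 hdvd
  have hcard : Nat.card ↥(C : Subgroup (GL (Fin (eo p F)) F)) = p ^ ao p F := by
    rw [C.card_eq_multiplicity, vp_card_GL p hp1 hpq (eo p F), Nat.div_self hepos,
      Nat.factorial_one, padicValNat_one_right, mul_one, add_zero]
  refine ⟨hcard, ha, ?_⟩
  have hCp : IsPGroup p ↥(C : Subgroup (GL (Fin (eo p F)) F)) := C.isPGroup'
  have hnt : Nontrivial ↥(C : Subgroup (GL (Fin (eo p F)) F)) := by
    rw [← Finite.one_lt_card_iff_nontrivial, hcard]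
    exact Nat.one_lt_pow (by omega) hp.out.one_lt
  have hcn : Nontrivial (Subgroup.center ↥(C : Subgroup (GL (Fin (eo p F)) F))) :=
    hCp.center_nontrivial
  have hcp : IsPGroup p (Subgroup.center ↥(C : Subgroup (GL (Fin (eo p F)) F))) :=
    hCp.to_subgroup _
  obtain ⟨m, hm⟩ := IsPGroup.iff_card.mp hcp
  have hm0 : m ≠ 0 := by
    rintro rfl
    rw [pow_zero] at hm
    have := Finite.one_lt_card_iff_nontrivial.mpr hcn
    omega
  have hpd : p ∣ Nat.card (Subgroup.center ↥(C : Subgroup (GL (Fin (eo p F)) F))) := by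
    rw [hm]
    exact dvd_pow_self p hm0
  obtain ⟨z, hz⟩ := exists_prime_orderOf_dvd_card'
    (G := ↥(Subgroup.center ↥(C : Subgroup (GL (Fin (eo p F)) F)))) p hpd
  have hzo : orderOf (((z : ↥(C : Subgroup (GL (Fin (eo p F)) F))) : GL (Fin (eo p F)) F)) = p := by
    rw [Subgroup.orderOf_coe, Subgroup.orderOf_coe, hz]
  obtain ⟨p₀, hchar⟩ := CharP.exists F
  have hp0prime : Fact p₀.Prime := ⟨CharP.char_is_prime F p₀⟩
  have hp0 : p ≠ p₀ := by
    rintro rfl
    apply hpq
    obtain ⟨n, -, hn⟩ := FiniteField.card F p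
    rw [hn]
    exact dvd_pow_self p n.ne_zero
  have hS := Cfsg.Agent.S2638.result (F := F) (p := p₀) (q := Fintype.card F) rfl
    (n := eo p F) (r := p) hepos hp.out hp0 rfl
    ((z : ↥(C : Subgroup (GL (Fin (eo p F)) F))) : GL (Fin (eo p F)) F) hzo
  obtain ⟨hcyc, -⟩ := hS
  have hmem : ∀ x : ↥(C : Subgroup (GL (Fin (eo p F)) F)), (x : GL (Fin (eo p F)) F) ∈
      Subgroup.centralizer
        ({((z : ↥(C : Subgroup (GL (Fin (eo p F)) F))) : GL (Fin (eo p F)) F)} :
          Set (GL (Fin (eo p F)) F)) := by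
    intro x
    rw [Subgroup.mem_centralizer_iff]
    intro h hh
    rw [Set.mem_singleton_iff] at hh
    rw [hh]
    have := Subgroup.mem_center_iff.mp z.2 x
    exact (congrArg Subtype.val this).symm
  intro x y
  obtain ⟨g, hg⟩ := hcyc.exists_generator
  obtain ⟨i, hi⟩ := Subgroup.mem_zpowers_iff.mp (hg ⟨x.1, hmem x⟩)
  obtain ⟨j, hj⟩ := Subgroup.mem_zpowers_iff.mp (hg ⟨y.1, hmem y⟩)
  have h : (⟨x.1, hmem x⟩ : ↥(Subgroup.centralizer _)) * ⟨y.1, hmem y⟩ =
      ⟨y.1, hmem y⟩ * ⟨x.1, hmem x⟩ := by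
    rw [← hi, ← hj, ← _root_.zpow_add, ← _root_.zpow_add, add_comm]
  have h' : (x : GL (Fin (eo p F)) F) * y = y * x := congrArg Subtype.val h
  exact Subtype.ext h'

theorem gl_sylow_iso (hp1 : Odd p) (hpq : ¬ p ∣ Fintype.card F) (n : ℕ)
    (P : Sylow p (GL (Fin n) F)) (C : Sylow p (GL (Fin (eo p F)) F))
    (R : Sylow p (Equiv.Perm (Fin (n / eo p F)))) :
    Nonempty (((Fin (n / eo p F) → ↥(C : Subgroup (GL (Fin (eo p F)) F))) ⋊[mulAutArrow
      (G := ↥(R : Subgroup (Equiv.Perm (Fin (n / eo p F))))) (A := Fin (n / eo p F))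
        (M := ↥(C : Subgroup (GL (Fin (eo p F)) F)))]
      ↥(R : Subgroup (Equiv.Perm (Fin (n / eo p F))))) ≃* ↥(P : Subgroup (GL (Fin n) F))) := by
  classical
  have hepos : 0 < eo p F := order_pos p _ hpq
  obtain ⟨hC, -, -⟩ := sylow_e_comm p F hp1 hpq C
  obtain ⟨Ψ₀, hΨ₀⟩ := exists_glw (F := F) (eo p F) (n / eo p F) n hepos (Nat.mul_div_le n _)
  let Ψ : (Fin (n / eo p F) → ↥(C : Subgroup (GL (Fin (eo p F)) F))) ⋊[mulAutArrow
      (G := ↥(R : Subgroup (Equiv.Perm (Fin (n / eo p F))))) (A := Fin (n / eo p F))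
        (M := ↥(C : Subgroup (GL (Fin (eo p F)) F)))]
      ↥(R : Subgroup (Equiv.Perm (Fin (n / eo p F)))) →* W F (Fin (eo p F)) (n / eo p F) :=
    SemidirectProduct.map
      ((C : Subgroup (GL (Fin (eo p F)) F)).subtype.compLeft (Fin (n / eo p F)))
      (R : Subgroup (Equiv.Perm (Fin (n / eo p F)))).subtype
      (fun g => MonoidHom.ext fun f => funext fun i => rfl)
  have hΨ : Function.Injective Ψ := by
    intro w w' h
    have h1 : ((C : Subgroup (GL (Fin (eo p F)) F)).subtype.compLeft (Fin (n / eo p F))) w.left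
        = ((C : Subgroup (GL (Fin (eo p F)) F)).subtype.compLeft (Fin (n / eo p F))) w'.left :=
      congrArg SemidirectProduct.left h
    have h2 : (w.right : Equiv.Perm (Fin (n / eo p F))) = w'.right :=
      congrArg SemidirectProduct.right h
    apply SemidirectProduct.ext
    · funext i
      exact Subtype.ext (congrFun h1 i)
    · exact Subtype.ext h2
  have hΘ : Function.Injective (Ψ₀.comp Ψ) := hΨ₀.comp hΨ
  have hvp : (Nat.card (Equiv.Perm (Fin (n / eo p F)))).factorization p =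
      padicValNat p (n / eo p F).factorial := by
    rw [Nat.factorization_def _ hp.out, Nat.card_perm, Nat.card_fin]
  have hcard : Nat.card (Ψ₀.comp Ψ).range = p ^ (Nat.card (GL (Fin n) F)).factorization p := by
    rw [← Nat.card_congr (MonoidHom.ofInjective hΘ).toEquiv, SemidirectProduct.card,
      Nat.card_fun, Nat.card_fin, hC, R.card_eq_multiplicity, hvp, vp_card_GL p hp1 hpq n,
      ← pow_mul, ← pow_add]
  let S₀ : Sylow p (GL (Fin n) F) := Sylow.ofCard (Ψ₀.comp Ψ).range hcard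
  have e1 : ↥(P : Subgroup (GL (Fin n) F)) ≃* ↥(Ψ₀.comp Ψ).range := P.equiv S₀
  have e2 := MonoidHom.ofInjective hΘ
  exact ⟨e2.trans e1.symm⟩

theorem gl_upper (hp1 : Odd p) (hpq : ¬ p ∣ Fintype.card F) (n : ℕ)
    (P : Sylow p (GL (Fin n) F)) :
    derivedSeries ↥(P : Subgroup (GL (Fin n) F)) (Nat.log p (n / eo p F) + 1) = ⊥ := by
  classical
  obtain ⟨C⟩ : Nonempty (Sylow p (GL (Fin (eo p F)) F)) := inferInstance
  obtain ⟨R⟩ : Nonempty (Sylow p (Equiv.Perm (Fin (n / eo p F)))) := inferInstance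
  obtain ⟨e⟩ := gl_sylow_iso p F hp1 hpq n P C R
  obtain ⟨-, -, hcomm⟩ := sylow_e_comm p F hp1 hpq C
  have hC1 : derivedSeries ↥(C : Subgroup (GL (Fin (eo p F)) F)) 1 = ⊥ := by
    rw [derivedSeries_one, commutator_def, eq_bot_iff, Subgroup.commutator_le]
    intro x _ y _
    rw [Subgroup.mem_bot, commutatorElement_def, hcomm x y]
    group
  have hR : derivedSeries ↥(R : Subgroup (Equiv.Perm (Fin (n / eo p F))))
      (Nat.log p (n / eo p F)) = ⊥ :=
    SylDL.pgroup_ds p (n / eo p F) (Fin (n / eo p F))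
      (R : Subgroup (Equiv.Perm (Fin (n / eo p F)))) R.isPGroup' (by simp)
  obtain ⟨φ, hφ⟩ : ∃ φ : ↥(R : Subgroup (Equiv.Perm (Fin (n / eo p F)))) →*
      MulAut (Fin (n / eo p F) → ↥(C : Subgroup (GL (Fin (eo p F)) F))),
      φ = mulAutArrow (G := ↥(R : Subgroup (Equiv.Perm (Fin (n / eo p F)))))
        (A := Fin (n / eo p F)) (M := ↥(C : Subgroup (GL (Fin (eo p F)) F))) := ⟨_, rfl⟩
  rw [← hφ] at e
  apply SylDL.ds_bot_of_injective e.symm.toMonoidHom e.symm.injective
  let K : Subgroup ((Fin (n / eo p F) → ↥(C : Subgroup (GL (Fin (eo p F)) F))) ⋊[φ]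
      ↥(R : Subgroup (Equiv.Perm (Fin (n / eo p F))))) :=
    (SemidirectProduct.rightHom : _ →* ↥(R : Subgroup (Equiv.Perm (Fin (n / eo p F))))).ker
  have hK : derivedSeries ((Fin (n / eo p F) → ↥(C : Subgroup (GL (Fin (eo p F)) F))) ⋊[φ]
      ↥(R : Subgroup (Equiv.Perm (Fin (n / eo p F))))) (Nat.log p (n / eo p F)) ≤ K := by
    intro x hx
    have h1 := map_derivedSeries_le_derivedSeries
      (SemidirectProduct.rightHom :
        ((Fin (n / eo p F) → ↥(C : Subgroup (GL (Fin (eo p F)) F))) ⋊[φ]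
          ↥(R : Subgroup (Equiv.Perm (Fin (n / eo p F))))) →*
          ↥(R : Subgroup (Equiv.Perm (Fin (n / eo p F)))))
      (Nat.log p (n / eo p F)) (Subgroup.mem_map_of_mem _ hx)
    rw [hR, Subgroup.mem_bot] at h1
    exact h1
  have h3 := ds_sub' K (Nat.log p (n / eo p F)) hK 1
  let lh : K →* (Fin (n / eo p F) → ↥(C : Subgroup (GL (Fin (eo p F)) F))) :=
    { toFun := fun w => w.1.left
      map_one' := rfl
      map_mul' := fun x y => by
        have hx : x.1.right = 1 := x.2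
        show (x.1 * y.1).left = x.1.left * y.1.left
        rw [SemidirectProduct.mul_left, hx, map_one]
        rfl }
  have hlh : Function.Injective lh := by
    intro x y hxy
    apply Subtype.ext
    apply SemidirectProduct.ext
    · exact hxy
    · have hx : x.1.right = 1 := x.2
      have hy : y.1.right = 1 := y.2
      rw [hx, hy]
  have h4 : derivedSeries K 1 = ⊥ := SylDL.ds_bot_of_injective lh hlh 1 (SylDL.ds_pi 1 hC1)
  rw [h4, Subgroup.map_bot] at h3
  exact le_bot_iff.mp h3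

theorem gl_lower (hp1 : Odd p) (hpq : ¬ p ∣ Fintype.card F) (n : ℕ) (hn : eo p F ≤ n)
    (P : Sylow p (GL (Fin n) F)) :
    derivedSeries ↥(P : Subgroup (GL (Fin n) F)) (Nat.log p (n / eo p F)) ≠ ⊥ := by
  classical
  have hepos : 0 < eo p F := order_pos p _ hpq
  have hw : 0 < n / eo p F := Nat.div_pos hn hepos
  obtain ⟨C⟩ : Nonempty (Sylow p (GL (Fin (eo p F)) F)) := inferInstance
  obtain ⟨hC, ha, -⟩ := sylow_e_comm p F hp1 hpq C
  have hC0 : derivedSeries ↥(C : Subgroup (GL (Fin (eo p F)) F)) 0 ≠ ⊥ := by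
    rw [derivedSeries_zero]
    intro h
    have h1 : Nat.card (⊤ : Subgroup ↥(C : Subgroup (GL (Fin (eo p F)) F))) = 1 := by
      rw [h, Subgroup.card_bot]
    rw [Subgroup.card_top, hC] at h1
    have := Nat.one_lt_pow (n := ao p F) (a := p) (by omega) hp.out.one_lt
    omega
  obtain ⟨X, iG, iF, Λ, iT, iN, ι, hι, hpX, hc, hd⟩ :=
    exists_emb_p p ↥(C : Subgroup (GL (Fin (eo p F)) F)) C.isPGroup' 0 hC0
      (Nat.log p (n / eo p F))
  have hle : Fintype.card Λ ≤ Fintype.card (Fin (n / eo p F)) := by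
    rw [hc, Fintype.card_fin]
    exact Nat.pow_log_le_self p (by omega)
  obtain ⟨em⟩ := Function.Embedding.nonempty_of_card_le hle
  obtain ⟨Ψ₀, hΨ₀⟩ := exists_glw (F := F) (eo p F) (n / eo p F) n hepos (Nat.mul_div_le n _)
  let θ : X →* GL (Fin n) F :=
    Ψ₀.comp ((monMap (C : Subgroup (GL (Fin (eo p F)) F)).subtype (Fin (n / eo p F))).comp
      ((extHom ↥(C : Subgroup (GL (Fin (eo p F)) F)) em).comp ι))
  have hθ : Function.Injective θ :=
    hΨ₀.comp ((monMap_injective _ (Subgroup.subtype_injective _) _).comp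
      ((extHom_injective _ em).comp hι))
  have hpr : IsPGroup p θ.range := hpX.of_surjective _ (MonoidHom.rangeRestrict_surjective θ)
  obtain ⟨R₀, hR₀⟩ := hpr.exists_le_sylow
  have e1 : ↥(R₀ : Subgroup (GL (Fin n) F)) ≃* ↥(P : Subgroup (GL (Fin n) F)) := R₀.equiv P
  let θ' : X →* ↥(P : Subgroup (GL (Fin n) F)) :=
    e1.toMonoidHom.comp ((Subgroup.inclusion hR₀).comp θ.rangeRestrict)
  have hθ' : Function.Injective θ' :=
    e1.injective.comp ((Subgroup.inclusion_injective hR₀).comp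
      (MonoidHom.rangeRestrict_injective_iff.mpr hθ))
  intro hbot
  exact hd (SylDL.ds_bot_of_injective θ' hθ' _ hbot)

end

end Cfsg.Agent.Lib.helper19.GLp
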