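import Mathlib
import Cfsg.Prelude.Def_OddOrderLocal
import Cfsg.Agent.Lib.helper19.Metacyc

set_option autoImplicit false

namespace Cfsg.Agent.Lib.helper19

open scoped commutatorElement

theorem dvd_of_zpow_mem {X : Type*} [Group X] (M : Subgroup X) {p : ℕ} (hp : p.Prime) (g : X)
    (hgp : g ^ p ∈ M) (j : ℤ) (hj : g ^ j ∈ M) (hg : g ∉ M) : (p : ℤ) ∣ j := by
  by_contra h
  have hcop : IsCoprime (p : ℤ) j := (Nat.prime_iff_prime_int.mp hp).coprime_iff_not_dvd.mpr h
  obtain ⟨x, y, hxy⟩ := hcop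
  apply hg
  have h1 : g = (g ^ (p : ℤ)) ^ x * (g ^ j) ^ y := by
    rw [← zpow_mul, ← zpow_mul, ← zpow_add, mul_comm (p : ℤ) x, mul_comm j y, hxy, zpow_one]
  rw [h1]
  apply M.mul_mem
  · apply M.zpow_mem
    rw [zpow_natCast]; exact hgp
  · exact M.zpow_mem hj _

theorem pow_index_mem {X : Type*} [Group X] [Finite X] {p : ℕ} (M : Subgroup X) [M.Normal]
    (hM : M.index = p) (g : X) : g ^ p ∈ M := by
  have hcq : Nat.card (X ⧸ M) = p := by rw [← Subgroup.index_eq_card, hM]
  have h2 : ((g : X ⧸ M)) ^ p = 1 := by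
    have := pow_card_eq_one' (G := X ⧸ M) (x := (g : X ⧸ M))
    rwa [hcq] at this
  rw [← QuotientGroup.mk_pow, QuotientGroup.eq_one_iff] at h2
  exact h2

/-- A subgroup of index `p` in a nonabelian metacyclic `p`-group (`p` odd) has derived subgroup
of index `p` in the derived subgroup of the whole group. -/
theorem comm_index_p {X : Type*} [Group X] [Finite X] {p : ℕ} [Fact p.Prime] (hp2 : p ≠ 2)
    (hX : IsPGroup p X) (hmc : Cfsg.IsMetacyclic X) (hna : ¬ IsMulCommutative X)
    (M : Subgroup X) (hM : M.index = p) :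
    Nat.card (commutator ↥M) * p = Nat.card (commutator X) := by
  have hp : p.Prime := Fact.out
  obtain ⟨a, b, u, hN, hgen, hu1, hpu, hu⟩ := metacyc_data hX hmc
  haveI := hN
  haveI hMn : M.Normal := Cfsg.Agent.S3810.normal_of_index_p p hX M hM
  have hpow : ∀ g : X, g ^ p ∈ M := pow_index_mem M hM
  have hpd : p ∣ Nat.card (commutator X) := by
    obtain ⟨k, hk⟩ := IsPGroup.iff_card.mp (hX.to_subgroup (commutator X))
    have hk0 : k ≠ 0 := by
      rintro rfl
      rw [pow_zero, Subgroup.card_eq_one] at hk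
      exact hna (comm_of_commutator_eq_bot hk)
    rw [hk]; exact dvd_pow_self p hk0
  suffices hsuff : ∀ k : ℕ, Nat.card (commutator ↥M) ∣ k ↔ Nat.card (commutator X) ∣ p * k by
    obtain ⟨d', hd'⟩ := hpd
    have h1 : Nat.card (commutator ↥M) ∣ d' := by
      rw [hsuff, hd']
    have h2 : d' ∣ Nat.card (commutator ↥M) := by
      have h3 := (hsuff (Nat.card (commutator ↥M))).mp dvd_rfl
      rw [hd'] at h3
      exact Nat.dvd_of_mul_dvd_mul_left hp.pos h3
    rw [Nat.dvd_antisymm h1 h2, hd', mul_comm]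
  have hMtop : M ≠ ⊤ := by
    intro h
    rw [h, Subgroup.index_top] at hM
    exact hp.one_lt.ne hM
  by_cases haM : a ∈ M
  · -- case 1: ⟨a⟩ ≤ M
    have hbM : b ∉ M := by
      intro hb
      apply hMtop
      rw [eq_top_iff, ← hgen]
      exact sup_le ((Subgroup.zpowers_le).mpr haM) ((Subgroup.zpowers_le).mpr hb)
    have hbp : b ^ p ∈ M := hpow b
    have hn' : (Subgroup.zpowers (⟨a, haM⟩ : ↥M)).Normal := zpowers_sub_normal M a haM hN
    have hgen' : Subgroup.zpowers (⟨a, haM⟩ : ↥M) ⊔ Subgroup.zpowers (⟨b ^ p, hbp⟩ : ↥M) = ⊤ := by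
      rw [eq_top_iff]
      intro m _
      have hm : (m : X) ∈ ((Subgroup.zpowers a ⊔ Subgroup.zpowers b : Subgroup X) : Set X) := by
        rw [hgen]; trivial
      rw [Subgroup.normal_mul] at hm
      obtain ⟨x, hx, y, hy, hxy⟩ := Set.mem_mul.mp hm
      obtain ⟨i, rfl⟩ := Subgroup.mem_zpowers_iff.mp hx
      obtain ⟨j, rfl⟩ := Subgroup.mem_zpowers_iff.mp hy
      have hbj : b ^ j ∈ M := by
        have h1 : b ^ j = (a ^ i)⁻¹ * (m : X) := by rw [← hxy]; group
        rw [h1]
        exact M.mul_mem (M.inv_mem (M.zpow_mem haM i)) m.2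
      obtain ⟨j', rfl⟩ := dvd_of_zpow_mem M hp b hbp j hbj hbM
      have h2 : m = (⟨a, haM⟩ : ↥M) ^ i * (⟨b ^ p, hbp⟩ : ↥M) ^ j' := by
        apply Subtype.ext
        rw [Subgroup.coe_mul, Subgroup.coe_zpow, Subgroup.coe_zpow, ← hxy]
        show a ^ i * b ^ ((p : ℤ) * j') = a ^ i * (b ^ p) ^ j'
        rw [zpow_mul, zpow_natCast]
      rw [h2]
      exact Subgroup.mul_mem _ (Subgroup.mem_sup_left (Subgroup.zpow_mem_zpowers _ _))
        (Subgroup.mem_sup_right (Subgroup.zpow_mem_zpowers _ _))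
    intro k
    rw [← comm_dvd_iff (⟨a, haM⟩ : ↥M) (⟨b ^ p, hbp⟩ : ↥M) hn' hgen' k,
      ← comm_dvd_iff a b hN hgen (p * k)]
    have h1 : (⟨a, haM⟩ : ↥M) ^ k ∈ Subgroup.centralizer {(⟨b ^ p, hbp⟩ : ↥M)}
        ↔ a ^ k ∈ Subgroup.centralizer {b ^ p} := by
      rw [Subgroup.mem_centralizer_singleton_iff, Subgroup.mem_centralizer_singleton_iff,
        Subtype.ext_iff]
      rfl
    obtain ⟨α, hα⟩ := orderOf_eq_pow hX a
    rw [h1, cent_iff a (b ^ p) (u ^ p) (Nat.one_le_pow _ _ hu1) (pow_conj_exp a b u hu p) k,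
      cent_iff a b u hu1 hu (p * k), hα, lte_dvd hp2 u hu1 hpu α p k, mul_assoc]
  · -- case 2: a ∉ M
    have hgenM : M ⊔ Subgroup.zpowers a = ⊤ := Cfsg.Agent.S3807.gen_of p M hM a haM
    have hbm : b ∈ ((M ⊔ Subgroup.zpowers a : Subgroup X) : Set X) := by rw [hgenM]; trivial
    rw [Subgroup.normal_mul] at hbm
    obtain ⟨c, hc, y, hy, hcy⟩ := Set.mem_mul.mp hbm
    obtain ⟨j, rfl⟩ := Subgroup.mem_zpowers_iff.mp hy
    have hc' : c ∈ M := hc
    have hgen2 : Subgroup.zpowers a ⊔ Subgroup.zpowers c = ⊤ := by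
      rw [eq_top_iff, ← hgen]
      apply sup_le le_sup_left
      rw [Subgroup.zpowers_le, ← hcy]
      exact Subgroup.mul_mem _ (Subgroup.mem_sup_right (Subgroup.mem_zpowers c))
        (Subgroup.mem_sup_left (Subgroup.zpow_mem_zpowers a j))
    have hap : a ^ p ∈ M := hpow a
    have hn'' : (Subgroup.zpowers (⟨a ^ p, hap⟩ : ↥M)).Normal :=
      zpowers_sub_normal M (a ^ p) hap (zpowers_pow_normal a hN p)
    have hgen'' : Subgroup.zpowers (⟨a ^ p, hap⟩ : ↥M) ⊔ Subgroup.zpowers (⟨c, hc'⟩ : ↥M) = ⊤ := by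
      rw [eq_top_iff]
      intro m _
      have hm : (m : X) ∈ ((Subgroup.zpowers a ⊔ Subgroup.zpowers c : Subgroup X) : Set X) := by
        rw [hgen2]; trivial
      rw [Subgroup.normal_mul] at hm
      obtain ⟨x, hx, z, hz, hxz⟩ := Set.mem_mul.mp hm
      obtain ⟨i, rfl⟩ := Subgroup.mem_zpowers_iff.mp hx
      obtain ⟨l, rfl⟩ := Subgroup.mem_zpowers_iff.mp hz
      have hai : a ^ i ∈ M := by
        have h1 : a ^ i = (m : X) * (c ^ l)⁻¹ := by rw [← hxz]; group
        rw [h1]
        exact M.mul_mem m.2 (M.inv_mem (M.zpow_mem hc' l))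
      obtain ⟨i', rfl⟩ := dvd_of_zpow_mem M hp a hap i hai haM
      have h2 : m = (⟨a ^ p, hap⟩ : ↥M) ^ i' * (⟨c, hc'⟩ : ↥M) ^ l := by
        apply Subtype.ext
        rw [Subgroup.coe_mul, Subgroup.coe_zpow, Subgroup.coe_zpow, ← hxz]
        show a ^ ((p : ℤ) * i') * c ^ l = (a ^ p) ^ i' * c ^ l
        rw [zpow_mul, zpow_natCast]
      rw [h2]
      exact Subgroup.mul_mem _ (Subgroup.mem_sup_left (Subgroup.zpow_mem_zpowers _ _))
        (Subgroup.mem_sup_right (Subgroup.zpow_mem_zpowers _ _))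
    intro k
    rw [← comm_dvd_iff (⟨a ^ p, hap⟩ : ↥M) (⟨c, hc'⟩ : ↥M) hn'' hgen'' k,
      ← comm_dvd_iff a c hN hgen2 (p * k)]
    rw [Subgroup.mem_centralizer_singleton_iff, Subgroup.mem_centralizer_singleton_iff,
      Subtype.ext_iff, pow_mul]
    rfl

/-- For every subgroup `R` of a metacyclic `p`-group (`p` odd): either `|R : R'| = |G : G'|`,
or `R` is abelian of order at most `|G : G'|`. -/
theorem sub_card {G : Type*} [Group G] [Finite G] {p : ℕ} [Fact p.Prime] (hp2 : p ≠ 2)
    (hG : IsPGroup p G) (hmc : Cfsg.IsMetacyclic G) :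
    ∀ (n : ℕ) (R : Subgroup G), R.index = n →
    (Nat.card R = (commutator G).index * Nat.card (commutator ↥R) ∨
      (IsMulCommutative ↥R ∧ Nat.card R ≤ (commutator G).index)) := by
  have hp : p.Prime := Fact.out
  intro n
  induction n using Nat.strong_induction_on with
  | _ n ih =>
    intro R hRn
    by_cases hRtop : R = ⊤
    · left
      subst hRtop
      rw [Nat.card_congr (Subgroup.topEquiv (G := G)).toEquiv,
        card_commutator_congr (Subgroup.topEquiv (G := G)), mul_comm]
      exact (Subgroup.card_mul_index _).symm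
    · obtain ⟨r, hr⟩ := IsPGroup.iff_card.mp (hG.to_subgroup R)
      obtain ⟨g, hg⟩ := IsPGroup.iff_card.mp hG
      have hRi := Subgroup.card_mul_index R
      have hidx1 : R.index ≠ 1 := fun h => hRtop (Subgroup.index_eq_one.mp h)
      have hrg : r < g := by
        have h1 : p ^ r ∣ p ^ g := by rw [← hr, ← hg]; exact Subgroup.card_subgroup_dvd_card R
        have h2 : r ≤ g := (Nat.pow_dvd_pow_iff_le_right hp.one_lt).mp h1
        rcases Nat.lt_or_ge r g with h3 | h3
        · exact h3
        · exfalso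
          have h4 : r = g := le_antisymm h2 h3
          rw [hr, hg, h4] at hRi
          apply hidx1
          have : p ^ g * R.index = p ^ g * 1 := by rw [hRi, mul_one]
          exact Nat.eq_of_mul_eq_mul_left (pow_pos hp.pos g) this
      have hdvd : p ^ (r + 1) ∣ Nat.card G := by
        rw [hg]; exact Nat.pow_dvd_pow p hrg
      obtain ⟨K, hKc, hRK⟩ := Sylow.exists_subgroup_card_pow_succ hdvd hr
      have hKi := Subgroup.card_mul_index K
      have hidx : R.index = p * K.index := by
        have h1 : p ^ r * R.index = p ^ r * (p * K.index) := by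
          rw [← hr, hRi, ← hKi, hKc, hr]; ring
        exact Nat.eq_of_mul_eq_mul_left (pow_pos hp.pos r) h1
      have hKpos : 0 < K.index := Nat.pos_of_ne_zero Subgroup.index_ne_zero_of_finite
      have hlt : K.index < n := by
        rw [← hRn, hidx]
        have := hp.two_le
        nlinarith
      have hPK := ih K.index hlt K rfl
      have hRab_of : IsMulCommutative ↥K → IsMulCommutative ↥R := by
        intro hK
        exact ⟨⟨fun x y => Subtype.ext (show (x : G) * (y : G) = (y : G) * (x : G) from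
          congrArg Subtype.val (hK.is_comm.comm ⟨(x : G), hRK x.2⟩ ⟨(y : G), hRK y.2⟩))⟩⟩
      have hRleK : Nat.card R ≤ Nat.card K := Subgroup.card_le_of_le hRK
      have hKR : Nat.card K = p * Nat.card R := by rw [hKc, hr]; ring
      rcases hPK with hK1 | ⟨hKab, hKle⟩
      · by_cases hKab : IsMulCommutative ↥K
        · right
          refine ⟨hRab_of hKab, ?_⟩
          rw [commutator_eq_bot_of_comm hKab] at hK1
          have h1 : Nat.card (⊥ : Subgroup ↥K) = 1 := Subgroup.card_eq_one.mpr rfl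
          rw [h1, mul_one] at hK1
          rw [← hK1]; exact hRleK
        · left
          have hR'i : (R.subgroupOf K).index = p := by
            have h1 := Subgroup.card_mul_index (R.subgroupOf K)
            rw [Nat.card_congr (Subgroup.subgroupOfEquivOfLe hRK).toEquiv, hKR] at h1
            have h2 : Nat.card R * (R.subgroupOf K).index = Nat.card R * p := by rw [h1]; ring
            exact Nat.eq_of_mul_eq_mul_left Nat.card_pos h2
          have h3 := comm_index_p hp2 (hG.to_subgroup K) (metacyclic_subgroup hmc K) hKab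
            (R.subgroupOf K) hR'i
          rw [card_commutator_congr (Subgroup.subgroupOfEquivOfLe hRK)] at h3
          rw [← h3, hKR] at hK1
          have h4 : p * Nat.card R
              = p * ((commutator G).index * Nat.card (commutator ↥R)) := by
            rw [hK1]; ring
          exact Nat.eq_of_mul_eq_mul_left hp.pos h4
      · right
        exact ⟨hRab_of hKab, hRleK.trans hKle⟩

theorem sub_card' {G : Type*} [Group G] [Finite G] {p : ℕ} [Fact p.Prime] (hp2 : p ≠ 2)
    (hG : IsPGroup p G) (hmc : Cfsg.IsMetacyclic G) (R : Subgroup G) :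
    (Nat.card R = (commutator G).index * Nat.card (commutator ↥R) ∨
      (IsMulCommutative ↥R ∧ Nat.card R ≤ (commutator G).index)) :=
  sub_card hp2 hG hmc R.index R rfl

/-- abelian iff order at most `|G : G'|` -/
theorem abelian_iff_card_le {G : Type*} [Group G] [Finite G] {p : ℕ} [Fact p.Prime] (hp2 : p ≠ 2)
    (hG : IsPGroup p G) (hmc : Cfsg.IsMetacyclic G) (L : Subgroup G) :
    IsMulCommutative ↥L ↔ Nat.card ↥L ≤ (commutator G).index := by
  have hipos : 0 < (commutator G).index := Nat.pos_of_ne_zero Subgroup.index_ne_zero_of_finite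
  constructor
  · intro hL
    rcases sub_card' hp2 hG hmc L with h | ⟨_, h⟩
    · rw [commutator_eq_bot_of_comm hL] at h
      have h1 : Nat.card (⊥ : Subgroup ↥L) = 1 := Subgroup.card_eq_one.mpr rfl
      rw [h1, mul_one] at h
      exact h.le
    · exact h
  · intro hle
    rcases sub_card' hp2 hG hmc L with h | ⟨h, _⟩
    · rw [h] at hle
      have h1 : Nat.card (commutator ↥L) ≤ 1 := by
        by_contra hcon
        push_neg at hcon
        have : (commutator G).index * 1 < (commutator G).index * Nat.card (commutator ↥L) :=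
          Nat.mul_lt_mul_of_pos_left hcon hipos
        omega
      have h2 : Nat.card (commutator ↥L) = 1 := le_antisymm h1 Nat.card_pos
      exact comm_of_commutator_eq_bot (Subgroup.card_eq_one.mp h2)
    · exact h

/-- maximal abelian iff order exactly `|G : G'|` -/
theorem maximal_abelian_iff {G : Type*} [Group G] [Finite G] {p : ℕ} [Fact p.Prime] (hp2 : p ≠ 2)
    (hG : IsPGroup p G) (hmc : Cfsg.IsMetacyclic G) (L : Subgroup G) :
    Maximal (fun K : Subgroup G => IsMulCommutative ↥K) L ↔ Nat.card ↥L = (commutator G).index := by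
  have hp : p.Prime := Fact.out
  constructor
  · intro hmax
    have hle := (abelian_iff_card_le hp2 hG hmc L).mp hmax.1
    by_contra hne
    have hlt : Nat.card ↥L < (commutator G).index := lt_of_le_of_ne hle hne
    obtain ⟨r, hr⟩ := IsPGroup.iff_card.mp (hG.to_subgroup L)
    obtain ⟨i, hi⟩ : ∃ i, (commutator G).index = p ^ i := by
      obtain ⟨g, hg⟩ := IsPGroup.iff_card.mp hG
      have h1 : (commutator G).index ∣ p ^ g := by rw [← hg]; exact Subgroup.index_dvd_card _
      obtain ⟨i, _, hi⟩ := (Nat.dvd_prime_pow hp).mp h1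
      exact ⟨i, hi⟩
    rw [hr, hi] at hlt
    have hri : r < i := (Nat.pow_lt_pow_iff_right hp.one_lt).mp hlt
    have hdvd : p ^ (r + 1) ∣ Nat.card G := by
      have h1 : p ^ (r + 1) ∣ p ^ i := Nat.pow_dvd_pow p hri
      rw [← hi] at h1
      exact h1.trans (Subgroup.index_dvd_card _)
    obtain ⟨K, hKc, hLK⟩ := Sylow.exists_subgroup_card_pow_succ hdvd hr
    have hKab : IsMulCommutative ↥K := by
      rw [abelian_iff_card_le hp2 hG hmc K, hKc, hi]
      exact Nat.pow_le_pow_right hp.pos hri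
    have hKL := hmax.2 hKab hLK
    have h2 := Subgroup.card_le_of_le hKL
    rw [hKc, hr] at h2
    have h3 : p ^ r < p ^ (r + 1) := Nat.pow_lt_pow_right hp.one_lt (Nat.lt_succ_self r)
    omega
  · intro hcard
    refine ⟨(abelian_iff_card_le hp2 hG hmc L).mpr hcard.le, ?_⟩
    intro K hK hLK
    have h1 := (abelian_iff_card_le hp2 hG hmc K).mp hK
    rw [← hcard] at h1
    exact (Subgroup.eq_of_le_of_card_ge hLK h1).ge

end Cfsg.Agent.Lib.helper19
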