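import Mathlib
import Cfsg.Prelude.Def_OddOrderLocal
import Cfsg.Agent.Lib.helper19.Metacyc2

set_option autoImplicit false

namespace Cfsg.Agent.Lib.helper19

open scoped commutatorElement

theorem commutator_cyclic {X : Type*} [Group X] [Finite X] {p : ℕ} [Fact p.Prime]
    (hX : IsPGroup p X) (hmc : Cfsg.IsMetacyclic X) :
    ∃ w : X, Subgroup.zpowers w = commutator X := by
  obtain ⟨a, b, u, hN, hgen, hu1, hpu, hu⟩ := metacyc_data hX hmc
  haveI := hN
  obtain ⟨hle, _⟩ := card_eq_cent_mul_comm (Subgroup.zpowers a) (comm_zpowers a) b hgen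
  haveI : IsCyclic ↥(commutator X) :=
    isCyclic_of_injective (Subgroup.inclusion hle) (Subgroup.inclusion_injective hle)
  exact ((commutator X).isCyclic_iff_exists_zpowers_eq_top).mp inferInstance

theorem mul_pow_exp {X : Type*} [Group X] (z r : X) (l : ℕ) (h : r * z * r⁻¹ = z ^ l) (k : ℕ) :
    (z * r) ^ k = z ^ (∑ i ∈ Finset.range k, l ^ i) * r ^ k := by
  induction k with
  | zero => simp
  | succ k ih =>
    have h1 := pow_conj_exp z r l h k
    rw [pow_succ, ih, Finset.sum_range_succ, pow_add, pow_succ]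
    calc z ^ (∑ i ∈ Finset.range k, l ^ i) * r ^ k * (z * r)
        = z ^ (∑ i ∈ Finset.range k, l ^ i) * (r ^ k * z * (r ^ k)⁻¹) * (r ^ k * r) := by group
      _ = _ := by rw [h1]

/-- conjugation by `r` on an element of the cyclic normal subgroup `⟨w⟩` -/
theorem conj_of_mem_zpowers {X : Type*} [Group X] (w r : X) (l : ℕ) (hl : r * w * r⁻¹ = w ^ l)
    (z : X) (hz : z ∈ Subgroup.zpowers w) : r * z * r⁻¹ = z ^ l := by
  obtain ⟨j, rfl⟩ := Subgroup.mem_zpowers_iff.mp hz
  have e1 : r * w ^ j * r⁻¹ = (MulAut.conj r) (w ^ j) := rfl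
  rw [e1, map_zpow, MulAut.conj_apply, hl, ← zpow_natCast, ← zpow_mul, ← zpow_natCast, ← zpow_mul,
    mul_comm]

theorem comm_mem_commutator {X : Type*} [Group X] (c r : X) :
    c * r * c⁻¹ * r⁻¹ ∈ commutator X := by
  rw [commutator_def, ← commutatorElement_def]
  exact Subgroup.commutator_mem_commutator (Subgroup.mem_top _) (Subgroup.mem_top _)

theorem comm_pow_eq_one {X : Type*} [Group X] [Finite X] {p : ℕ} [Fact p.Prime] (hp2 : p ≠ 2)
    (hX : IsPGroup p X) (w : X) (hw : Subgroup.zpowers w = commutator X) (c r : X)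
    (hc : c * r ^ p = r ^ p * c) : (c * r * c⁻¹ * r⁻¹) ^ p = 1 := by
  have hp : p.Prime := Fact.out
  have hWn : (Subgroup.zpowers w).Normal := by rw [hw]; infer_instance
  have hzW : c * r * c⁻¹ * r⁻¹ ∈ Subgroup.zpowers w := by
    rw [hw]; exact comm_mem_commutator c r
  obtain ⟨l, hl1, hpl, hl⟩ := exists_exp hX w hWn r
  have hrz := conj_of_mem_zpowers w r l hl _ hzW
  have h1 := mul_pow_exp (c * r * c⁻¹ * r⁻¹) r l hrz p
  have h2 : c * r * c⁻¹ * r⁻¹ * r = c * r * c⁻¹ := by group
  rw [h2, conj_pow] at h1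
  have h3 : c * r ^ p * c⁻¹ = r ^ p := by rw [hc]; group
  rw [h3] at h1
  have h4 : (c * r * c⁻¹ * r⁻¹) ^ (∑ i ∈ Finset.range p, l ^ i) = 1 := by
    have h5 : (c * r * c⁻¹ * r⁻¹) ^ (∑ i ∈ Finset.range p, l ^ i) * r ^ p = 1 * r ^ p := by
      rw [one_mul]; exact h1.symm
    exact mul_right_cancel h5
  obtain ⟨e, he⟩ := orderOf_eq_pow hX (c * r * c⁻¹ * r⁻¹)
  have h5 : p ^ e ∣ ∑ i ∈ Finset.range p, l ^ i := by
    rw [← he]; exact orderOf_dvd_of_pow_eq_one h4
  rw [geom_dvd hp2 l hl1 hpl e p] at h5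
  have h6 : e ≤ 1 := by
    have h7 : p ^ e ∣ p ^ 1 := by rw [pow_one]; exact h5
    exact (Nat.pow_dvd_pow_iff_le_right hp.one_lt).mp h7
  apply orderOf_dvd_iff_pow_eq_one.mp
  rw [he]
  calc p ^ e ∣ p ^ 1 := Nat.pow_dvd_pow p h6
    _ = p := pow_one p

/-- enlarging a subgroup by index `p` shrinks its centralizer by index at most `p` -/
theorem card_cent_le {X : Type*} [Group X] [Finite X] {p : ℕ} [Fact p.Prime] (hp2 : p ≠ 2)
    (hX : IsPGroup p X) (w : X) (hw : Subgroup.zpowers w = commutator X) (R R' : Subgroup X)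
    (hle : R ≤ R') (hcard : Nat.card R' = p * Nat.card R) :
    Nat.card (Subgroup.centralizer (R : Set X))
      ≤ p * Nat.card (Subgroup.centralizer (R' : Set X)) := by
  classical
  have hp : p.Prime := Fact.out
  have hidx : (R.subgroupOf R').index = p := by
    have h1 := Subgroup.card_mul_index (R.subgroupOf R')
    rw [Nat.card_congr (Subgroup.subgroupOfEquivOfLe hle).toEquiv, hcard] at h1
    have h2 : Nat.card R * (R.subgroupOf R').index = Nat.card R * p := by rw [h1]; ring
    exact Nat.eq_of_mul_eq_mul_left Nat.card_pos h2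
  haveI hn : (R.subgroupOf R').Normal :=
    Cfsg.Agent.S3810.normal_of_index_p p (hX.to_subgroup R') _ hidx
  have hpow : ∀ r ∈ R', r ^ p ∈ R := by
    intro r hr
    have h1 := pow_index_mem (R.subgroupOf R') hidx ⟨r, hr⟩
    rw [Subgroup.mem_subgroupOf] at h1
    exact h1
  obtain ⟨r, hrR', hrR⟩ : ∃ r ∈ R', r ∉ R := by
    by_contra hcon
    push_neg at hcon
    have h0 : R' ≤ R := hcon
    have h1 := Subgroup.card_le_of_le h0
    rw [hcard] at h1
    have h2 := hp.two_le
    have hpos : 0 < Nat.card R := Nat.card_pos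
    nlinarith
  have hsup : R ⊔ Subgroup.zpowers r = R' := by
    have h1 : R ⊔ Subgroup.zpowers r ≤ R' := sup_le hle ((Subgroup.zpowers_le).mpr hrR')
    have h2 : R ≠ R ⊔ Subgroup.zpowers r := by
      intro h
      apply hrR
      rw [h]
      exact Subgroup.mem_sup_right (Subgroup.mem_zpowers r)
    have h3 := Cfsg.Agent.S3778.p_mul_card_le hX (le_sup_left : R ≤ R ⊔ Subgroup.zpowers r) h2
    exact Subgroup.eq_of_le_of_card_ge h1 (by rw [hcard]; exact h3)
  have hC' : ∀ x : X, x ∈ Subgroup.centralizer (R : Set X) → x * r = r * x →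
      x ∈ Subgroup.centralizer (R' : Set X) := by
    intro x hx hxr
    rw [Subgroup.mem_centralizer_iff]
    intro y hy
    have h1 : R ⊔ Subgroup.zpowers r ≤ Subgroup.centralizer {x} := by
      apply sup_le
      · intro y hy
        rw [Subgroup.mem_centralizer_singleton_iff]
        exact Subgroup.mem_centralizer_iff.mp hx y hy
      · rw [Subgroup.zpowers_le, Subgroup.mem_centralizer_singleton_iff]
        exact hxr.symm
    rw [← hsup] at hy
    have h2 := h1 hy
    rw [Subgroup.mem_centralizer_singleton_iff] at h2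
    exact h2
  haveI : Fintype X := Fintype.ofFinite X
  haveI : Fintype ↥(Subgroup.centralizer (R : Set X)) := Fintype.ofFinite _
  let f : ↥(Subgroup.centralizer (R : Set X)) → X := fun c => (c : X) * r * (c : X)⁻¹ * r⁻¹
  let T : Finset X := Finset.univ.filter (fun z => z ∈ Subgroup.zpowers w ∧ z ^ p = 1)
  have hT : T.card ≤ p := by
    haveI : Fintype ↥(Subgroup.zpowers w) := Fintype.ofFinite _
    have h1 : T ⊆ (Finset.univ.filter (fun a : ↥(Subgroup.zpowers w) => a ^ p = 1)).image
        Subtype.val := by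
      intro z hz
      rw [Finset.mem_filter] at hz
      rw [Finset.mem_image]
      refine ⟨⟨z, hz.2.1⟩, ?_, rfl⟩
      rw [Finset.mem_filter]
      exact ⟨Finset.mem_univ _, Subtype.ext hz.2.2⟩
    calc T.card ≤ _ := Finset.card_le_card h1
      _ ≤ (Finset.univ.filter (fun a : ↥(Subgroup.zpowers w) => a ^ p = 1)).card :=
          Finset.card_image_le
      _ ≤ p := IsCyclic.card_pow_eq_one_le hp.pos
  have himg : (Finset.univ.image f) ⊆ T := by
    intro z hz
    obtain ⟨c, _, rfl⟩ := Finset.mem_image.mp hz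
    rw [Finset.mem_filter]
    refine ⟨Finset.mem_univ _, ?_, ?_⟩
    · rw [hw]; exact comm_mem_commutator _ _
    · apply comm_pow_eq_one hp2 hX w hw
      exact (Subgroup.mem_centralizer_iff.mp c.2 (r ^ p) (hpow r hrR')).symm
  have hfib : ∀ b ∈ Finset.univ.image f, (Finset.univ.filter (fun c => f c = b)).card
      ≤ Nat.card (Subgroup.centralizer (R' : Set X)) := by
    intro b hb
    obtain ⟨c₀, _, rfl⟩ := Finset.mem_image.mp hb
    have hcard' : Nat.card (Subgroup.centralizer (R' : Set X))
        = (Finset.univ.filter (fun x : X => x ∈ Subgroup.centralizer (R' : Set X))).card :=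
      Nat.subtype_card _ (by simp)
    rw [hcard']
    apply Finset.card_le_card_of_injOn
      (fun c : ↥(Subgroup.centralizer (R : Set X)) => (c₀ : X)⁻¹ * (c : X))
    · intro c hc
      have hc' : f c = f c₀ := (Finset.mem_filter.mp hc).2
      have hc'' : (c : X) * r * (c : X)⁻¹ * r⁻¹ = (c₀ : X) * r * (c₀ : X)⁻¹ * r⁻¹ := hc'
      show (c₀ : X)⁻¹ * (c : X) ∈ (Finset.univ.filter
        (fun x : X => x ∈ Subgroup.centralizer (R' : Set X)) : Finset X)
      rw [Finset.mem_filter]
      refine ⟨Finset.mem_univ _, ?_⟩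
      apply hC'
      · exact Subgroup.mul_mem _ (Subgroup.inv_mem _ c₀.2) c.2
      · have h1 : (c : X) * r * (c : X)⁻¹ = (c₀ : X) * r * (c₀ : X)⁻¹ := by
          have h2 : (c : X) * r * (c : X)⁻¹ = ((c : X) * r * (c : X)⁻¹ * r⁻¹) * r := by group
          rw [h2, hc'']; group
        calc (c₀ : X)⁻¹ * (c : X) * r = (c₀ : X)⁻¹ * ((c : X) * r * (c : X)⁻¹) * (c : X) := by group
          _ = (c₀ : X)⁻¹ * ((c₀ : X) * r * (c₀ : X)⁻¹) * (c : X) := by rw [h1]
          _ = r * ((c₀ : X)⁻¹ * (c : X)) := by group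
    · intro c _ c' _ hcc
      have h1 : (c₀ : X)⁻¹ * (c : X) = (c₀ : X)⁻¹ * (c' : X) := hcc
      exact Subtype.ext (mul_left_cancel h1)
  have h1 := Finset.card_le_mul_card_image (Finset.univ : Finset ↥(Subgroup.centralizer (R : Set X)))
    (Nat.card (Subgroup.centralizer (R' : Set X))) hfib
  rw [Finset.card_univ, ← Nat.card_eq_fintype_card] at h1
  calc Nat.card (Subgroup.centralizer (R : Set X))
      ≤ Nat.card (Subgroup.centralizer (R' : Set X)) * (Finset.univ.image f).card := h1
    _ ≤ Nat.card (Subgroup.centralizer (R' : Set X)) * p :=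
        Nat.mul_le_mul_left _ ((Finset.card_le_card himg).trans hT)
    _ = _ := mul_comm _ _

theorem cd_mono {X : Type*} [Group X] [Finite X] {p : ℕ} [Fact p.Prime] (hp2 : p ≠ 2)
    (hX : IsPGroup p X) (w : X) (hw : Subgroup.zpowers w = commutator X) :
    ∀ (n : ℕ) (R S : Subgroup X), R ≤ S → Nat.card S - Nat.card R = n →
      Nat.card R * Nat.card (Subgroup.centralizer (R : Set X))
        ≤ Nat.card S * Nat.card (Subgroup.centralizer (S : Set X)) := by
  have hp : p.Prime := Fact.out
  intro n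
  induction n using Nat.strong_induction_on with
  | _ n ih =>
    intro R S hRS hn
    by_cases hEq : R = S
    · subst hEq; exact le_refl _
    · obtain ⟨r, hr⟩ := IsPGroup.iff_card.mp (hX.to_subgroup R)
      obtain ⟨s, hs⟩ := IsPGroup.iff_card.mp (hX.to_subgroup S)
      have hlt : Nat.card R < Nat.card S := by
        by_contra hcon
        push_neg at hcon
        exact hEq (Subgroup.eq_of_le_of_card_ge hRS hcon)
      have hrs : r < s := by
        rw [hr, hs] at hlt; exact (Nat.pow_lt_pow_iff_right hp.one_lt).mp hlt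
      have hdvd : p ^ (r + 1) ∣ Nat.card ↥S := by rw [hs]; exact Nat.pow_dvd_pow p hrs
      have hr' : Nat.card (R.subgroupOf S) = p ^ r := by
        rw [Nat.card_congr (Subgroup.subgroupOfEquivOfLe hRS).toEquiv, hr]
      obtain ⟨K', hK'c, hK'⟩ := Sylow.exists_subgroup_card_pow_succ hdvd hr'
      have hKc : Nat.card (K'.map S.subtype) = p * Nat.card R := by
        rw [Subgroup.card_map_of_injective S.subtype_injective, hK'c, hr]; ring
      have hRK : R ≤ K'.map S.subtype := by
        intro x hx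
        exact ⟨⟨x, hRS hx⟩, hK' (Subgroup.mem_subgroupOf.mpr hx), rfl⟩
      have hKS : K'.map S.subtype ≤ S := by
        rintro _ ⟨y, _, rfl⟩; exact y.2
      have hstep := card_cent_le hp2 hX w hw R (K'.map S.subtype) hRK hKc
      have hKle : Nat.card (K'.map S.subtype) ≤ Nat.card S := Subgroup.card_le_of_le hKS
      have hpos : 0 < Nat.card R := Nat.card_pos
      have h2 := hp.two_le
      have hlt2 : Nat.card S - Nat.card (K'.map S.subtype) < n := by
        rw [← hn]
        have h3 : Nat.card R < Nat.card (K'.map S.subtype) := by rw [hKc]; nlinarith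
        omega
      have hIH := ih _ hlt2 (K'.map S.subtype) S hKS rfl
      calc Nat.card R * Nat.card (Subgroup.centralizer (R : Set X))
          ≤ Nat.card R * (p * Nat.card (Subgroup.centralizer
              ((K'.map S.subtype : Subgroup X) : Set X))) := Nat.mul_le_mul_left _ hstep
        _ = Nat.card (K'.map S.subtype) * Nat.card (Subgroup.centralizer
              ((K'.map S.subtype : Subgroup X) : Set X)) := by rw [hKc]; ring
        _ ≤ _ := hIH

/-- `|R| |C(R)| = |X| |Z(X)|` for every subgroup containing the centre -/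
theorem cd_eq {X : Type*} [Group X] [Finite X] {p : ℕ} [Fact p.Prime] (hp2 : p ≠ 2)
    (hX : IsPGroup p X) (hmc : Cfsg.IsMetacyclic X) (R : Subgroup X)
    (hZR : Subgroup.center X ≤ R) :
    Nat.card R * Nat.card (Subgroup.centralizer (R : Set X))
      = Nat.card X * Nat.card (Subgroup.center X) := by
  obtain ⟨w, hw⟩ := commutator_cyclic hX hmc
  have h1 := cd_mono hp2 hX w hw _ (Subgroup.center X) R hZR rfl
  have h2 := cd_mono hp2 hX w hw _ R ⊤ le_top rfl
  have h3 : Subgroup.centralizer ((Subgroup.center X : Subgroup X) : Set X) = ⊤ :=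
    Subgroup.centralizer_eq_top_iff_subset.mpr (le_refl _)
  have h4 : Subgroup.centralizer (((⊤ : Subgroup X)) : Set X) = Subgroup.center X := by
    rw [Subgroup.coe_top, Subgroup.centralizer_univ]
  rw [h3, Subgroup.card_top] at h1
  rw [h4, Subgroup.card_top] at h2
  rw [mul_comm] at h1
  exact le_antisymm h2 h1

end Cfsg.Agent.Lib.helper19
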