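import Mathlib
import Cfsg.Prelude.Def_OddOrderLocal
import Cfsg.Agent.Lib.helper19.Metacyc3
import Cfsg.Agent.Lib.helper1.Metacyc

set_option autoImplicit false

namespace Cfsg.Agent.Lib.helper19

open scoped commutatorElement

/-- the number of distinct commutators `[c, g]` is the class size of `g` -/
theorem card_image_comm {X : Type*} [Group X] [Fintype X] [DecidableEq X] (g : X) :
    (Finset.univ.image (fun c : X => c * g * c⁻¹ * g⁻¹)).card
      = (Subgroup.centralizer {g}).index := by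
  classical
  have hfib : ∀ b ∈ Finset.univ.image (fun c : X => c * g * c⁻¹ * g⁻¹),
      (Finset.univ.filter (fun c : X => c * g * c⁻¹ * g⁻¹ = b)).card
        = Nat.card (Subgroup.centralizer {g}) := by
    intro b hb
    obtain ⟨c₀, _, rfl⟩ := Finset.mem_image.mp hb
    have hcard' : Nat.card (Subgroup.centralizer {g})
        = (Finset.univ.filter (fun x : X => x ∈ Subgroup.centralizer {g})).card :=
      Nat.subtype_card _ (by simp)
    rw [hcard']
    apply Finset.card_bij (fun c _ => c₀⁻¹ * c)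
    · intro c hc
      rw [Finset.mem_filter] at hc ⊢
      refine ⟨Finset.mem_univ _, ?_⟩
      rw [Subgroup.mem_centralizer_singleton_iff]
      have h1 : c * g * c⁻¹ = c₀ * g * c₀⁻¹ := by
        have h2 : c * g * c⁻¹ = (c * g * c⁻¹ * g⁻¹) * g := by group
        rw [h2, hc.2]; group
      calc c₀⁻¹ * c * g = c₀⁻¹ * (c * g * c⁻¹) * c := by group
        _ = c₀⁻¹ * (c₀ * g * c₀⁻¹) * c := by rw [h1]
        _ = g * (c₀⁻¹ * c) := by group
    · intro c _ c' _ h
      exact mul_left_cancel h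
    · intro b hb
      rw [Finset.mem_filter] at hb
      have hb' := Subgroup.mem_centralizer_singleton_iff.mp hb.2
      refine ⟨c₀ * b, ?_, by group⟩
      rw [Finset.mem_filter]
      refine ⟨Finset.mem_univ _, ?_⟩
      calc c₀ * b * g * (c₀ * b)⁻¹ * g⁻¹ = c₀ * (b * g) * b⁻¹ * c₀⁻¹ * g⁻¹ := by group
        _ = c₀ * (g * b) * b⁻¹ * c₀⁻¹ * g⁻¹ := by rw [hb']
        _ = c₀ * g * c₀⁻¹ * g⁻¹ := by group
  have hsum := Finset.card_eq_sum_card_fiberwise (f := fun c : X => c * g * c⁻¹ * g⁻¹)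
    (s := Finset.univ) (t := Finset.univ.image (fun c : X => c * g * c⁻¹ * g⁻¹))
    (fun c _ => Finset.mem_coe.mpr (Finset.mem_image_of_mem _ (Finset.mem_univ c)))
  rw [Finset.sum_congr rfl hfib, Finset.sum_const, smul_eq_mul, Finset.card_univ,
    ← Nat.card_eq_fintype_card] at hsum
  have h3 := Subgroup.card_mul_index (Subgroup.centralizer {g})
  rw [hsum] at h3
  have h4 : Nat.card (Subgroup.centralizer {g})
      * (Finset.univ.image (fun c : X => c * g * c⁻¹ * g⁻¹)).card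
      = Nat.card (Subgroup.centralizer {g}) * (Subgroup.centralizer {g}).index := by
    rw [h3]; ring
  exact Nat.eq_of_mul_eq_mul_left Nat.card_pos h4

theorem comm_pow_left {X : Type*} [Group X] (w c g : X) (l : ℕ) (hl : c * w * c⁻¹ = w ^ l)
    (hz : c * g * c⁻¹ * g⁻¹ ∈ Subgroup.zpowers w) (k : ℕ) :
    c ^ k * g * (c ^ k)⁻¹ * g⁻¹ = (c * g * c⁻¹ * g⁻¹) ^ (∑ i ∈ Finset.range k, l ^ i) := by
  induction k with
  | zero => simp
  | succ k ih =>
    have h1 : c ^ (k + 1) * g * (c ^ (k + 1))⁻¹ * g⁻¹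
        = c * (c ^ k * g * (c ^ k)⁻¹ * g⁻¹) * c⁻¹ * (c * g * c⁻¹ * g⁻¹) := by
      rw [pow_succ']; group
    have h2 : (c * g * c⁻¹ * g⁻¹) ^ (∑ i ∈ Finset.range k, l ^ i) ∈ Subgroup.zpowers w :=
      Subgroup.pow_mem _ hz _
    rw [h1, ih, conj_of_mem_zpowers w c l hl _ h2, ← pow_mul, ← pow_succ]
    congr 1
    rw [Finset.sum_range_succ', pow_zero, Finset.sum_mul]
    congr 1

theorem geom_inj {X : Type*} [Group X] {p : ℕ} [Fact p.Prime] (hp2 : p ≠ 2) (l : ℕ) (hl1 : 1 ≤ l)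
    (hpl : p ∣ l - 1) (z : X) (e : ℕ) (he : orderOf z = p ^ e) (j k : ℕ) (hjk : j ≤ k)
    (hk : k < p ^ e)
    (h : z ^ (∑ i ∈ Finset.range j, l ^ i) = z ^ (∑ i ∈ Finset.range k, l ^ i)) : j = k := by
  have hp : p.Prime := Fact.out
  obtain ⟨m, rfl⟩ : ∃ m, k = j + m := ⟨k - j, by omega⟩
  rw [Finset.sum_range_add, pow_add] at h
  have h1 : z ^ (∑ x ∈ Finset.range m, l ^ (j + x)) = 1 := by
    have h0 : z ^ (∑ i ∈ Finset.range j, l ^ i) * z ^ (∑ x ∈ Finset.range m, l ^ (j + x))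
        = z ^ (∑ i ∈ Finset.range j, l ^ i) * 1 := by
      rw [mul_one]; exact h.symm
    exact mul_left_cancel h0
  have h2 : (∑ x ∈ Finset.range m, l ^ (j + x)) = l ^ j * ∑ x ∈ Finset.range m, l ^ x := by
    rw [Finset.mul_sum]
    apply Finset.sum_congr rfl
    intro x _
    rw [pow_add]
  rw [h2] at h1
  have h3 : p ^ e ∣ l ^ j * ∑ x ∈ Finset.range m, l ^ x := by
    rw [← he]; exact orderOf_dvd_of_pow_eq_one h1
  have hcop : (p ^ e).Coprime (l ^ j) := by
    apply Nat.Coprime.pow_right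
    apply Nat.Coprime.pow_left
    exact (Nat.Prime.coprime_iff_not_dvd hp).mpr (not_dvd_of_dvd_pred l hl1 hpl)
  have h4 := hcop.dvd_of_dvd_mul_left h3
  rw [geom_dvd hp2 l hl1 hpl e m] at h4
  have hm : m = 0 := by
    by_contra hm0
    have h5 := Nat.le_of_dvd (Nat.pos_of_ne_zero hm0) h4
    omega
  omega

theorem card_zpowers_pow {X : Type*} [Group X] {p : ℕ} [Fact p.Prime] (w : X) (n s : ℕ)
    (hs : s ≤ n) (hw : orderOf w = p ^ n) :
    Nat.card (Subgroup.zpowers (w ^ p ^ s)) = p ^ (n - s) := by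
  have hp : p.Prime := Fact.out
  rw [Nat.card_zpowers, orderOf_pow' w (pow_ne_zero s hp.ne_zero), hw]
  have h1 : (p ^ n).gcd (p ^ s) = p ^ s := Nat.gcd_eq_right (Nat.pow_dvd_pow p hs)
  rw [h1]
  exact Nat.pow_div hs hp.pos

theorem mem_zpowers_pow_of_pow_eq_one {X : Type*} [Group X] [Finite X] {p : ℕ} [Fact p.Prime]
    (w : X) (n s : ℕ) (hs : s ≤ n) (hw : orderOf w = p ^ n) (z : X)
    (hz : z ∈ Subgroup.zpowers w) (hz1 : z ^ p ^ (n - s) = 1) :
    z ∈ Subgroup.zpowers (w ^ p ^ s) := by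
  have hp : p.Prime := Fact.out
  obtain ⟨j, rfl⟩ := exists_nat_pow_of_mem_zpowers w z hz
  rw [← pow_mul] at hz1
  have h1 : p ^ n ∣ j * p ^ (n - s) := by rw [← hw]; exact orderOf_dvd_of_pow_eq_one hz1
  have h2 : p ^ n = p ^ s * p ^ (n - s) := by rw [← pow_add]; congr 1; omega
  rw [h2] at h1
  have h3 : p ^ s ∣ j := Nat.dvd_of_mul_dvd_mul_right (pow_pos hp.pos _) h1
  obtain ⟨j', rfl⟩ := h3
  rw [pow_mul]
  exact Subgroup.pow_mem _ (Subgroup.mem_zpowers _) _

theorem pow_mem_zpowers_pow {X : Type*} [Group X] (w : X) (m d : ℕ) (hd : d ∣ m) (z : X)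
    (hz : z ∈ Subgroup.zpowers w) : z ^ m ∈ Subgroup.zpowers (w ^ d) := by
  obtain ⟨j, rfl⟩ := Subgroup.mem_zpowers_iff.mp hz
  obtain ⟨m', rfl⟩ := hd
  have h1 : (w ^ j) ^ (d * m') = (w ^ d) ^ (j * (m' : ℤ)) := by
    rw [← zpow_natCast, ← zpow_mul, ← zpow_natCast w d, ← zpow_mul]
    congr 1
    push_cast
    ring
  rw [h1]
  exact Subgroup.zpow_mem_zpowers _ _

/-- class-size criterion -/
theorem comm_mem_iff_index_le {X : Type*} [Group X] [Finite X] {p : ℕ} [Fact p.Prime]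
    (hp2 : p ≠ 2) (hX : IsPGroup p X) (w : X) (hw : Subgroup.zpowers w = commutator X) (n : ℕ)
    (hn : Nat.card (commutator X) = p ^ n) (s : ℕ) (hs : s ≤ n) (g : X) :
    (∀ c : X, c * g * c⁻¹ * g⁻¹ ∈ Subgroup.zpowers (w ^ p ^ s)) ↔
      (Subgroup.centralizer {g}).index ≤ p ^ (n - s) := by
  classical
  have hp : p.Prime := Fact.out
  haveI : Fintype X := Fintype.ofFinite X
  have hord : orderOf w = p ^ n := by rw [← Nat.card_zpowers, hw, hn]
  have hWn : (Subgroup.zpowers w).Normal := by rw [hw]; infer_instance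
  rw [← card_image_comm g]
  constructor
  · intro h
    have hsub : Finset.univ.image (fun c : X => c * g * c⁻¹ * g⁻¹)
        ⊆ Finset.univ.filter (fun z => z ∈ Subgroup.zpowers (w ^ p ^ s)) := by
      intro z hz
      obtain ⟨c, _, rfl⟩ := Finset.mem_image.mp hz
      rw [Finset.mem_filter]; exact ⟨Finset.mem_univ _, h c⟩
    have hc : (Finset.univ.filter (fun z => z ∈ Subgroup.zpowers (w ^ p ^ s))).card
        = p ^ (n - s) := by
      rw [← card_zpowers_pow w n s hs hord]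
      exact (Nat.subtype_card _ (by simp)).symm
    rw [← hc]; exact Finset.card_le_card hsub
  · intro h c
    have hz : c * g * c⁻¹ * g⁻¹ ∈ Subgroup.zpowers w := by
      rw [hw]; exact comm_mem_commutator c g
    obtain ⟨l, hl1, hpl, hl⟩ := exists_exp hX w hWn c
    obtain ⟨e, he⟩ := orderOf_eq_pow hX (c * g * c⁻¹ * g⁻¹)
    have hinj : p ^ e ≤ (Finset.univ.image (fun c : X => c * g * c⁻¹ * g⁻¹)).card := by
      rw [← Finset.card_range (p ^ e)]
      apply Finset.card_le_card_of_injOn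
        (fun k : ℕ => (c * g * c⁻¹ * g⁻¹) ^ (∑ i ∈ Finset.range k, l ^ i))
      · intro k _
        rw [Finset.mem_coe, Finset.mem_image]
        exact ⟨c ^ k, Finset.mem_univ _, comm_pow_left w c g l hl hz k⟩
      · intro j hj k hk hjk
        rw [Finset.mem_coe, Finset.mem_range] at hj hk
        rcases le_total j k with h1 | h1
        · exact geom_inj hp2 l hl1 hpl _ e he j k h1 hk hjk
        · exact (geom_inj hp2 l hl1 hpl _ e he k j h1 hj hjk.symm).symm
    have hle : p ^ e ≤ p ^ (n - s) := hinj.trans h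
    have hes : e ≤ n - s := (Nat.pow_le_pow_iff_right hp.one_lt).mp hle
    apply mem_zpowers_pow_of_pow_eq_one w n s hs hord _ hz
    apply orderOf_dvd_iff_pow_eq_one.mp
    rw [he]; exact Nat.pow_dvd_pow p hes

theorem commutator_map_of_surjective {X Y : Type*} [Group X] [Group Y] (f : X →* Y)
    (hf : Function.Surjective f) : (commutator X).map f = commutator Y := by
  rw [commutator_def, commutator_def, Subgroup.map_commutator,
    Subgroup.map_top_of_surjective f hf]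

theorem mem_comap_center_iff {X : Type*} [Group X] (W : Subgroup X) [W.Normal] (g : X) :
    g ∈ (Subgroup.center (X ⧸ W)).comap (QuotientGroup.mk' W)
      ↔ ∀ c : X, c * g * c⁻¹ * g⁻¹ ∈ W := by
  rw [Subgroup.mem_comap, Subgroup.mem_center_iff]
  constructor
  · intro h c
    rw [← QuotientGroup.eq_one_iff]
    have h1 : (c : X ⧸ W) * (g : X ⧸ W) = (g : X ⧸ W) * (c : X ⧸ W) := h (c : X ⧸ W)
    rw [QuotientGroup.mk_mul, QuotientGroup.mk_mul, QuotientGroup.mk_mul, QuotientGroup.mk_inv,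
      QuotientGroup.mk_inv, h1]
    group
  · intro h q
    obtain ⟨c, rfl⟩ := QuotientGroup.mk_surjective q
    have h1 := (QuotientGroup.eq_one_iff _).mpr (h c)
    rw [QuotientGroup.mk_mul, QuotientGroup.mk_mul, QuotientGroup.mk_mul, QuotientGroup.mk_inv,
      QuotientGroup.mk_inv] at h1
    show (c : X ⧸ W) * (g : X ⧸ W) = (g : X ⧸ W) * (c : X ⧸ W)
    have h2 : (c : X ⧸ W) * (g : X ⧸ W)
        = ((c : X ⧸ W) * (g : X ⧸ W) * (c : X ⧸ W)⁻¹ * (g : X ⧸ W)⁻¹)
          * ((g : X ⧸ W) * (c : X ⧸ W)) := by group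
    rw [h2, h1, one_mul]

theorem index_comap_center {X : Type*} [Group X] [Finite X] {p : ℕ} [Fact p.Prime] (hp2 : p ≠ 2)
    (hX : IsPGroup p X) (hmc : Cfsg.IsMetacyclic X) (w : X)
    (hw : Subgroup.zpowers w = commutator X) (n : ℕ) (hn : Nat.card (commutator X) = p ^ n)
    (s : ℕ) (hs : s ≤ n) [hWs : (Subgroup.zpowers (w ^ p ^ s)).Normal] :
    ((Subgroup.center (X ⧸ Subgroup.zpowers (w ^ p ^ s))).comap
      (QuotientGroup.mk' (Subgroup.zpowers (w ^ p ^ s)))).index = p ^ (2 * s) := by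
  have hp : p.Prime := Fact.out
  have hord : orderOf w = p ^ n := by rw [← Nat.card_zpowers, hw, hn]
  rw [Subgroup.index_comap_of_surjective _ (QuotientGroup.mk'_surjective _),
    center_index hp2 (hX.to_quotient _) (metacyclic_quotient hmc _)]
  have h1 := Cfsg.Agent.Lib.helper1.card_eq_inf_ker_mul_map
    (QuotientGroup.mk' (Subgroup.zpowers (w ^ p ^ s))) (commutator X)
  rw [QuotientGroup.ker_mk', commutator_map_of_surjective _ (QuotientGroup.mk'_surjective _), hn]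
    at h1
  have h2 : commutator X ⊓ Subgroup.zpowers (w ^ p ^ s) = Subgroup.zpowers (w ^ p ^ s) := by
    apply inf_eq_right.mpr
    rw [← hw, Subgroup.zpowers_le]
    exact Subgroup.pow_mem _ (Subgroup.mem_zpowers w) _
  rw [h2, card_zpowers_pow w n s hs hord] at h1
  have h3 : Nat.card (commutator (X ⧸ Subgroup.zpowers (w ^ p ^ s))) = p ^ s := by
    have h4 : p ^ (n - s) * Nat.card (commutator (X ⧸ Subgroup.zpowers (w ^ p ^ s)))
        = p ^ (n - s) * p ^ s := by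
      rw [← h1, ← pow_add]; congr 1; omega
    exact Nat.eq_of_mul_eq_mul_left (pow_pos hp.pos _) h4
  rw [h3, ← pow_mul, mul_comm]

theorem comm_pow_right {X : Type*} [Group X] [Finite X] {p : ℕ} [Fact p.Prime] (hp2 : p ≠ 2)
    (hX : IsPGroup p X) (w : X) (hw : Subgroup.zpowers w = commutator X) (s : ℕ) (c y : X) :
    c * y ^ p ^ s * c⁻¹ * (y ^ p ^ s)⁻¹ ∈ Subgroup.zpowers (w ^ p ^ s) := by
  have hWn : (Subgroup.zpowers w).Normal := by rw [hw]; infer_instance
  have hz : c * y * c⁻¹ * y⁻¹ ∈ Subgroup.zpowers w := by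
    rw [hw]; exact comm_mem_commutator c y
  obtain ⟨l, hl1, hpl, hl⟩ := exists_exp hX w hWn y
  have hyz := conj_of_mem_zpowers w y l hl _ hz
  have h1 := mul_pow_exp (c * y * c⁻¹ * y⁻¹) y l hyz (p ^ s)
  have h2 : c * y * c⁻¹ * y⁻¹ * y = c * y * c⁻¹ := by group
  rw [h2, conj_pow] at h1
  have h3 : c * y ^ p ^ s * c⁻¹ * (y ^ p ^ s)⁻¹
      = (c * y * c⁻¹ * y⁻¹) ^ (∑ i ∈ Finset.range (p ^ s), l ^ i) := by
    rw [h1]; group
  rw [h3]
  apply pow_mem_zpowers_pow w _ _ _ _ hz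
  exact (geom_dvd hp2 l hl1 hpl s (p ^ s)).mpr dvd_rfl

theorem agemo_normal {X : Type*} [Group X] (m : ℕ) :
    (Subgroup.closure {x : X | ∃ y : X, y ^ m = x}).Normal := by
  haveI : (Subgroup.closure {x : X | ∃ y : X, y ^ m = x}).Characteristic := by
    rw [Subgroup.characteristic_iff_map_le]
    intro φ
    rw [MonoidHom.map_closure, Subgroup.closure_le]
    rintro _ ⟨x, ⟨y, rfl⟩, rfl⟩
    apply Subgroup.subset_closure
    exact ⟨φ y, by simp⟩
  infer_instance

theorem agemo_index_le {X : Type*} [Group X] [Finite X] {p : ℕ} [Fact p.Prime]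
    (hX : IsPGroup p X) (hmc : Cfsg.IsMetacyclic X) (s : ℕ) :
    (Subgroup.closure {x : X | ∃ y : X, y ^ p ^ s = x}).index ≤ p ^ (2 * s) := by
  have hp : p.Prime := Fact.out
  obtain ⟨a, b, u, hN, hgen, hu1, hpu, hu⟩ := metacyc_data hX hmc
  haveI := hN
  haveI hU := agemo_normal (X := X) (p ^ s)
  rw [Subgroup.index_eq_card]
  have hpow : ∀ q : X ⧸ Subgroup.closure {x : X | ∃ y : X, y ^ p ^ s = x}, q ^ (p ^ s) = 1 := by
    intro q
    obtain ⟨y, rfl⟩ := QuotientGroup.mk_surjective q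
    rw [← QuotientGroup.mk_pow, QuotientGroup.eq_one_iff]
    exact Subgroup.subset_closure ⟨y, rfl⟩
  have hpos : (0 : ℤ) < ((p ^ s : ℕ) : ℤ) := by exact_mod_cast pow_pos hp.pos s
  have hsurj : Function.Surjective (fun ij : Fin (p ^ s) × Fin (p ^ s) =>
      ((a : X ⧸ Subgroup.closure {x : X | ∃ y : X, y ^ p ^ s = x})) ^ (ij.1 : ℕ)
        * ((b : X ⧸ Subgroup.closure {x : X | ∃ y : X, y ^ p ^ s = x})) ^ (ij.2 : ℕ)) := by
    intro q
    obtain ⟨x, rfl⟩ := QuotientGroup.mk_surjective q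
    have hx : x ∈ ((Subgroup.zpowers a ⊔ Subgroup.zpowers b : Subgroup X) : Set X) := by
      rw [hgen]; trivial
    rw [Subgroup.normal_mul] at hx
    obtain ⟨y, hy, z, hz, rfl⟩ := Set.mem_mul.mp hx
    obtain ⟨i, rfl⟩ := Subgroup.mem_zpowers_iff.mp hy
    obtain ⟨j, rfl⟩ := Subgroup.mem_zpowers_iff.mp hz
    have hi0 : 0 ≤ i % ((p ^ s : ℕ) : ℤ) := Int.emod_nonneg _ hpos.ne'
    have hj0 : 0 ≤ j % ((p ^ s : ℕ) : ℤ) := Int.emod_nonneg _ hpos.ne'
    have hi1 : (i % ((p ^ s : ℕ) : ℤ)).toNat < p ^ s := by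
      have h1 := Int.emod_lt_of_pos i hpos
      generalize i % ((p ^ s : ℕ) : ℤ) = r at *
      omega
    have hj1 : (j % ((p ^ s : ℕ) : ℤ)).toNat < p ^ s := by
      have h1 := Int.emod_lt_of_pos j hpos
      generalize j % ((p ^ s : ℕ) : ℤ) = r at *
      omega
    refine ⟨(⟨_, hi1⟩, ⟨_, hj1⟩), ?_⟩
    show ((a : X ⧸ Subgroup.closure {x : X | ∃ y : X, y ^ p ^ s = x}))
          ^ ((i % ((p ^ s : ℕ) : ℤ)).toNat)
        * ((b : X ⧸ Subgroup.closure {x : X | ∃ y : X, y ^ p ^ s = x}))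
          ^ ((j % ((p ^ s : ℕ) : ℤ)).toNat)
        = ((a ^ i * b ^ j : X) : X ⧸ Subgroup.closure {x : X | ∃ y : X, y ^ p ^ s = x})
    rw [QuotientGroup.mk_mul, QuotientGroup.mk_zpow, QuotientGroup.mk_zpow,
      zpow_eq_zpow_emod i (by rw [zpow_natCast]; exact hpow _ :
        ((a : X ⧸ Subgroup.closure {x : X | ∃ y : X, y ^ p ^ s = x})) ^ ((p ^ s : ℕ) : ℤ) = 1),
      zpow_eq_zpow_emod j (by rw [zpow_natCast]; exact hpow _ :
        ((b : X ⧸ Subgroup.closure {x : X | ∃ y : X, y ^ p ^ s = x})) ^ ((p ^ s : ℕ) : ℤ) = 1),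
      ← zpow_natCast, ← zpow_natCast, Int.toNat_of_nonneg hi0, Int.toNat_of_nonneg hj0]
  have h1 := Nat.card_le_card_of_surjective _ hsurj
  rw [Nat.card_prod, Nat.card_fin] at h1
  calc Nat.card (X ⧸ Subgroup.closure {x : X | ∃ y : X, y ^ p ^ s = x}) ≤ p ^ s * p ^ s := h1
    _ = p ^ (2 * s) := by rw [← pow_add]; congr 1; omega

theorem agemo_eq {X : Type*} [Group X] [Finite X] {p : ℕ} [Fact p.Prime] (hp2 : p ≠ 2)
    (hX : IsPGroup p X) (hmc : Cfsg.IsMetacyclic X) (n : ℕ)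
    (hn : Nat.card (commutator X) = p ^ n) (s : ℕ) (hs : s ≤ n) (w : X)
    (hw : Subgroup.zpowers w = commutator X) [hWs : (Subgroup.zpowers (w ^ p ^ s)).Normal] :
    Subgroup.closure {x : X | ∃ y : X, y ^ p ^ s = x}
      = (Subgroup.center (X ⧸ Subgroup.zpowers (w ^ p ^ s))).comap
          (QuotientGroup.mk' (Subgroup.zpowers (w ^ p ^ s))) := by
  have hp : p.Prime := Fact.out
  have hle : Subgroup.closure {x : X | ∃ y : X, y ^ p ^ s = x}
      ≤ (Subgroup.center (X ⧸ Subgroup.zpowers (w ^ p ^ s))).comap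
          (QuotientGroup.mk' (Subgroup.zpowers (w ^ p ^ s))) := by
    rw [Subgroup.closure_le]
    rintro _ ⟨y, rfl⟩
    rw [SetLike.mem_coe, mem_comap_center_iff]
    intro c
    exact comm_pow_right hp2 hX w hw s c y
  have h1 := index_comap_center hp2 hX hmc w hw n hn s hs
  have h2 := agemo_index_le hX hmc s
  have h3 := Subgroup.relIndex_mul_index hle
  rw [h1] at h3
  have hpos : 0 < p ^ (2 * s) := pow_pos hp.pos _
  have h4 : (Subgroup.closure {x : X | ∃ y : X, y ^ p ^ s = x}).relIndex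
      ((Subgroup.center (X ⧸ Subgroup.zpowers (w ^ p ^ s))).comap
          (QuotientGroup.mk' (Subgroup.zpowers (w ^ p ^ s)))) = 1 := by
    have h5 : (Subgroup.closure {x : X | ∃ y : X, y ^ p ^ s = x}).relIndex
      ((Subgroup.center (X ⧸ Subgroup.zpowers (w ^ p ^ s))).comap
          (QuotientGroup.mk' (Subgroup.zpowers (w ^ p ^ s)))) * p ^ (2 * s) ≤ 1 * p ^ (2 * s) := by
      rw [h3, one_mul]; exact h2
    have h6 := Nat.le_of_mul_le_mul_right h5 hpos
    have h7 : (Subgroup.closure {x : X | ∃ y : X, y ^ p ^ s = x}).relIndex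
      ((Subgroup.center (X ⧸ Subgroup.zpowers (w ^ p ^ s))).comap
          (QuotientGroup.mk' (Subgroup.zpowers (w ^ p ^ s)))) ≠ 0 := by
      intro h0
      rw [h0, zero_mul] at h3
      exact Subgroup.index_ne_zero_of_finite h3.symm
    omega
  exact le_antisymm hle (Subgroup.relIndex_eq_one.mp h4)

/-- `g ∈ ℧_s(X)` iff the class of `g` has at most `p ^ (n - s)` elements -/
theorem mem_agemo_iff {X : Type*} [Group X] [Finite X] {p : ℕ} [Fact p.Prime] (hp2 : p ≠ 2)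
    (hX : IsPGroup p X) (hmc : Cfsg.IsMetacyclic X) (n : ℕ)
    (hn : Nat.card (commutator X) = p ^ n) (s : ℕ) (hs : s ≤ n) (g : X) :
    g ∈ Subgroup.closure {x : X | ∃ y : X, y ^ p ^ s = x}
      ↔ (Subgroup.centralizer {g}).index ≤ p ^ (n - s) := by
  obtain ⟨w, hw⟩ := commutator_cyclic hX hmc
  have hWn : (Subgroup.zpowers w).Normal := by rw [hw]; infer_instance
  haveI := zpowers_pow_normal w hWn (p ^ s)
  rw [agemo_eq hp2 hX hmc n hn s hs w hw, mem_comap_center_iff,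
    comm_mem_iff_index_le hp2 hX w hw n hn s hs g]

theorem agemo_index {X : Type*} [Group X] [Finite X] {p : ℕ} [Fact p.Prime] (hp2 : p ≠ 2)
    (hX : IsPGroup p X) (hmc : Cfsg.IsMetacyclic X) (n : ℕ)
    (hn : Nat.card (commutator X) = p ^ n) (s : ℕ) (hs : s ≤ n) :
    (Subgroup.closure {x : X | ∃ y : X, y ^ p ^ s = x}).index = p ^ (2 * s) := by
  obtain ⟨w, hw⟩ := commutator_cyclic hX hmc
  have hWn : (Subgroup.zpowers w).Normal := by rw [hw]; infer_instance
  haveI := zpowers_pow_normal w hWn (p ^ s)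
  rw [agemo_eq hp2 hX hmc n hn s hs w hw]
  exact index_comap_center hp2 hX hmc w hw n hn s hs

/-- the derived subgroup lies in `℧_1` (nonabelian case) -/
theorem commutator_le_agemo {X : Type*} [Group X] [Finite X] {p : ℕ} [Fact p.Prime] (hp2 : p ≠ 2)
    (hX : IsPGroup p X) (hmc : Cfsg.IsMetacyclic X) (n : ℕ)
    (hn : Nat.card (commutator X) = p ^ n) (hn1 : 1 ≤ n) :
    commutator X ≤ Subgroup.closure {x : X | ∃ y : X, y ^ p ^ 1 = x} := by
  obtain ⟨w, hw⟩ := commutator_cyclic hX hmc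
  have hWn : (Subgroup.zpowers w).Normal := by rw [hw]; infer_instance
  haveI := zpowers_pow_normal w hWn (p ^ 1)
  rw [agemo_eq hp2 hX hmc n hn 1 hn1 w hw]
  intro z hz
  rw [← hw] at hz
  rw [mem_comap_center_iff]
  intro c
  obtain ⟨l, hl1, hpl, hl⟩ := exists_exp hX w hWn c
  have h1 := conj_of_mem_zpowers w c l hl z hz
  have h2 : c * z * c⁻¹ * z⁻¹ = z ^ (l - 1) := by
    rw [h1]
    have h3 : l = (l - 1) + 1 := by omega
    rw [h3, pow_succ, Nat.add_sub_cancel]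
    group
  rw [h2]
  exact pow_mem_zpowers_pow w (l - 1) (p ^ 1) (by rw [pow_one]; exact hpl) z hz

end Cfsg.Agent.Lib.helper19
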