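import Mathlib
import Cfsg.Prelude.Def_OddOrderLocal
import Cfsg.Prelude.Def_PLocal
import Cfsg.Agent.Lib.helper19.Metacyc4
import Cfsg.Agent.Lib.helper1.Metacyc
import Cfsg.Agent.Lib.helper1.PGroup

set_option autoImplicit false

namespace Cfsg.Agent.Lib.helper19

open scoped commutatorElement

theorem cyclic_of_frattini_index {X : Type*} [Group X] [Finite X] {p : ℕ} [Fact p.Prime]
    (h : (frattini X).index ∣ p) : IsCyclic X := by
  have hp : p.Prime := Fact.out
  have hc : IsCyclic (X ⧸ frattini X) := by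
    rcases (Nat.dvd_prime hp).mp h with h1 | h1
    · have h2 : Nat.card (X ⧸ frattini X) = 1 := by rw [← Subgroup.index_eq_card, h1]
      haveI : Subsingleton (X ⧸ frattini X) := (Nat.card_eq_one_iff_unique.mp h2).1
      exact isCyclic_of_subsingleton
    · exact isCyclic_of_prime_card (by rw [← Subgroup.index_eq_card, h1])
  obtain ⟨g, hg⟩ := exists_gen (frattini X) hc
  have h2 : Subgroup.zpowers g = ⊤ := frattini_nongenerating (by rw [sup_comm]; exact hg)
  exact isCyclic_iff_exists_zpowers_eq_top.mpr ⟨g, h2⟩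

theorem agemo_one_index {X : Type*} [Group X] [Finite X] {p : ℕ} [Fact p.Prime]
    (hX : IsPGroup p X) (hmc : Cfsg.IsMetacyclic X) (hnc : ¬ IsCyclic X) :
    (Subgroup.closure {x : X | ∃ y : X, y ^ p ^ 1 = x}).index = p ^ 2 := by
  have hp : p.Prime := Fact.out
  have h1 := agemo_index_le hX hmc 1
  have hle : Subgroup.closure {x : X | ∃ y : X, y ^ p ^ 1 = x} ≤ frattini X := by
    rw [Subgroup.closure_le]
    rintro _ ⟨y, rfl⟩
    rw [pow_one]
    exact Cfsg.Agent.Lib.helper1.pow_mem_frattini p hX y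
  have h2 : (frattini X).index ∣ (Subgroup.closure {x : X | ∃ y : X, y ^ p ^ 1 = x}).index :=
    Subgroup.index_dvd_of_le hle
  obtain ⟨k, hk⟩ := IsPGroup.iff_card.mp hX
  have h3 : (Subgroup.closure {x : X | ∃ y : X, y ^ p ^ 1 = x}).index ∣ p ^ k := by
    rw [← hk]; exact Subgroup.index_dvd_card _
  obtain ⟨t, _, ht⟩ := (Nat.dvd_prime_pow hp).mp h3
  rw [ht] at h1 h2 ⊢
  have ht2 : t ≤ 2 := by
    have h4 : p ^ t ≤ p ^ 2 := by simpa using h1
    exact (Nat.pow_le_pow_iff_right hp.one_lt).mp h4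
  by_contra hne
  have ht1 : t ≤ 1 := by
    rcases Nat.lt_or_ge t 2 with h | h
    · omega
    · exfalso
      apply hne
      have h5 : t = 2 := by omega
      rw [h5]
  apply hnc
  apply cyclic_of_frattini_index (p := p)
  exact h2.trans (by
    calc p ^ t ∣ p ^ 1 := Nat.pow_dvd_pow p ht1
      _ = p := pow_one p)

/-- every element of `℧_1` is a `p`-th power -/
theorem exists_pow_eq_of_mem_agemo {X : Type*} [Group X] [Finite X] {p : ℕ} [Fact p.Prime]
    (hp2 : p ≠ 2) (hX : IsPGroup p X) (hmc : Cfsg.IsMetacyclic X) (g : X)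
    (hg : g ∈ Subgroup.closure {x : X | ∃ y : X, y ^ p ^ 1 = x}) : ∃ x : X, x ^ p = g := by
  have hp : p.Prime := Fact.out
  obtain ⟨a, b, u, hN, hgen, hu1, hpu, hu⟩ := metacyc_data hX hmc
  haveI := hN
  haveI hNp : (Subgroup.zpowers (a ^ p)).Normal := zpowers_pow_normal a hN p
  have hform : ∀ y : X, ∃ i j : ℕ, y = a ^ i * b ^ j := by
    intro y
    have hy : y ∈ ((Subgroup.zpowers a ⊔ Subgroup.zpowers b : Subgroup X) : Set X) := by
      rw [hgen]; trivial
    rw [Subgroup.normal_mul] at hy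
    obtain ⟨y1, hy1, y2, hy2, rfl⟩ := Set.mem_mul.mp hy
    obtain ⟨i, rfl⟩ := exists_nat_pow_of_mem_zpowers a y1 hy1
    obtain ⟨j, rfl⟩ := exists_nat_pow_of_mem_zpowers b y2 hy2
    exact ⟨i, j, rfl⟩
  have hpowf : ∀ (z : X), z ∈ Subgroup.zpowers a → ∀ j : ℕ,
      (z * b ^ j) ^ p = z ^ (∑ i ∈ Finset.range p, (u ^ j) ^ i) * (b ^ p) ^ j := by
    intro z hz j
    have h1 := pow_conj_exp a b u hu j
    have h2 := conj_of_mem_zpowers a (b ^ j) (u ^ j) h1 z hz
    rw [mul_pow_exp z (b ^ j) (u ^ j) h2 p, ← pow_mul, ← pow_mul, mul_comm j p]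
  have huj : ∀ j : ℕ, 1 ≤ u ^ j ∧ p ∣ u ^ j - 1 :=
    fun j => ⟨Nat.one_le_pow _ _ hu1, dvd_pow_pred u hpu j⟩
  have hS : ∀ j : ℕ, p ∣ ∑ i ∈ Finset.range p, (u ^ j) ^ i := by
    intro j
    have h1 := (geom_dvd hp2 (u ^ j) (huj j).1 (huj j).2 1 p).mpr (by rw [pow_one])
    rwa [pow_one] at h1
  have hV : ∀ y : X, y ^ p ∈ (Subgroup.zpowers (a ^ p) ⊔ Subgroup.zpowers (b ^ p) : Subgroup X) := by
    intro y
    obtain ⟨i, j, rfl⟩ := hform y
    rw [hpowf (a ^ i) (Subgroup.pow_mem _ (Subgroup.mem_zpowers a) i) j]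
    apply Subgroup.mul_mem
    · apply Subgroup.mem_sup_left
      obtain ⟨m, hm⟩ := hS j
      have e : (a ^ i) ^ (∑ i ∈ Finset.range p, (u ^ j) ^ i) = (a ^ p) ^ (i * m) := by
        rw [hm, ← pow_mul, ← pow_mul]; congr 1; ring
      rw [e]
      exact Subgroup.pow_mem _ (Subgroup.mem_zpowers _) _
    · exact Subgroup.mem_sup_right (Subgroup.pow_mem _ (Subgroup.mem_zpowers _) _)
  have hgV : g ∈ (Subgroup.zpowers (a ^ p) ⊔ Subgroup.zpowers (b ^ p) : Subgroup X) := by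
    have hle : Subgroup.closure {x : X | ∃ y : X, y ^ p ^ 1 = x}
        ≤ Subgroup.zpowers (a ^ p) ⊔ Subgroup.zpowers (b ^ p) := by
      rw [Subgroup.closure_le]
      rintro _ ⟨y, rfl⟩
      rw [pow_one]; exact hV y
    exact hle hg
  have hgV' : g ∈ ((Subgroup.zpowers (a ^ p) ⊔ Subgroup.zpowers (b ^ p) : Subgroup X) : Set X) :=
    hgV
  rw [Subgroup.normal_mul] at hgV'
  obtain ⟨g1, hg1, g2, hg2, rfl⟩ := Set.mem_mul.mp hgV'
  obtain ⟨i, rfl⟩ := exists_nat_pow_of_mem_zpowers (a ^ p) g1 hg1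
  obtain ⟨j, rfl⟩ := exists_nat_pow_of_mem_zpowers (b ^ p) g2 hg2
  obtain ⟨σ, hσ⟩ := hS j
  have hσp : ¬ p ∣ σ := by
    intro h
    have h2 : p ^ 2 ∣ ∑ i ∈ Finset.range p, (u ^ j) ^ i := by
      rw [hσ, pow_two]; exact Nat.mul_dvd_mul_left p h
    rw [geom_dvd hp2 (u ^ j) (huj j).1 (huj j).2 2 p] at h2
    have h3 := Nat.le_of_dvd hp.pos h2
    have h4 := hp.two_le
    nlinarith
  have hcop : (Nat.card ↥(Subgroup.zpowers a)).Coprime σ := by
    obtain ⟨α, hα⟩ := orderOf_eq_pow hX a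
    rw [Nat.card_zpowers, hα]
    exact Nat.Coprime.pow_left _ ((Nat.Prime.coprime_iff_not_dvd hp).mpr hσp)
  obtain ⟨z, hz⟩ := (powCoprime hcop).surjective
    ⟨a ^ i, Subgroup.pow_mem _ (Subgroup.mem_zpowers a) i⟩
  have hz' : (z : X) ^ σ = a ^ i := by
    rw [powCoprime_apply] at hz
    have h1 := congrArg Subtype.val hz
    simpa using h1
  refine ⟨(z : X) * b ^ j, ?_⟩
  have e : (a ^ i) ^ p = (a ^ p) ^ i := by rw [← pow_mul, ← pow_mul, mul_comm]
  rw [hpowf (z : X) z.2 j, hσ, mul_comm p σ, pow_mul, hz', e]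

theorem lift_gen {X : Type*} [Group X] [Finite X] {p : ℕ} [Fact p.Prime]
    (hp2 : p ≠ 2) (hX : IsPGroup p X) (hmc : Cfsg.IsMetacyclic X) (x₁ : X)
    (hx₁ : x₁ ∈ Subgroup.closure {x : X | ∃ y : X, y ^ p ^ 1 = x}) (hne : x₁ ≠ 1) :
    ∃ x : X, x ^ p = x₁ ∧ orderOf x = p * orderOf x₁ := by
  have hp : p.Prime := Fact.out
  obtain ⟨x, hx⟩ := exists_pow_eq_of_mem_agemo hp2 hX hmc x₁ hx₁
  refine ⟨x, hx, ?_⟩
  obtain ⟨m, hm⟩ := orderOf_eq_pow hX x
  have hm0 : m ≠ 0 := by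
    rintro rfl
    rw [pow_zero, orderOf_eq_one_iff] at hm
    apply hne
    rw [← hx, hm, one_pow]
  have h1 := orderOf_pow' x hp.ne_zero
  rw [hx, hm] at h1
  have h2 : (p ^ m).gcd p = p := Nat.gcd_eq_right (dvd_pow_self p hm0)
  rw [h2] at h1
  rw [hm, h1]
  obtain ⟨m', rfl⟩ : ∃ m', m = m' + 1 := ⟨m - 1, by omega⟩
  rw [pow_succ, Nat.mul_div_cancel _ hp.pos, mul_comm]

theorem mem_zpowers_pow_of_order_p {X : Type*} [Group X] [Finite X] {p : ℕ} [Fact p.Prime]
    (hX : IsPGroup p X) (x g : X) (hg : g ∈ Subgroup.zpowers x) (hgp : g ^ p = 1)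
    (hx : x ^ p ≠ 1) : g ∈ Subgroup.zpowers (x ^ p) := by
  have hp : p.Prime := Fact.out
  obtain ⟨j, rfl⟩ := exists_nat_pow_of_mem_zpowers x g hg
  obtain ⟨m, hm⟩ := orderOf_eq_pow hX x
  have hm2 : 2 ≤ m := by
    by_contra hcon
    apply hx
    apply orderOf_dvd_iff_pow_eq_one.mp
    rw [hm]
    calc p ^ m ∣ p ^ 1 := Nat.pow_dvd_pow p (by omega)
      _ = p := pow_one p
  rw [← pow_mul] at hgp
  have h1 : p ^ m ∣ j * p := by rw [← hm]; exact orderOf_dvd_of_pow_eq_one hgp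
  obtain ⟨m', rfl⟩ : ∃ m', m = m' + 1 := ⟨m - 1, by omega⟩
  rw [pow_succ] at h1
  have h2 : p ^ m' ∣ j := Nat.dvd_of_mul_dvd_mul_right hp.pos h1
  have h3 : p ∣ j := (dvd_pow_self p (by omega : m' ≠ 0)).trans h2
  obtain ⟨j', rfl⟩ := h3
  rw [pow_mul]
  exact Subgroup.pow_mem _ (Subgroup.mem_zpowers _) _

theorem inter_case1 {X : Type*} [Group X] [Finite X] {p : ℕ} [Fact p.Prime]
    (hX : IsPGroup p X) (x y : X) (hx : x ^ p ≠ 1) (hy : y ^ p ≠ 1)
    (hinf : ∀ g : X, g ∈ Subgroup.zpowers (x ^ p) → g ∈ Subgroup.zpowers (y ^ p) → g = 1) :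
    Subgroup.zpowers x ⊓ Subgroup.zpowers y = ⊥ := by
  have hp : p.Prime := Fact.out
  rw [eq_bot_iff]
  intro g hg
  rw [Subgroup.mem_bot]
  by_contra hne
  obtain ⟨c, hc⟩ := orderOf_eq_pow hX g
  have hc0 : c ≠ 0 := by
    rintro rfl
    rw [pow_zero, orderOf_eq_one_iff] at hc
    exact hne hc
  obtain ⟨c', rfl⟩ : ∃ c', c = c' + 1 := ⟨c - 1, by omega⟩
  have h1 : (g ^ p ^ c') ^ p = 1 := by
    rw [← pow_mul, ← pow_succ, ← hc]; exact pow_orderOf_eq_one g
  have h2 : g ^ p ^ c' ≠ 1 := by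
    intro h
    have h3 := orderOf_dvd_of_pow_eq_one h
    rw [hc] at h3
    have h4 := (Nat.pow_dvd_pow_iff_le_right hp.one_lt).mp h3
    omega
  apply h2
  apply hinf
  · exact mem_zpowers_pow_of_order_p hX x _ (Subgroup.pow_mem _ hg.1 _) h1 hx
  · exact mem_zpowers_pow_of_order_p hX y _ (Subgroup.pow_mem _ hg.2 _) h1 hy

theorem exists_complement_order_p {X : Type*} [Group X] [Finite X] {p : ℕ} [Fact p.Prime]
    (hp2 : p ≠ 2) (hX : IsPGroup p X) (hmc : Cfsg.IsMetacyclic X) (hnc : ¬ IsCyclic X) (x : X) :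
    ∃ y : X, orderOf y = p ∧ Subgroup.zpowers x ⊓ Subgroup.zpowers y = ⊥ := by
  classical
  have hp : p.Prime := Fact.out
  obtain ⟨N, hN, hNc, hQc⟩ := hmc
  haveI := hN
  obtain ⟨hea, hcard⟩ := Cfsg.Agent.Lib.helper1.metacyclic_omega hp2 hX N hNc hQc hnc
  obtain ⟨y, hyΩ, hyx⟩ : ∃ y ∈ Cfsg.omegaOne p (⊤ : Subgroup X), y ∉ Subgroup.zpowers x := by
    by_contra hcon
    push_neg at hcon
    haveI : Fintype ↥(Subgroup.zpowers x) := Fintype.ofFinite _
    have h1 : Nat.card ↥(Cfsg.omegaOne p (⊤ : Subgroup X))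
        ≤ Nat.card {a : ↥(Subgroup.zpowers x) // a ^ p = 1} := by
      apply Nat.card_le_card_of_injective
        (fun y : ↥(Cfsg.omegaOne p (⊤ : Subgroup X)) =>
          (⟨⟨(y : X), hcon y y.2⟩, Subtype.ext (hea.2 y y.2)⟩ :
            {a : ↥(Subgroup.zpowers x) // a ^ p = 1}))
      intro y y' h
      have h2 := congrArg (fun a : {a : ↥(Subgroup.zpowers x) // a ^ p = 1} => ((a : ↥(Subgroup.zpowers x)) : X)) h
      exact Subtype.ext h2
    have h2 : Nat.card {a : ↥(Subgroup.zpowers x) // a ^ p = 1}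
        = (Finset.univ.filter (fun a : ↥(Subgroup.zpowers x) => a ^ p = 1)).card :=
      Nat.subtype_card _ (by simp)
    have h3 : (Finset.univ.filter (fun a : ↥(Subgroup.zpowers x) => a ^ p = 1)).card ≤ p :=
      IsCyclic.card_pow_eq_one_le hp.pos
    rw [hcard, h2] at h1
    have h4 := hp.two_le
    nlinarith
  have hy1 : y ≠ 1 := by
    rintro rfl
    exact hyx (Subgroup.one_mem _)
  have hyp : y ^ p = 1 := hea.2 y hyΩ
  have hord : orderOf y = p := orderOf_eq_prime hyp hy1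
  refine ⟨y, hord, ?_⟩
  rw [eq_bot_iff]
  intro g hg
  rw [Subgroup.mem_bot]
  by_contra hne
  apply hyx
  have hle : Subgroup.zpowers g ≤ Subgroup.zpowers y := (Subgroup.zpowers_le).mpr hg.2
  have hcg : Nat.card (Subgroup.zpowers y) ≤ Nat.card (Subgroup.zpowers g) := by
    rw [Nat.card_zpowers, Nat.card_zpowers, hord]
    have h1 : orderOf g ∣ p := by
      rw [← hord, ← Nat.card_zpowers y]
      rw [← Nat.card_zpowers g]
      exact Subgroup.card_dvd_of_le hle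
    rcases (Nat.dvd_prime hp).mp h1 with h2 | h2
    · exact absurd (orderOf_eq_one_iff.mp h2) hne
    · rw [h2]
  have heq := Subgroup.eq_of_le_of_card_ge hle hcg
  have hyg : y ∈ Subgroup.zpowers g := by rw [heq]; exact Subgroup.mem_zpowers y
  exact ((Subgroup.zpowers_le).mpr hg.1) hyg

theorem exists_factorization.{v} {p : ℕ} [Fact p.Prime] (hp2 : p ≠ 2) :
    ∀ (k : ℕ) (X : Type v) [Group X] [Finite X], Nat.card X = k → IsPGroup p X →
      Cfsg.IsMetacyclic X →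
      ∃ x y : X, Subgroup.zpowers x ⊓ Subgroup.zpowers y = ⊥ ∧
        orderOf x * orderOf y = Nat.card X := by
  have hp : p.Prime := Fact.out
  intro k
  induction k using Nat.strong_induction_on with
  | _ k ih =>
    intro X _ _ hk hX hmc
    by_cases hcyc : IsCyclic X
    · obtain ⟨g, hg⟩ := isCyclic_iff_exists_zpowers_eq_top.mp hcyc
      refine ⟨g, 1, ?_, ?_⟩
      · rw [Subgroup.zpowers_one_eq_bot, inf_bot_eq]
      · rw [orderOf_one, mul_one, ← Nat.card_zpowers, hg, Subgroup.card_top]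
    · have hUi := agemo_one_index hX hmc hcyc
      have hUc : Nat.card (Subgroup.closure {x : X | ∃ y : X, y ^ p ^ 1 = x}) * p ^ 2
          = Nat.card X := by
        rw [← hUi]; exact Subgroup.card_mul_index _
      have hUpos : 0 < Nat.card (Subgroup.closure {x : X | ∃ y : X, y ^ p ^ 1 = x}) :=
        Nat.card_pos
      have hlt : Nat.card (Subgroup.closure {x : X | ∃ y : X, y ^ p ^ 1 = x}) < k := by
        rw [← hk, ← hUc]
        have h3 : 1 < p ^ 2 := Nat.one_lt_pow (by norm_num) hp.one_lt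
        calc Nat.card (Subgroup.closure {x : X | ∃ y : X, y ^ p ^ 1 = x})
            = Nat.card (Subgroup.closure {x : X | ∃ y : X, y ^ p ^ 1 = x}) * 1 := (mul_one _).symm
          _ < _ := Nat.mul_lt_mul_of_pos_left h3 hUpos
      obtain ⟨x₁, y₁, hinf, hord⟩ := ih _ hlt
        ↥(Subgroup.closure {x : X | ∃ y : X, y ^ p ^ 1 = x}) rfl (hX.to_subgroup _)
        (metacyclic_subgroup hmc _)
      have hinf' : ∀ g : X, g ∈ Subgroup.zpowers (x₁ : X) → g ∈ Subgroup.zpowers (y₁ : X)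
          → g = 1 := by
        intro g h1 h2
        have hgU : g ∈ Subgroup.closure {x : X | ∃ y : X, y ^ p ^ 1 = x} :=
          ((Subgroup.zpowers_le).mpr x₁.2) h1
        have h3 : (⟨g, hgU⟩ : ↥(Subgroup.closure {x : X | ∃ y : X, y ^ p ^ 1 = x}))
            ∈ Subgroup.zpowers x₁ ⊓ Subgroup.zpowers y₁ := by
          constructor
          · exact (mem_zpowers_sub_iff _ (x₁ : X) x₁.2 ⟨g, hgU⟩).mpr h1
          · exact (mem_zpowers_sub_iff _ (y₁ : X) y₁.2 ⟨g, hgU⟩).mpr h2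
        rw [hinf, Subgroup.mem_bot] at h3
        exact congrArg Subtype.val h3
      have hord' : orderOf (x₁ : X) * orderOf (y₁ : X)
          = Nat.card (Subgroup.closure {x : X | ∃ y : X, y ^ p ^ 1 = x}) := by
        rw [← hord, Subgroup.orderOf_coe, Subgroup.orderOf_coe]
      -- the lifting lemma, also for the trivial generator
      have hlift : ∀ x₀ : X, x₀ ∈ Subgroup.closure {x : X | ∃ y : X, y ^ p ^ 1 = x} →
          ∃ x : X, orderOf x = p * orderOf x₀ := by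
        intro x₀ hx₀
        by_cases h1 : x₀ = 1
        · have hpd : p ∣ Nat.card X := by
            rw [← hUc]
            exact Dvd.dvd.mul_left (dvd_pow_self p (by norm_num)) _
          obtain ⟨x, hx⟩ := exists_prime_orderOf_dvd_card' p hpd
          exact ⟨x, by rw [hx, h1, orderOf_one, mul_one]⟩
        · obtain ⟨x, _, hx⟩ := lift_gen hp2 hX hmc x₀ hx₀ h1
          exact ⟨x, hx⟩
      by_cases htriv : (x₁ : X) = 1 ∨ (y₁ : X) = 1
      · obtain ⟨x, hx⟩ : ∃ x : X, orderOf x * p = Nat.card X := by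
          rcases htriv with h | h
          · obtain ⟨x, hx⟩ := hlift (y₁ : X) y₁.2
            refine ⟨x, ?_⟩
            rw [h, orderOf_one, one_mul] at hord'
            rw [hx, hord', ← hUc]; ring
          · obtain ⟨x, hx⟩ := hlift (x₁ : X) x₁.2
            refine ⟨x, ?_⟩
            rw [h, orderOf_one, mul_one] at hord'
            rw [hx, hord', ← hUc]; ring
        obtain ⟨y, hy, hxy⟩ := exists_complement_order_p hp2 hX hmc hcyc x
        exact ⟨x, y, hxy, by rw [hy]; exact hx⟩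
      · push_neg at htriv
        obtain ⟨x, hxp, hx⟩ := lift_gen hp2 hX hmc (x₁ : X) x₁.2 htriv.1
        obtain ⟨y, hyp, hy⟩ := lift_gen hp2 hX hmc (y₁ : X) y₁.2 htriv.2
        refine ⟨x, y, ?_, ?_⟩
        · apply inter_case1 hX x y (by rw [hxp]; exact htriv.1) (by rw [hyp]; exact htriv.2)
          rw [hxp, hyp]
          exact hinf'
        · rw [hx, hy, ← hUc, ← hord']; ring

end Cfsg.Agent.Lib.helper19
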