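import Mathlib

/-!
Nilpotent subgroups of symmetric groups: the order bound `bb n`
(`2^{v_2(n!)}` for `n % 4 ≠ 3`, `3 * 2^{v_2((n-3)!)}` for `n % 4 = 3`).
-/

namespace Cfsg.Agent.Lib.helper19.NilpSym

universe u

/-- `ν(n) = v₂(n!)` -/
def nu (n : ℕ) : ℕ := padicValNat 2 (n.factorial)

theorem nu_zero : nu 0 = 0 := by simp [nu]

theorem nu_two_mul (m : ℕ) : nu (2 * m) = nu m + m := by
  unfold nu; exact padicValNat_factorial_mul m

theorem nu_two_mul_add_one (m : ℕ) : nu (2 * m + 1) = nu m + m := by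
  unfold nu
  rw [padicValNat_factorial_mul_add m (by norm_num : 1 < 2)]
  exact padicValNat_factorial_mul m

theorem nu_four (k : ℕ) : nu (4 * k) = nu k + 3 * k := by
  have : 4 * k = 2 * (2 * k) := by ring
  rw [this, nu_two_mul, nu_two_mul]; ring

theorem nu_four1 (k : ℕ) : nu (4 * k + 1) = nu k + 3 * k := by
  have : 4 * k + 1 = 2 * (2 * k) + 1 := by ring
  rw [this, nu_two_mul_add_one, nu_two_mul]; ring

theorem nu_four2 (k : ℕ) : nu (4 * k + 2) = nu k + 3 * k + 1 := by
  have : 4 * k + 2 = 2 * (2 * k + 1) := by ring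
  rw [this, nu_two_mul, nu_two_mul_add_one]; ring

theorem nu_four3 (k : ℕ) : nu (4 * k + 3) = nu k + 3 * k + 1 := by
  have : 4 * k + 3 = 2 * (2 * k + 1) + 1 := by ring
  rw [this, nu_two_mul_add_one, nu_two_mul_add_one]; ring

theorem nu_add (a c : ℕ) : nu a + nu c ≤ nu (a + c) := by
  unfold nu
  have h1 : 2 ^ (padicValNat 2 a.factorial + padicValNat 2 c.factorial) ∣ (a + c).factorial := by
    rw [pow_add]
    exact (mul_dvd_mul pow_padicValNat_dvd pow_padicValNat_dvd).trans
      (Nat.factorial_mul_factorial_dvd_factorial_add a c)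
  exact (padicValNat_dvd_iff_le (Nat.factorial_ne_zero _)).mp h1

theorem nu_mono {a c : ℕ} (h : a ≤ c) : nu a ≤ nu c := by
  obtain ⟨d, rfl⟩ := Nat.exists_eq_add_of_le h
  exact (Nat.le_add_right _ _).trans (nu_add a d)

theorem half_le_nu (j : ℕ) : j / 2 ≤ nu j := by
  rcases Nat.even_or_odd' j with ⟨m, rfl | rfl⟩
  · rw [nu_two_mul]; omega
  · rw [nu_two_mul_add_one]; omega

/-- the coefficient of `bb` by residue mod 4 -/
def cc (r : ℕ) : ℕ := if r = 3 then 3 else if r = 2 then 2 else 1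

/-- the maximal order of a nilpotent subgroup of `S_n` -/
def bb (n : ℕ) : ℕ := cc (n % 4) * 8 ^ (n / 4) * 2 ^ nu (n / 4)

theorem bbv (k r : ℕ) (hr : r < 4) : bb (4 * k + r) = cc r * 8 ^ k * 2 ^ nu k := by
  unfold bb
  have h1 : (4 * k + r) % 4 = r := by omega
  have h2 : (4 * k + r) / 4 = k := by omega
  rw [h1, h2]

theorem bb_pos (n : ℕ) : 0 < bb n := by
  unfold bb cc
  split_ifs <;> positivity

theorem bb_one : bb 1 = 1 := by
  have := bbv 0 1 (by norm_num)
  simpa [cc, nu_zero] using this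

theorem bb_zero : bb 0 = 1 := by
  have := bbv 0 0 (by norm_num)
  simpa [cc, nu_zero] using this

theorem eight_pow (k : ℕ) : (8 : ℕ) ^ k = 2 ^ (3 * k) := by
  rw [pow_mul]; norm_num

theorem bb_eq_of_ne {n : ℕ} (hn : n % 4 ≠ 3) : bb n = 2 ^ nu n := by
  obtain ⟨k, r, hr, rfl⟩ : ∃ k r, r < 4 ∧ n = 4 * k + r :=
    ⟨n / 4, n % 4, Nat.mod_lt _ (by norm_num), (Nat.div_add_mod n 4).symm⟩
  rw [bbv k r hr, eight_pow]
  interval_cases r
  · have : nu (4 * k + 0) = nu k + 3 * k := by simpa using nu_four k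
    rw [this, pow_add]; simp [cc]; ring
  · rw [nu_four1, pow_add]; simp [cc]; ring
  · rw [nu_four2, pow_succ, pow_add]; simp [cc]; ring
  · omega

theorem bb_eq_of_three {n : ℕ} (hn : n % 4 = 3) : bb n = 3 * 2 ^ nu (n - 3) := by
  obtain ⟨k, rfl⟩ : ∃ k, n = 4 * k + 3 := ⟨n / 4, by omega⟩
  rw [bbv k 3 (by norm_num), show 4 * k + 3 - 3 = 4 * k by omega, nu_four, pow_add, eight_pow]
  simp [cc]; ring

theorem bb_ge (n : ℕ) : 2 ^ nu n ≤ bb n := by
  by_cases hn : n % 4 = 3
  · obtain ⟨k, rfl⟩ : ∃ k, n = 4 * k + 3 := ⟨n / 4, by omega⟩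
    rw [bb_eq_of_three hn, show 4 * k + 3 - 3 = 4 * k by omega, nu_four3, nu_four, pow_succ]
    have := Nat.zero_le (2 ^ (nu k + 3 * k))
    linarith
  · rw [bb_eq_of_ne hn]

theorem bb_add (x y : ℕ) : bb x * bb y ≤ bb (x + y) := by
  obtain ⟨k, r, hr, rfl⟩ : ∃ k r, r < 4 ∧ x = 4 * k + r :=
    ⟨x / 4, x % 4, Nat.mod_lt _ (by norm_num), (Nat.div_add_mod x 4).symm⟩
  obtain ⟨l, s, hs, rfl⟩ : ∃ l s, s < 4 ∧ y = 4 * l + s :=
    ⟨y / 4, y % 4, Nat.mod_lt _ (by norm_num), (Nat.div_add_mod y 4).symm⟩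
  rw [bbv k r hr, bbv l s hs]
  have hUV : 2 ^ nu k * 2 ^ nu l ≤ 2 ^ nu (k + l) := by
    rw [← pow_add]; exact Nat.pow_le_pow_right (by norm_num) (nu_add k l)
  have hW : 2 ^ nu (k + l) ≤ 2 ^ nu (k + l + 1) :=
    Nat.pow_le_pow_right (by norm_num) (nu_mono (by omega))
  by_cases hrs : r + s < 4
  · have e : 4 * k + r + (4 * l + s) = 4 * (k + l) + (r + s) := by ring
    rw [e, bbv (k + l) (r + s) hrs, pow_add]
    have hc : cc r * cc s ≤ cc (r + s) := by
      interval_cases r <;> interval_cases s <;> first | decide | omega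
    calc cc r * 8 ^ k * 2 ^ nu k * (cc s * 8 ^ l * 2 ^ nu l)
        = (cc r * cc s) * ((8 ^ k * 8 ^ l) * (2 ^ nu k * 2 ^ nu l)) := by ring
      _ ≤ cc (r + s) * ((8 ^ k * 8 ^ l) * 2 ^ nu (k + l)) :=
          Nat.mul_le_mul hc (Nat.mul_le_mul_left _ hUV)
      _ = _ := by ring
  · have e : 4 * k + r + (4 * l + s) = 4 * (k + l + 1) + (r + s - 4) := by omega
    rw [e, bbv (k + l + 1) (r + s - 4) (by omega), pow_succ, pow_add]
    have hc : cc r * cc s ≤ 8 * cc (r + s - 4) := by
      interval_cases r <;> interval_cases s <;> first | decide | omega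
    calc cc r * 8 ^ k * 2 ^ nu k * (cc s * 8 ^ l * 2 ^ nu l)
        = (cc r * cc s) * ((8 ^ k * 8 ^ l) * (2 ^ nu k * 2 ^ nu l)) := by ring
      _ ≤ (8 * cc (r + s - 4)) * ((8 ^ k * 8 ^ l) * 2 ^ nu (k + l + 1)) :=
          Nat.mul_le_mul hc (Nat.mul_le_mul_left _ (hUV.trans hW))
      _ = _ := by ring

theorem bb_succ (n : ℕ) : bb n ≤ bb (n + 1) := by
  have := bb_add n 1; rwa [bb_one, mul_one] at this

theorem bb_mono : Monotone bb := monotone_nat_of_le_succ bb_succ

theorem bb_mul {x y : ℕ} (hx : 1 ≤ x) (hy : 1 ≤ y) : bb x * bb y ≤ bb (x * y) := by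
  rcases Nat.lt_or_ge x 2 with h | h
  · have : x = 1 := by omega
    subst this; simp [bb_one]
  rcases Nat.lt_or_ge y 2 with h' | h'
  · have : y = 1 := by omega
    subst this; simp [bb_one]
  · exact (bb_add x y).trans (bb_mono (by nlinarith))

theorem nine_aux (i : ℕ) : 9 ^ (2 * i) ≤ 8 ^ (2 * i) * 2 ^ i ∧
    9 ^ (2 * i + 3) ≤ 8 ^ (2 * i + 3) * 2 ^ (i + 1) := by
  induction i with
  | zero => norm_num
  | succ i ih =>
    obtain ⟨h1, h2⟩ := ih
    constructor
    · have e1 : 9 ^ (2 * (i + 1)) = 81 * 9 ^ (2 * i) := by ring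
      have e2 : 8 ^ (2 * (i + 1)) * 2 ^ (i + 1) = 128 * (8 ^ (2 * i) * 2 ^ i) := by ring
      rw [e1, e2]; exact Nat.mul_le_mul (by norm_num) h1
    · have e1 : 9 ^ (2 * (i + 1) + 3) = 81 * 9 ^ (2 * i + 3) := by ring
      have e2 : 8 ^ (2 * (i + 1) + 3) * 2 ^ (i + 1 + 1) = 128 * (8 ^ (2 * i + 3) * 2 ^ (i + 1)) := by
        ring
      rw [e1, e2]; exact Nat.mul_le_mul (by norm_num) h2

theorem nine_le {j : ℕ} (hj : j ≠ 1) : 9 ^ j ≤ 8 ^ j * 2 ^ nu j := by
  have hh := half_le_nu j
  rcases Nat.even_or_odd' j with ⟨i, rfl | rfl⟩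
  · have h1 := (nine_aux i).1
    have : i ≤ nu (2 * i) := by omega
    exact h1.trans (Nat.mul_le_mul_left _ (Nat.pow_le_pow_right (by norm_num) this))
  · obtain ⟨i', rfl⟩ : ∃ i', i = i' + 1 := ⟨i - 1, by omega⟩
    have h2 := (nine_aux i').2
    have e : 2 * (i' + 1) + 1 = 2 * i' + 3 := by ring
    rw [e] at hh ⊢
    have : i' + 1 ≤ nu (2 * i' + 3) := by omega
    exact h2.trans (Nat.mul_le_mul_left _ (Nat.pow_le_pow_right (by norm_num) this))

theorem val_pp (p : ℕ) [hp : Fact p.Prime] (a : ℕ) :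
    (p - 1) * padicValNat p (p ^ a).factorial + 1 = p ^ a := by
  induction a with
  | zero => simp
  | succ a ih =>
    rw [pow_succ, mul_comm (p ^ a) p, padicValNat_factorial_mul, mul_add, add_right_comm, ih]
    have := hp.out.one_le
    obtain ⟨m, rfl⟩ : ∃ m, p = m + 1 := ⟨p - 1, by omega⟩
    simp; ring

theorem odd_le_two_pow (m : ℕ) (hm : 3 ≤ m) : 2 * m + 1 ≤ 2 ^ m := by
  induction m, hm using Nat.le_induction with
  | base => norm_num
  | succ m hm ih => rw [pow_succ]; omega

theorem w_le (p : ℕ) [hp : Fact p.Prime] (a : ℕ) :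
    p ^ padicValNat p (p ^ a).factorial ≤ bb (p ^ a) := by
  have hV := val_pp p a
  by_cases h2 : p = 2
  · subst h2
    exact bb_ge _
  have hqmod : p ^ a = 1 ∨ p ∣ p ^ a := by
    rcases a with _ | a
    · left; simp
    · right; exact dvd_pow_self p (Nat.succ_ne_zero a)
  obtain ⟨V, hVdef⟩ : ∃ V, V = padicValNat p (p ^ a).factorial := ⟨_, rfl⟩
  obtain ⟨q, hq⟩ : ∃ q, q = p ^ a := ⟨_, rfl⟩
  rw [← hVdef, ← hq] at hV
  rw [← hVdef, ← hq]
  rw [← hq] at hqmod
  by_cases h3 : p = 3
  · subst h3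
    have hq3 : q = 1 ∨ q % 3 = 0 := by
      rcases hqmod with h | h
      · left; exact h
      · right; exact Nat.mod_eq_zero_of_dvd h
    rcases Nat.even_or_odd' V with ⟨j, rfl | rfl⟩
    · have hqe : q = 4 * j + 1 := by omega
      have hj : j ≠ 1 := by omega
      rw [hqe, bbv j 1 (by norm_num), pow_mul]
      have := nine_le hj
      simpa [cc] using this
    · have hqe : q = 4 * j + 3 := by omega
      have hj : j ≠ 1 := by omega
      rw [hqe, bbv j 3 (by norm_num), pow_succ, pow_mul]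
      have := nine_le hj
      have e : cc 3 * 8 ^ j * 2 ^ nu j = (8 ^ j * 2 ^ nu j) * 3 := by simp [cc]; ring
      rw [e]
      exact Nat.mul_le_mul_right 3 (by simpa using this)
  by_cases h5 : p = 5
  · subst h5
    have hqe : q = 4 * V + 1 := by omega
    rw [hqe, bbv V 1 (by norm_num)]
    calc 5 ^ V ≤ 8 ^ V := Nat.pow_le_pow_left (by norm_num) V
      _ ≤ cc 1 * 8 ^ V * 2 ^ nu V := by
          simp [cc]
          exact Nat.one_le_two_pow
  · have hodd : Odd p := hp.out.eq_two_or_odd'.resolve_left h2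
    obtain ⟨m, rfl⟩ := hodd
    have h1 := hp.out.one_lt
    have hm : 3 ≤ m := by omega
    have hqe : q = 2 * (m * V) + 1 := by
      have : (2 * m + 1 - 1) * V = 2 * (m * V) := by
        rw [Nat.add_sub_cancel]; ring
      omega
    calc (2 * m + 1) ^ V ≤ (2 ^ m) ^ V := Nat.pow_le_pow_left (odd_le_two_pow m hm) V
      _ = 2 ^ (m * V) := (pow_mul 2 m V).symm
      _ ≤ 2 ^ nu q := by
          apply Nat.pow_le_pow_right (by norm_num)
          rw [hqe, nu_two_mul_add_one]; omega
      _ ≤ bb q := bb_ge q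

theorem prod_bb_le {n : ℕ} (hn : n ≠ 0) (S : Finset ℕ) (hS : ∀ p ∈ S, p.Prime) :
    ∏ p ∈ S, bb (p ^ n.factorization p) ≤ bb n := by
  classical
  have key : ∀ T : Finset ℕ, (∀ p ∈ T, 1 ≤ p) →
      ∏ p ∈ T, bb (p ^ n.factorization p) ≤ bb (∏ p ∈ T, p ^ n.factorization p) := by
    intro T
    induction T using Finset.induction_on with
    | empty => intro _; simp [bb_one]
    | insert a T ha ih =>
      intro hT
      rw [Finset.prod_insert ha, Finset.prod_insert ha]
      have h1 := ih (fun p hp => hT p (Finset.mem_insert_of_mem hp))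
      refine (Nat.mul_le_mul_left _ h1).trans (bb_mul ?_ ?_)
      · exact Nat.one_le_pow _ _ (hT a (Finset.mem_insert_self _ _))
      · exact Nat.succ_le_of_lt (Finset.prod_pos
          (fun p hp => pow_pos (hT p (Finset.mem_insert_of_mem hp)) _))
  have h1 : ∏ p ∈ S, bb (p ^ n.factorization p)
      = ∏ p ∈ S ∩ n.primeFactors, bb (p ^ n.factorization p) := by
    rw [← Finset.prod_inter_mul_prod_sdiff S n.primeFactors]
    have : ∏ p ∈ S \ n.primeFactors, bb (p ^ n.factorization p) = 1 := by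
      apply Finset.prod_eq_one
      intro p hp
      rw [Finset.mem_sdiff] at hp
      have : n.factorization p = 0 := by
        by_contra h
        exact hp.2 (Nat.mem_primeFactors.mpr
          ⟨hS p hp.1, Nat.dvd_of_factorization_pos h, hn⟩)
      rw [this, pow_zero, bb_one]
    rw [this, mul_one]
  rw [h1]
  have h2 : ∏ p ∈ S ∩ n.primeFactors, bb (p ^ n.factorization p)
      ≤ ∏ p ∈ n.primeFactors, bb (p ^ n.factorization p) := by
    rw [← Finset.prod_inter_mul_prod_sdiff n.primeFactors S, Finset.inter_comm]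
    apply Nat.le_mul_of_pos_right
    exact Finset.prod_pos (fun i _ => bb_pos _)
  refine h2.trans ((key n.primeFactors
    (fun p hp => (Nat.prime_of_mem_primeFactors hp).one_le)).trans ?_)
  have : ∏ p ∈ n.primeFactors, p ^ n.factorization p = n := by
    have := Nat.prod_factorization_pow_eq_self hn
    rwa [Finsupp.prod, Nat.support_factorization] at this
  rw [this]

open MulAction in
theorem sylow_le_bb {α : Type u} [Finite α] [Nonempty α] (N : Subgroup (Equiv.Perm α))
    [hN : Group.IsNilpotent N] [htr : MulAction.IsPretransitive N α] (p : ℕ) [hp : Fact p.Prime] :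
    p ^ (Nat.card N).factorization p ≤ bb (p ^ (Nat.card α).factorization p) := by
  classical
  let P : Sylow p N := default
  have hPcard : Nat.card P = p ^ (Nat.card N).factorization p := P.card_eq_multiplicity
  haveI hPn : (P : Subgroup N).Normal := inferInstance
  have hM : Subgroup.centralizer ((P : Subgroup N) : Set N) ⊔ (P : Subgroup N) = ⊤ := by
    rw [← Subgroup.index_eq_one]
    by_contra hne
    obtain ⟨q, hq, hqd⟩ := Nat.exists_prime_and_dvd hne
    haveI : Fact q.Prime := ⟨hq⟩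
    let Q : Sylow q N := default
    have hQle : (Q : Subgroup N) ≤
        Subgroup.centralizer ((P : Subgroup N) : Set N) ⊔ (P : Subgroup N) := by
      by_cases hqp : q = p
      · subst hqp
        have : Q = P := @Subsingleton.elim _
          (@Unique.instSubsingleton _ (Sylow.unique_of_normal P hPn)) Q P
        rw [this]; exact le_sup_right
      · refine le_trans ?_ le_sup_left
        intro y hy
        rw [Subgroup.mem_centralizer_iff]
        intro u hu
        have hdis := IsPGroup.disjoint_of_ne q p hqp (Q : Subgroup N) (P : Subgroup N)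
          Q.isPGroup' P.isPGroup'
        exact (Subgroup.commute_of_normal_of_disjoint _ _ inferInstance inferInstance hdis
          y u hy hu).eq.symm
    exact (Sylow.not_dvd_index Q) (hqd.trans (Subgroup.index_dvd_of_le hQle))
  obtain ⟨x⟩ := ‹Nonempty α›
  obtain ⟨a, ha⟩ := (P.isPGroup').card_orbit x
  have hblock : IsBlock N (orbit (P : Subgroup N) x) := IsBlock.orbit_of_normal x
  have hdvd : (orbit (P : Subgroup N) x).ncard ∣ Nat.card α :=
    hblock.ncard_dvd_card ⟨x, MulAction.mem_orbit_self x⟩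
  rw [← Nat.card_coe_set_eq, ha] at hdvd
  have ha_le : a ≤ (Nat.card α).factorization p :=
    (hp.out.pow_dvd_iff_le_factorization (Nat.card_pos.ne')).mp hdvd
  have hinj : Function.Injective
      (MulAction.toPermHom (P : Subgroup N) (orbit (P : Subgroup N) x)) := by
    rw [injective_iff_map_eq_one]
    intro k hk
    have hfix : ∀ y ∈ orbit (P : Subgroup N) x, (k : N) • y = y := by
      intro y hy
      have := congrArg (fun f => ((f ⟨y, hy⟩ : orbit (P : Subgroup N) x) : α)) hk
      have h2 : k • y = y := by simpa using this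
      exact h2
    have hall : ∀ z : α, (k : N) • z = z := by
      intro z
      obtain ⟨g, rfl⟩ := MulAction.exists_smul_eq N x z
      have hg : g ∈ ((Subgroup.centralizer ((P : Subgroup N) : Set N) ⊔ (P : Subgroup N)
          : Subgroup N) : Set N) := by rw [hM]; trivial
      rw [Subgroup.mul_normal] at hg
      obtain ⟨c, hc, u, hu, rfl⟩ := Set.mem_mul.mp hg
      rw [mul_smul, ← mul_smul (k : N) c,
        Subgroup.mem_centralizer_iff.mp hc (k : N) k.2, mul_smul]
      congr 1
      exact hfix _ ⟨⟨u, hu⟩, rfl⟩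
    apply Subtype.ext
    apply Subtype.ext
    ext z
    exact hall z
  have hcard_dvd : Nat.card P ∣ (p ^ a).factorial := by
    have := Subgroup.card_dvd_of_injective _ hinj
    rwa [Nat.card_perm, ha] at this
  rw [hPcard] at hcard_dvd
  have hv : (Nat.card N).factorization p ≤ padicValNat p (p ^ a).factorial :=
    (padicValNat_dvd_iff_le (Nat.factorial_ne_zero _)).mp hcard_dvd
  calc p ^ (Nat.card N).factorization p ≤ p ^ padicValNat p (p ^ a).factorial :=
        Nat.pow_le_pow_right hp.out.pos hv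
    _ ≤ bb (p ^ a) := w_le p a
    _ ≤ bb (p ^ (Nat.card α).factorization p) :=
        bb_mono (Nat.pow_le_pow_right hp.out.pos ha_le)

theorem trans_le_bb {α : Type u} [Finite α] [Nonempty α] (N : Subgroup (Equiv.Perm α))
    [hN : Group.IsNilpotent N] [htr : MulAction.IsPretransitive N α] :
    Nat.card N ≤ bb (Nat.card α) := by
  have hc : Nat.card N ≠ 0 := Nat.card_pos.ne'
  have h1 : Nat.card N = ∏ p ∈ (Nat.card N).primeFactors, p ^ (Nat.card N).factorization p := by
    have := Nat.prod_factorization_pow_eq_self hc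
    rw [Finsupp.prod, Nat.support_factorization] at this
    exact this.symm
  calc Nat.card N = ∏ p ∈ (Nat.card N).primeFactors, p ^ (Nat.card N).factorization p := h1
    _ ≤ ∏ p ∈ (Nat.card N).primeFactors, bb (p ^ (Nat.card α).factorization p) := by
        apply Finset.prod_le_prod
        · intro i _; exact Nat.zero_le _
        · intro i hi
          haveI : Fact i.Prime := ⟨Nat.prime_of_mem_primeFactors hi⟩
          exact sylow_le_bb N i
    _ ≤ bb (Nat.card α) :=
        prod_bb_le (Nat.card_pos.ne') _ (fun p hp => Nat.prime_of_mem_primeFactors hp)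

theorem split_card {α : Type u} [Finite α] (N : Subgroup (Equiv.Perm α))
    [hN : Group.IsNilpotent N]
    (s : Set α) (hs : ∀ g ∈ N, ∀ z, g z ∈ s ↔ z ∈ s) :
    ∃ (N₁ : Subgroup (Equiv.Perm {z // z ∈ s})) (N₂ : Subgroup (Equiv.Perm {z // ¬ z ∈ s})),
      Group.IsNilpotent N₁ ∧ Group.IsNilpotent N₂ ∧ Nat.card N ≤ Nat.card N₁ * Nat.card N₂ := by
  classical
  let φ₁ : N →* Equiv.Perm {z // z ∈ s} :=
    { toFun := fun g => Equiv.Perm.subtypePerm g.1 (hs g.1 g.2)
      map_one' := by ext; rfl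
      map_mul' := fun g h => by ext; rfl }
  have hs' : ∀ g ∈ N, ∀ z, ¬ g z ∈ s ↔ ¬ z ∈ s := fun g hg z => not_congr (hs g hg z)
  let φ₂ : N →* Equiv.Perm {z // ¬ z ∈ s} :=
    { toFun := fun g => Equiv.Perm.subtypePerm g.1 (hs' g.1 g.2)
      map_one' := by ext; rfl
      map_mul' := fun g h => by ext; rfl }
  refine ⟨φ₁.range, φ₂.range, ?_, ?_, ?_⟩
  · exact Group.nilpotent_of_surjective φ₁.rangeRestrict φ₁.rangeRestrict_surjective
  · exact Group.nilpotent_of_surjective φ₂.rangeRestrict φ₂.rangeRestrict_surjective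
  · rw [← Nat.card_prod]
    apply Nat.card_le_card_of_injective (fun g => (φ₁.rangeRestrict g, φ₂.rangeRestrict g))
    intro g h hgh
    simp only [Prod.mk.injEq] at hgh
    obtain ⟨h1, h2⟩ := hgh
    have h1' : φ₁ g = φ₁ h := congrArg Subtype.val h1
    have h2' : φ₂ g = φ₂ h := congrArg Subtype.val h2
    apply Subtype.ext
    ext z
    by_cases hz : z ∈ s
    · have := congrArg (fun f => ((f ⟨z, hz⟩ : {z // z ∈ s}) : α)) h1'
      simpa [φ₁] using this
    · have := congrArg (fun f => ((f ⟨z, hz⟩ : {z // ¬ z ∈ s}) : α)) h2'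
      simpa [φ₂] using this

theorem nilp_le_bb : ∀ (n : ℕ) (α : Type u) [Finite α] (N : Subgroup (Equiv.Perm α)),
    Group.IsNilpotent N → Nat.card α = n → Nat.card N ≤ bb n := by
  intro n
  induction n using Nat.strong_induction_on with
  | _ n ih =>
    intro α _ N hN hcard
    rcases isEmpty_or_nonempty α with hα | hα
    · have : Nat.card N = 1 := by
        haveI : Subsingleton (Equiv.Perm α) := ⟨fun a b => Equiv.ext (fun x => isEmptyElim x)⟩
        exact Nat.card_eq_one_iff_unique.mpr ⟨inferInstance, ⟨1⟩⟩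
      rw [this]; exact bb_pos n
    by_cases htr : MulAction.IsPretransitive N α
    · rw [← hcard]; exact trans_le_bb N
    · obtain ⟨x⟩ := hα
      have hne : ∃ y, y ∉ MulAction.orbit N x := by
        by_contra hall
        push Not at hall
        apply htr
        refine ⟨fun y z => ?_⟩
        obtain ⟨a, ha⟩ := hall y
        obtain ⟨b, hb⟩ := hall z
        refine ⟨b * a⁻¹, ?_⟩
        rw [← ha, ← hb, mul_smul, inv_smul_smul]
      obtain ⟨y, hy⟩ := hne
      have hs : ∀ g ∈ N, ∀ z, g z ∈ MulAction.orbit N x ↔ z ∈ MulAction.orbit N x := by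
        intro g hg z
        constructor
        · intro h
          have := MulAction.mem_orbit_of_mem_orbit ((⟨g, hg⟩ : N)⁻¹) h
          have e : ((⟨g, hg⟩ : N)⁻¹) • (g z) = z := by
            change (g⁻¹ : Equiv.Perm α) (g z) = z
            simp
          rwa [e] at this
        · intro h
          exact MulAction.mem_orbit_of_mem_orbit (⟨g, hg⟩ : N) h
      obtain ⟨N₁, N₂, hN₁, hN₂, hle⟩ := split_card N (MulAction.orbit N x) hs
      have hsum : Nat.card {z // z ∈ MulAction.orbit N x} +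
          Nat.card {z // ¬ z ∈ MulAction.orbit N x} = n := by
        have h1 : Nat.card {z // z ∈ MulAction.orbit N x} = (MulAction.orbit N x).ncard :=
          Nat.card_coe_set_eq _
        have h2 : Nat.card {z // ¬ z ∈ MulAction.orbit N x} = (MulAction.orbit N x)ᶜ.ncard :=
          Nat.card_coe_set_eq (MulAction.orbit N x)ᶜ
        rw [h1, h2, Set.ncard_add_ncard_compl, hcard]
      have h1 : 0 < Nat.card {z // z ∈ MulAction.orbit N x} := by
        haveI : Nonempty {z // z ∈ MulAction.orbit N x} := ⟨⟨x, MulAction.mem_orbit_self x⟩⟩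
        exact Nat.card_pos
      have h2 : 0 < Nat.card {z // ¬ z ∈ MulAction.orbit N x} := by
        haveI : Nonempty {z // ¬ z ∈ MulAction.orbit N x} := ⟨⟨y, hy⟩⟩
        exact Nat.card_pos
      have b1 := ih (Nat.card {z // z ∈ MulAction.orbit N x}) (by omega) _ N₁ hN₁ rfl
      have b2 := ih (Nat.card {z // ¬ z ∈ MulAction.orbit N x}) (by omega) _ N₂ hN₂ rfl
      calc Nat.card N ≤ Nat.card N₁ * Nat.card N₂ := hle
        _ ≤ bb (Nat.card {z // z ∈ MulAction.orbit N x}) *
            bb (Nat.card {z // ¬ z ∈ MulAction.orbit N x}) := Nat.mul_le_mul b1 b2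
        _ ≤ bb (Nat.card {z // z ∈ MulAction.orbit N x} +
            Nat.card {z // ¬ z ∈ MulAction.orbit N x}) := bb_add _ _
        _ = bb n := by rw [hsum]

theorem card_sylow_two_perm (n : ℕ) (P : Sylow 2 (Equiv.Perm (Fin n))) :
    Nat.card P = 2 ^ nu n := by
  rw [P.card_eq_multiplicity, Nat.card_perm, Nat.card_fin,
    Nat.factorization_def _ Nat.prime_two]
  rfl

end Cfsg.Agent.Lib.helper19.NilpSym
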