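import Cfsg.Agent.Lib.helper19.NilpSym

/-!
Nilpotent subgroups of `S_n`, `n ≡ 3 (mod 4)`: structure of the extremal subgroups, existence and
conjugacy.
-/

namespace Cfsg.Agent.Lib.helper19.NilpSym

universe u

theorem cent_sup_sylow {G : Type u} [Group G] [Finite G] [hN : Group.IsNilpotent G]
    (p : ℕ) [hp : Fact p.Prime] (P : Sylow p G) :
    Subgroup.centralizer ((P : Subgroup G) : Set G) ⊔ (P : Subgroup G) = ⊤ := by
  haveI hPn : (P : Subgroup G).Normal := inferInstance
  rw [← Subgroup.index_eq_one]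
  by_contra hne
  obtain ⟨q, hq, hqd⟩ := Nat.exists_prime_and_dvd hne
  haveI : Fact q.Prime := ⟨hq⟩
  let Q : Sylow q G := default
  have hQle : (Q : Subgroup G) ≤
      Subgroup.centralizer ((P : Subgroup G) : Set G) ⊔ (P : Subgroup G) := by
    by_cases hqp : q = p
    · subst hqp
      have : Q = P := @Subsingleton.elim _
        (@Unique.instSubsingleton _ (Sylow.unique_of_normal P hPn)) Q P
      rw [this]; exact le_sup_right
    · refine le_trans ?_ le_sup_left
      intro y hy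
      rw [Subgroup.mem_centralizer_iff]
      intro u hu
      have hdis := IsPGroup.disjoint_of_ne q p hqp (Q : Subgroup G) (P : Subgroup G)
        Q.isPGroup' P.isPGroup'
      exact (Subgroup.commute_of_normal_of_disjoint _ _ inferInstance inferInstance hdis
        y u hy hu).eq.symm
  exact (Sylow.not_dvd_index Q) (hqd.trans (Subgroup.index_dvd_of_le hQle))

open MulAction in
theorem sylow_orbit {α : Type u} [Finite α] [Nonempty α] (N : Subgroup (Equiv.Perm α))
    [hN : Group.IsNilpotent N] [htr : MulAction.IsPretransitive N α] (p : ℕ) [hp : Fact p.Prime] :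
    ∃ a, p ^ a ∣ Nat.card α ∧ p ^ (Nat.card N).factorization p ∣ (p ^ a).factorial := by
  classical
  let P : Sylow p N := default
  have hPcard : Nat.card P = p ^ (Nat.card N).factorization p := P.card_eq_multiplicity
  haveI hPn : (P : Subgroup N).Normal := inferInstance
  have hM := cent_sup_sylow p P
  obtain ⟨x⟩ := ‹Nonempty α›
  obtain ⟨a, ha⟩ := (P.isPGroup').card_orbit x
  have hblock : IsBlock N (orbit (P : Subgroup N) x) := IsBlock.orbit_of_normal x
  have hdvd : (orbit (P : Subgroup N) x).ncard ∣ Nat.card α :=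
    hblock.ncard_dvd_card ⟨x, MulAction.mem_orbit_self x⟩
  rw [← Nat.card_coe_set_eq, ha] at hdvd
  have hinj : Function.Injective
      (MulAction.toPermHom (P : Subgroup N) (orbit (P : Subgroup N) x)) := by
    rw [injective_iff_map_eq_one]
    intro k hk
    have hfix : ∀ y ∈ orbit (P : Subgroup N) x, (k : N) • y = y := by
      intro y hy
      have := congrArg (fun f => ((f ⟨y, hy⟩ : orbit (P : Subgroup N) x) : α)) hk
      have h2 : k • y = y := by simpa using this
      exact h2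
    have hall : ∀ z : α, (k : N) • z = z := by
      intro z
      obtain ⟨g, rfl⟩ := MulAction.exists_smul_eq N x z
      have hg : g ∈ ((Subgroup.centralizer ((P : Subgroup N) : Set N) ⊔ (P : Subgroup N)
          : Subgroup N) : Set N) := by rw [hM]; trivial
      rw [Subgroup.mul_normal] at hg
      obtain ⟨c, hc, u, hu, rfl⟩ := Set.mem_mul.mp hg
      rw [mul_smul, ← mul_smul (k : N) c,
        Subgroup.mem_centralizer_iff.mp hc (k : N) k.2, mul_smul]
      congr 1
      exact hfix _ ⟨⟨u, hu⟩, rfl⟩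
    apply Subtype.ext
    apply Subtype.ext
    ext z
    exact hall z
  have hcard_dvd : Nat.card P ∣ (p ^ a).factorial := by
    have := Subgroup.card_dvd_of_injective _ hinj
    rwa [Nat.card_perm, ha] at this
  rw [hPcard] at hcard_dvd
  exact ⟨a, hdvd, hcard_dvd⟩

/-- restriction of a permutation group to an invariant set -/
def resHom {α : Type u} (N : Subgroup (Equiv.Perm α)) (s : Set α)
    (hs : ∀ g ∈ N, ∀ z, g z ∈ s ↔ z ∈ s) : N →* Equiv.Perm {z // z ∈ s} :=
  { toFun := fun g => Equiv.Perm.subtypePerm g.1 (hs g.1 g.2)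
    map_one' := by ext; rfl
    map_mul' := fun g h => by ext; rfl }

theorem resHom_apply {α : Type u} (N : Subgroup (Equiv.Perm α)) (s : Set α)
    (hs : ∀ g ∈ N, ∀ z, g z ∈ s ↔ z ∈ s) (g : N) (y : {z // z ∈ s}) :
    ((resHom N s hs g) y : α) = g.1 y.1 := rfl

theorem compl_inv {α : Type u} (N : Subgroup (Equiv.Perm α)) (s : Set α)
    (hs : ∀ g ∈ N, ∀ z, g z ∈ s ↔ z ∈ s) : ∀ g ∈ N, ∀ z, g z ∈ sᶜ ↔ z ∈ sᶜ :=
  fun g hg z => not_congr (hs g hg z)

theorem res_card_dvd {α : Type u} [Finite α] (N : Subgroup (Equiv.Perm α)) (s : Set α)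
    (hs : ∀ g ∈ N, ∀ z, g z ∈ s ↔ z ∈ s) :
    Nat.card N ∣ Nat.card (resHom N s hs).range *
      Nat.card (resHom N sᶜ (compl_inv N s hs)).range := by
  classical
  rw [← Nat.card_prod]
  apply Subgroup.card_dvd_of_injective (((resHom N s hs).rangeRestrict).prod
    ((resHom N sᶜ (compl_inv N s hs)).rangeRestrict))
  intro g h hgh
  simp only [MonoidHom.prod_apply, Prod.mk.injEq] at hgh
  obtain ⟨h1, h2⟩ := hgh
  have h1' : resHom N s hs g = resHom N s hs h := congrArg Subtype.val h1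
  have h2' : resHom N sᶜ (compl_inv N s hs) g = resHom N sᶜ (compl_inv N s hs) h :=
    congrArg Subtype.val h2
  apply Subtype.ext
  ext z
  by_cases hz : z ∈ s
  · have := congrArg (fun f => ((f ⟨z, hz⟩ : {z // z ∈ s}) : α)) h1'
    exact this
  · have := congrArg (fun f => ((f ⟨z, hz⟩ : {z // z ∈ sᶜ}) : α)) h2'
    exact this

theorem pv_le_of_dvd {a b : ℕ} (hb : b ≠ 0) (h : a ∣ b) : padicValNat 2 a ≤ padicValNat 2 b :=
  (padicValNat_dvd_iff_le hb).mp (pow_padicValNat_dvd.trans h)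

theorem claimC : ∀ (n : ℕ) (α : Type u) [Finite α] (N : Subgroup (Equiv.Perm α))
    (z : Equiv.Perm α), Group.IsNilpotent N → z ∈ N → z ^ 3 = 1 → (∀ x, z x ≠ x) →
    Nat.card α = n → padicValNat 2 (Nat.card N) ≤ nu (n / 3) ∧ 3 ∣ n := by
  intro n
  induction n using Nat.strong_induction_on with
  | _ n ih =>
    intro α _ N z hN hz hz3 hfp hcard
    rcases isEmpty_or_nonempty α with hα | hα
    · have h1 : Nat.card N = 1 := by
        haveI : Subsingleton (Equiv.Perm α) := ⟨fun a b => Equiv.ext (fun x => isEmptyElim x)⟩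
        exact Nat.card_eq_one_iff_unique.mpr ⟨inferInstance, ⟨1⟩⟩
      have hn0 : n = 0 := by rw [← hcard]; exact Nat.card_of_isEmpty
      subst hn0
      rw [h1]; simp
    by_cases htr : MulAction.IsPretransitive N α
    · have hz1 : z ≠ 1 := by
        obtain ⟨x⟩ := hα
        intro h
        exact hfp x (by rw [h]; rfl)
      haveI : Fact (Nat.Prime 3) := ⟨Nat.prime_three⟩
      have ho : orderOf z = 3 := orderOf_eq_prime hz3 hz1
      have h3N : 3 ∣ Nat.card N := by
        have := orderOf_dvd_natCard (⟨z, hz⟩ : N)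
        rwa [Subgroup.orderOf_mk, ho] at this
      obtain ⟨a3, h3a, h3b⟩ := sylow_orbit N 3
      obtain ⟨a2, h2a, h2b⟩ := sylow_orbit N 2
      have ha3 : a3 ≠ 0 := by
        rintro rfl
        have hpos : 0 < (Nat.card N).factorization 3 :=
          Nat.Prime.factorization_pos_of_dvd Nat.prime_three Nat.card_pos.ne' h3N
        have h1 : 3 ^ (Nat.card N).factorization 3 = 1 := by
          have : (3 ^ 0).factorial = 1 := by norm_num
          rw [this] at h3b
          exact Nat.dvd_one.mp h3b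
        have : (Nat.card N).factorization 3 = 0 := by
          by_contra hne
          have := Nat.one_lt_pow hne (by norm_num : 1 < 3)
          omega
        omega
      have h3n : 3 ∣ Nat.card α := (dvd_pow_self 3 ha3).trans h3a
      have hcop : Nat.Coprime (2 ^ a2) 3 := Nat.Coprime.pow_left _ (by norm_num)
      have h6 : 2 ^ a2 * 3 ∣ Nat.card α := hcop.mul_dvd_of_dvd_of_dvd h2a h3n
      have hle : 2 ^ a2 ≤ Nat.card α / 3 := by
        rw [Nat.le_div_iff_mul_le (by norm_num)]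
        exact Nat.le_of_dvd Nat.card_pos h6
      have hv : padicValNat 2 (Nat.card N) ≤ nu (2 ^ a2) := by
        rw [← Nat.factorization_def _ Nat.prime_two]
        exact (padicValNat_dvd_iff_le (Nat.factorial_ne_zero _)).mp h2b
      rw [← hcard]
      exact ⟨hv.trans (nu_mono hle), h3n⟩
    · obtain ⟨x⟩ := hα
      have hne : ∃ y, y ∉ MulAction.orbit N x := by
        by_contra hall
        push Not at hall
        apply htr
        refine ⟨fun y z => ?_⟩
        obtain ⟨a, ha⟩ := hall y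
        obtain ⟨b, hb⟩ := hall z
        refine ⟨b * a⁻¹, ?_⟩
        rw [← ha, ← hb, mul_smul, inv_smul_smul]
      obtain ⟨y, hy⟩ := hne
      have hs : ∀ g ∈ N, ∀ z, g z ∈ MulAction.orbit N x ↔ z ∈ MulAction.orbit N x := by
        intro g hg z
        constructor
        · intro h
          have := MulAction.mem_orbit_of_mem_orbit ((⟨g, hg⟩ : N)⁻¹) h
          have e : ((⟨g, hg⟩ : N)⁻¹) • (g z) = z := by
            change (g⁻¹ : Equiv.Perm α) (g z) = z
            simp
          rwa [e] at this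
        · intro h
          exact MulAction.mem_orbit_of_mem_orbit (⟨g, hg⟩ : N) h
      obtain ⟨s, hsdef⟩ : ∃ s : Set α, s = MulAction.orbit N x := ⟨_, rfl⟩
      rw [← hsdef] at hs hy
      have hsum : Nat.card {z // z ∈ s} + Nat.card {z // z ∈ sᶜ} = n := by
        have h1 : Nat.card {z // z ∈ s} = s.ncard := Nat.card_coe_set_eq _
        have h2 : Nat.card {z // z ∈ sᶜ} = sᶜ.ncard := Nat.card_coe_set_eq sᶜ
        rw [h1, h2, Set.ncard_add_ncard_compl, hcard]
      have h1 : 0 < Nat.card {z // z ∈ s} := by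
        haveI : Nonempty {z // z ∈ s} := ⟨⟨x, by rw [hsdef]; exact MulAction.mem_orbit_self x⟩⟩
        exact Nat.card_pos
      have h2 : 0 < Nat.card {z // z ∈ sᶜ} := by
        haveI : Nonempty {z // z ∈ sᶜ} := ⟨⟨y, hy⟩⟩
        exact Nat.card_pos
      have hz3' : (⟨z, hz⟩ : N) ^ 3 = 1 := Subtype.ext hz3
      have c1 := ih (Nat.card {z // z ∈ s}) (by omega) _ (resHom N s hs).range
        (resHom N s hs ⟨z, hz⟩)
        (Group.nilpotent_of_surjective _ (MonoidHom.rangeRestrict_surjective _)) ⟨_, rfl⟩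
        (by rw [← map_pow, hz3', map_one]) (fun y h => hfp y.1 (congrArg Subtype.val h)) rfl
      have c2 := ih (Nat.card {z // z ∈ sᶜ}) (by omega) _
        (resHom N sᶜ (compl_inv N s hs)).range
        (resHom N sᶜ (compl_inv N s hs) ⟨z, hz⟩)
        (Group.nilpotent_of_surjective _ (MonoidHom.rangeRestrict_surjective _)) ⟨_, rfl⟩
        (by rw [← map_pow, hz3', map_one]) (fun y h => hfp y.1 (congrArg Subtype.val h)) rfl
      obtain ⟨c1a, c1b⟩ := c1
      obtain ⟨c2a, c2b⟩ := c2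
      have hd := res_card_dvd N s hs
      have hv : padicValNat 2 (Nat.card N) ≤
          padicValNat 2 (Nat.card (resHom N s hs).range) +
          padicValNat 2 (Nat.card (resHom N sᶜ (compl_inv N s hs)).range) := by
        rw [← padicValNat.mul Nat.card_pos.ne' Nat.card_pos.ne']
        exact pv_le_of_dvd (Nat.mul_ne_zero Nat.card_pos.ne' Nat.card_pos.ne') hd
      refine ⟨?_, ?_⟩
      · obtain ⟨u, hu⟩ := c1b
        obtain ⟨v, hv'⟩ := c2b
        have : n / 3 = Nat.card {z // z ∈ s} / 3 + Nat.card {z // z ∈ sᶜ} / 3 := by omega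
        rw [this]
        exact (hv.trans (Nat.add_le_add c1a c2a)).trans (nu_add _ _)
      · rw [← hsum]; exact dvd_add c1b c2b

theorem fact3 (v : ℕ) : (3 * 2 ^ v).factorization 3 = 1 := by
  rw [Nat.factorization_mul (by norm_num) (by positivity), Nat.factorization_pow]
  have h1 : (3 : ℕ).factorization 3 = 1 := Nat.Prime.factorization_self Nat.prime_three
  have h2 : (2 : ℕ).factorization 3 = 0 := Nat.factorization_eq_zero_of_not_dvd (by norm_num)
  simp [h1, h2]

theorem fact2 (v : ℕ) : (3 * 2 ^ v).factorization 2 = v := by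
  rw [Nat.factorization_mul (by norm_num) (by positivity), Nat.factorization_pow]
  have h1 : (3 : ℕ).factorization 2 = 0 := Nat.factorization_eq_zero_of_not_dvd (by norm_num)
  have h2 : (2 : ℕ).factorization 2 = 1 := Nat.Prime.factorization_self Nat.prime_two
  simp [h1, h2]

theorem nu_one : nu 1 = 0 := by simp [nu]

theorem structure3 (n : ℕ) (hn : n % 4 = 3) (N : Subgroup (Equiv.Perm (Fin n)))
    (hN : Group.IsNilpotent N) (hcard : Nat.card N = 3 * 2 ^ nu (n - 3)) :
    ∃ z ∈ N, z.IsThreeCycle ∧ ∃ T : Subgroup (Equiv.Perm (Fin n)), T ≤ N ∧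
      Nat.card T = 2 ^ nu (n - 3) ∧ ∀ t ∈ T, ∀ x, z x ≠ x → t x = x := by
  classical
  haveI : Fact (Nat.Prime 3) := ⟨Nat.prime_three⟩
  let Q : Sylow 3 N := default
  have hQcard : Nat.card Q = 3 := by
    rw [Q.card_eq_multiplicity, hcard, fact3, pow_one]
  obtain ⟨zq, hzqQ, hzqo⟩ : ∃ zq : N, zq ∈ (Q : Subgroup N) ∧ orderOf zq = 3 := by
    obtain ⟨g, hg⟩ := exists_prime_orderOf_dvd_card' (G := Q) 3 (by rw [hQcard])
    exact ⟨g.1, g.2, (Subgroup.orderOf_coe g).trans hg⟩
  have hcent : ∀ g : N, g * zq = zq * g := by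
    intro g
    have hM := cent_sup_sylow 3 Q
    have hg : g ∈ ((Subgroup.centralizer ((Q : Subgroup N) : Set N) ⊔ (Q : Subgroup N)
        : Subgroup N) : Set N) := by rw [hM]; trivial
    rw [Subgroup.mul_normal] at hg
    obtain ⟨c, hc, u, hu, rfl⟩ := Set.mem_mul.mp hg
    have hu' : u ∈ Subgroup.zpowers zq := by
      have hle : Subgroup.zpowers zq ≤ (Q : Subgroup N) := by
        rw [Subgroup.zpowers_le]; exact hzqQ
      have heq : Subgroup.zpowers zq = (Q : Subgroup N) :=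
        Subgroup.eq_of_le_of_card_ge hle (by rw [Nat.card_zpowers, hzqo, hQcard])
      rw [heq]; exact hu
    obtain ⟨i, rfl⟩ := Subgroup.mem_zpowers_iff.mp hu'
    have h1 : zq * c = c * zq := Subgroup.mem_centralizer_iff.mp hc zq hzqQ
    calc c * zq ^ i * zq = c * (zq ^ i * zq) := mul_assoc _ _ _
      _ = c * (zq * zq ^ i) := by rw [(Commute.zpow_self zq i).eq]
      _ = (c * zq) * zq ^ i := (mul_assoc _ _ _).symm
      _ = (zq * c) * zq ^ i := by rw [h1]
      _ = zq * (c * zq ^ i) := mul_assoc _ _ _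
  obtain ⟨z, hzdef⟩ : ∃ z : Equiv.Perm (Fin n), z = zq.1 := ⟨_, rfl⟩
  have hz : z ∈ N := by rw [hzdef]; exact zq.2
  have hzo : orderOf z = 3 := by rw [hzdef, Subgroup.orderOf_coe]; exact hzqo
  have hcomm : ∀ g ∈ N, g * z = z * g := by
    intro g hg
    have := congrArg Subtype.val (hcent ⟨g, hg⟩)
    rw [hzdef]; exact this
  have hz3 : z ^ 3 = 1 := by rw [← hzo]; exact pow_orderOf_eq_one z
  have hz1 : z ≠ 1 := by
    intro h
    rw [h, orderOf_one] at hzo
    norm_num at hzo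
  obtain ⟨s, hsdef⟩ : ∃ s : Set (Fin n), s = {x | z x ≠ x} := ⟨_, rfl⟩
  have hs : ∀ g ∈ N, ∀ x, g x ∈ s ↔ x ∈ s := by
    intro g hg x
    have hc : z (g x) = g (z x) := by
      have := congrArg (fun f : Equiv.Perm (Fin n) => f x) (hcomm g hg)
      simpa using this.symm
    rw [hsdef]
    show z (g x) ≠ g x ↔ z x ≠ x
    rw [hc, Ne, Ne, g.injective.eq_iff]
  have hz3' : (⟨z, hz⟩ : N) ^ 3 = 1 := Subtype.ext hz3
  have hfp' : ∀ x ∈ s, z x ≠ x := by
    intro x hx
    rw [hsdef] at hx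
    exact hx
  have cC := claimC (Nat.card {x // x ∈ s}) _ (resHom N s hs).range (resHom N s hs ⟨z, hz⟩)
    (Group.nilpotent_of_surjective _ (MonoidHom.rangeRestrict_surjective _)) ⟨_, rfl⟩
    (by rw [← map_pow, hz3', map_one])
    (fun y h => hfp' y.1 y.2 (congrArg Subtype.val h)) rfl
  obtain ⟨cCa, cCb⟩ := cC
  have hsum : Nat.card {z // z ∈ s} + Nat.card {z // z ∈ sᶜ} = n := by
    have h1 : Nat.card {z // z ∈ s} = s.ncard := Nat.card_coe_set_eq _
    have h2 : Nat.card {z // z ∈ sᶜ} = sᶜ.ncard := Nat.card_coe_set_eq sᶜ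
    rw [h1, h2, Set.ncard_add_ncard_compl, Nat.card_fin]
  have hf : padicValNat 2 (Nat.card (resHom N sᶜ (compl_inv N s hs)).range)
      ≤ nu (Nat.card {z // z ∈ sᶜ}) := by
    have := Subgroup.card_subgroup_dvd_card (resHom N sᶜ (compl_inv N s hs)).range
    rw [Nat.card_perm] at this
    exact pv_le_of_dvd (Nat.factorial_ne_zero _) this
  have hv2 : padicValNat 2 (Nat.card N) = nu (n - 3) := by
    rw [hcard, ← Nat.factorization_def _ Nat.prime_two, fact2]
  have hd := res_card_dvd N s hs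
  have hv : padicValNat 2 (Nat.card N) ≤
      padicValNat 2 (Nat.card (resHom N s hs).range) +
      padicValNat 2 (Nat.card (resHom N sᶜ (compl_inv N s hs)).range) := by
    rw [← padicValNat.mul Nat.card_pos.ne' Nat.card_pos.ne']
    exact pv_le_of_dvd (Nat.mul_ne_zero Nat.card_pos.ne' Nat.card_pos.ne') hd
  have hpos : 0 < Nat.card {x // x ∈ s} := by
    have : ∃ x, z x ≠ x := by
      by_contra hall
      push Not at hall
      exact hz1 (Equiv.ext hall)
    obtain ⟨x, hx⟩ := this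
    haveI : Nonempty {x // x ∈ s} := ⟨⟨x, by rw [hsdef]; exact hx⟩⟩
    exact Nat.card_pos
  have hk3 : Nat.card {x // x ∈ s} = 3 := by
    obtain ⟨k, hk⟩ := cCb
    by_contra hne
    have hk2 : 2 ≤ k := by omega
    obtain ⟨j, hj⟩ : ∃ j, n = 4 * j + 3 := ⟨n / 4, by omega⟩
    have hj1 : 1 ≤ j := by omega
    obtain ⟨j', rfl⟩ : ∃ j', j = j' + 1 := ⟨j - 1, by omega⟩
    have e1 : nu (n - 3) = nu (j' + 1) + 3 * (j' + 1) := by
      rw [hj, show 4 * (j' + 1) + 3 - 3 = 4 * (j' + 1) by omega, nu_four]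
    have e2 : nu (Nat.card {x // x ∈ s} / 3) + nu (Nat.card {z // z ∈ sᶜ}) ≤ nu (4 * j' + 3) := by
      refine (nu_add _ _).trans (nu_mono ?_)
      omega
    rw [nu_four3] at e2
    have e3 : nu j' ≤ nu (j' + 1) := nu_mono (by omega)
    have := hv.trans (Nat.add_le_add cCa hf)
    omega
  have hthree : z.IsThreeCycle := by
    apply card_support_eq_three_iff.mp
    rw [← hk3, Nat.card_eq_fintype_card, Fintype.card_subtype]
    congr 1
    ext x
    simp [hsdef]
  refine ⟨z, hz, hthree, ?_⟩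
  let T₀ : Sylow 2 N := default
  have hT₀card : Nat.card T₀ = 2 ^ nu (n - 3) := by
    rw [T₀.card_eq_multiplicity, hcard, fact2]
  have hTs : (T₀ : Subgroup N).map (resHom N s hs) = ⊥ := by
    have hp : IsPGroup 2 ((T₀ : Subgroup N).map (resHom N s hs)) := T₀.isPGroup'.map _
    obtain ⟨e, he⟩ := IsPGroup.iff_card.mp hp
    have hd : Nat.card ((T₀ : Subgroup N).map (resHom N s hs)) ∣
        Nat.card (resHom N s hs).range :=
      Subgroup.card_dvd_of_le (by rintro _ ⟨t, _, rfl⟩; exact ⟨t, rfl⟩)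
    rw [he] at hd
    have h1 : e ≤ padicValNat 2 (Nat.card (resHom N s hs).range) :=
      (padicValNat_dvd_iff_le Nat.card_pos.ne').mp hd
    have e0 : e = 0 := by
      rw [hk3] at cCa
      have : nu (3 / 3) = 0 := by norm_num [nu_one]
      omega
    rw [e0, pow_zero] at he
    exact (Subgroup.card_eq_one).mp he
  refine ⟨(T₀ : Subgroup N).map N.subtype, ?_, ?_, ?_⟩
  · rintro _ ⟨t, _, rfl⟩
    exact t.2
  · rw [Subgroup.card_map_of_injective (Subgroup.subtype_injective N)]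
    exact hT₀card
  · rintro _ ⟨t, ht, rfl⟩ x hx
    have hmem : resHom N s hs t ∈ (T₀ : Subgroup N).map (resHom N s hs) := ⟨t, ht, rfl⟩
    rw [hTs, Subgroup.mem_bot] at hmem
    have hxs : x ∈ s := by rw [hsdef]; exact hx
    have := congrArg (fun f => ((f ⟨x, hxs⟩ : {z // z ∈ s}) : Fin n)) hmem
    exact this

theorem conj3 (n : ℕ) (hn : n % 4 = 3) (N₁ N₂ : Subgroup (Equiv.Perm (Fin n)))
    (h₁ : Group.IsNilpotent N₁) (h₂ : Group.IsNilpotent N₂)
    (c₁ : Nat.card N₁ = 3 * 2 ^ nu (n - 3)) (c₂ : Nat.card N₂ = 3 * 2 ^ nu (n - 3)) :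
    ∃ g : Equiv.Perm (Fin n), N₂ = N₁.map (MulAut.conj g).toMonoidHom := by
  classical
  obtain ⟨z₁, hz₁, t₁, T₁, hT₁, cT₁, f₁⟩ := structure3 n hn N₁ h₁ c₁
  obtain ⟨z₂, hz₂, t₂, T₂, hT₂, cT₂, f₂⟩ := structure3 n hn N₂ h₂ c₂
  obtain ⟨g₀, hg₀⟩ := isConj_iff.mp (Equiv.Perm.isConj_iff_cycleType_eq.mpr (t₁.trans t₂.symm))
  let H : Subgroup (Equiv.Perm (Fin n)) :=
    { carrier := {f | ∀ a, ¬ (z₂ a = a) → f a = a}
      mul_mem' := fun {f g} hf hg a ha => by
        rw [Equiv.Perm.mul_apply, hg a ha, hf a ha]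
      one_mem' := fun a _ => rfl
      inv_mem' := fun {f} hf a ha => by
        rw [Equiv.Perm.inv_eq_iff_eq]; exact (hf a ha).symm }
  have hHmem : ∀ f : Equiv.Perm (Fin n), f ∈ H ↔ ∀ a, ¬ (z₂ a = a) → f a = a := fun f => Iff.rfl
  have hsupp : z₂.support.card = 3 := card_support_eq_three_iff.mpr t₂
  have hHcard : Nat.card H = (n - 3).factorial := by
    have e := Equiv.Perm.subtypeEquivSubtypePerm (fun a : Fin n => z₂ a = a)
    have h1 : Nat.card H = Nat.card (Equiv.Perm {a : Fin n // z₂ a = a}) :=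
      (Nat.card_congr e).symm
    rw [h1, Nat.card_perm]
    congr 1
    rw [Nat.card_eq_fintype_card, Fintype.card_subtype]
    have : (Finset.univ.filter (fun a : Fin n => z₂ a = a)) = z₂.supportᶜ := by
      ext a; simp
    rw [this, Finset.card_compl, hsupp, Fintype.card_fin]
  have hT₂H : T₂ ≤ H := fun t ht => (hHmem t).mpr (fun a ha => f₂ t ht a ha)
  have hT₁H : T₁.map (MulAut.conj g₀).toMonoidHom ≤ H := by
    rintro _ ⟨t, ht, rfl⟩
    rw [hHmem]
    intro a ha
    have hz : z₁ (g₀⁻¹ a) ≠ g₀⁻¹ a := by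
      intro h
      apply ha
      rw [← hg₀]
      show g₀ (z₁ (g₀⁻¹ a)) = a
      rw [h]
      exact g₀.apply_symm_apply a
    have := f₁ t ht _ hz
    show g₀ (t (g₀⁻¹ a)) = a
    rw [this]
    exact g₀.apply_symm_apply a
  have hfac : (Nat.card H).factorization 2 = nu (n - 3) := by
    rw [hHcard, Nat.factorization_def _ Nat.prime_two]; rfl
  have cA : Nat.card ((T₁.map (MulAut.conj g₀).toMonoidHom).subgroupOf H)
      = 2 ^ (Nat.card H).factorization 2 := by
    rw [hfac, Nat.card_congr (Subgroup.subgroupOfEquivOfLe hT₁H).toEquiv,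
      Subgroup.card_map_of_injective (MulAut.conj g₀).injective, cT₁]
  have cB : Nat.card (T₂.subgroupOf H) = 2 ^ (Nat.card H).factorization 2 := by
    rw [hfac, Nat.card_congr (Subgroup.subgroupOfEquivOfLe hT₂H).toEquiv, cT₂]
  let Q₁ : Sylow 2 H := Sylow.ofCard _ cA
  let Q₂ : Sylow 2 H := Sylow.ofCard _ cB
  obtain ⟨h, hh⟩ := MulAction.exists_smul_eq H Q₁ Q₂
  have key : ∀ t ∈ T₁, (h : Equiv.Perm (Fin n)) * (g₀ * t * g₀⁻¹) *
      (h : Equiv.Perm (Fin n))⁻¹ ∈ T₂ := by
    intro t ht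
    have hm : g₀ * t * g₀⁻¹ ∈ T₁.map (MulAut.conj g₀).toMonoidHom := ⟨t, ht, rfl⟩
    have h1 : (⟨g₀ * t * g₀⁻¹, hT₁H hm⟩ : H) ∈ (Q₁ : Subgroup H) := by
      show _ ∈ (T₁.map (MulAut.conj g₀).toMonoidHom).subgroupOf H
      exact Subgroup.mem_subgroupOf.mpr hm
    have h2 : h * ⟨g₀ * t * g₀⁻¹, hT₁H hm⟩ * h⁻¹ ∈ (Q₂ : Subgroup H) := by
      rw [← hh, Sylow.coe_subgroup_smul]
      exact Subgroup.smul_mem_pointwise_smul _ (MulAut.conj h) _ h1
    have h3 : (h * ⟨g₀ * t * g₀⁻¹, hT₁H hm⟩ * h⁻¹ : H) ∈ T₂.subgroupOf H := h2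
    exact Subgroup.mem_subgroupOf.mp h3
  have hhH : ∀ a, ¬ (z₂ a = a) → (h : Equiv.Perm (Fin n)) a = a := (hHmem _).mp h.2
  have hcommz : (h : Equiv.Perm (Fin n)) * z₂ * (h : Equiv.Perm (Fin n))⁻¹ = z₂ := by
    rw [mul_inv_eq_iff_eq_mul]
    ext a
    simp only [Equiv.Perm.mul_apply]
    by_cases ha : z₂ a = a
    · rw [ha]
      by_cases hb : z₂ ((h : Equiv.Perm (Fin n)) a) = (h : Equiv.Perm (Fin n)) a
      · rw [hb]
      · exfalso
        have h1 := hhH _ hb
        have h2 : (h : Equiv.Perm (Fin n)) a = a := (h : Equiv.Perm (Fin n)).injective h1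
        rw [h2] at hb
        exact hb ha
    · rw [hhH a ha]
      have : ¬ (z₂ (z₂ a) = z₂ a) := fun h' => ha (z₂.injective h')
      rw [hhH _ this]
  refine ⟨(h : Equiv.Perm (Fin n)) * g₀, ?_⟩
  obtain ⟨K, hK⟩ : ∃ K, K = N₁.map (MulAut.conj ((h : Equiv.Perm (Fin n)) * g₀)).toMonoidHom :=
    ⟨_, rfl⟩
  rw [← hK]
  have cK : Nat.card K = 3 * 2 ^ nu (n - 3) := by
    rw [hK, Subgroup.card_map_of_injective (MulAut.conj _).injective, c₁]
  have hzK : z₂ ∈ K := by
    rw [hK]
    refine ⟨z₁, hz₁, ?_⟩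
    simp only [MulEquiv.coe_toMonoidHom, MulAut.conj_apply, mul_inv_rev]
    rw [← hcommz, ← hg₀]
    group
  obtain ⟨T', hT'⟩ : ∃ T', T' = T₁.map (MulAut.conj ((h : Equiv.Perm (Fin n)) * g₀)).toMonoidHom :=
    ⟨_, rfl⟩
  have hT'K : T' ≤ K := by rw [hT', hK]; exact Subgroup.map_mono hT₁
  have hT'N : T' ≤ N₂ := by
    rw [hT']
    rintro _ ⟨t, ht, rfl⟩
    have := key t ht
    apply hT₂
    simpa [MulAut.conj_apply, mul_assoc] using this
  have cT' : Nat.card T' = 2 ^ nu (n - 3) := by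
    rw [hT', Subgroup.card_map_of_injective (MulAut.conj _).injective, cT₁]
  have hdvd : 3 * 2 ^ nu (n - 3) ∣ Nat.card (K ⊓ N₂ : Subgroup (Equiv.Perm (Fin n))) := by
    apply Nat.Coprime.mul_dvd_of_dvd_of_dvd
    · exact Nat.Coprime.pow_right _ (by norm_num)
    · have := Subgroup.orderOf_dvd_natCard (K ⊓ N₂) (x := z₂) ⟨hzK, hz₂⟩
      rwa [t₂.orderOf] at this
    · rw [← cT']; exact Subgroup.card_dvd_of_le (le_inf hT'K hT'N)
  have hge : 3 * 2 ^ nu (n - 3) ≤ Nat.card (K ⊓ N₂ : Subgroup (Equiv.Perm (Fin n))) :=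
    Nat.le_of_dvd Nat.card_pos hdvd
  have e1 : K ⊓ N₂ = K := Subgroup.eq_of_le_of_card_ge inf_le_left (by rw [cK]; exact hge)
  have e2 : K ⊓ N₂ = N₂ := Subgroup.eq_of_le_of_card_ge inf_le_right (by rw [c₂]; exact hge)
  rw [← e2, e1]

theorem exists3 (n : ℕ) (hn : n % 4 = 3) (P : Sylow 2 (Equiv.Perm (Fin (n - 3)))) :
    ∃ M : Subgroup (Equiv.Perm (Fin n)), Group.IsNilpotent M ∧ Nat.card M = 3 * Nat.card P ∧
      Nonempty (M ≃* (↥(P : Subgroup (Equiv.Perm (Fin (n - 3)))) × Multiplicative (ZMod 3))) := by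
  classical
  have e : Fin (n - 3) ⊕ Multiplicative (ZMod 3) ≃ Fin n := by
    apply Fintype.equivOfCardEq
    simp [ZMod.card]
    omega
  let ψ : (↥(P : Subgroup (Equiv.Perm (Fin (n - 3)))) × Multiplicative (ZMod 3)) →*
      Equiv.Perm (Fin n) :=
    e.permCongrHom.toMonoidHom.comp ((Equiv.Perm.sumCongrHom _ _).comp
      (MonoidHom.prodMap (P : Subgroup (Equiv.Perm (Fin (n - 3)))).subtype
        (MulAction.toPermHom (Multiplicative (ZMod 3)) (Multiplicative (ZMod 3)))))
  have hψ : Function.Injective ψ := by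
    refine e.permCongrHom.injective.comp (Equiv.Perm.sumCongrHom_injective.comp ?_)
    exact Function.Injective.prodMap (Subgroup.subtype_injective _) MulAction.toPerm_injective
  let eM : (↥(P : Subgroup (Equiv.Perm (Fin (n - 3)))) × Multiplicative (ZMod 3)) ≃* ψ.range :=
    MonoidHom.ofInjective hψ
  refine ⟨ψ.range, ?_, ?_, ⟨eM.symm⟩⟩
  · haveI : Group.IsNilpotent (↥(P : Subgroup (Equiv.Perm (Fin (n - 3))))) :=
      P.isPGroup'.isNilpotent
    exact Group.nilpotent_of_mulEquiv eM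
  · rw [← Nat.card_congr eM.toEquiv, Nat.card_prod, mul_comm]
    congr 1
    simp [Nat.card_eq_fintype_card, ZMod.card]

end Cfsg.Agent.Lib.helper19.NilpSym
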