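import Mathlib
import Cfsg.Agent.S0128
import Cfsg.Agent.S3771
import Cfsg.Agent.S0639

namespace Cfsg.Agent.Lib.helper19.S1454X4

theorem image_omega {G : Type*} [Group G] (p : ℕ) (R : Subgroup G) :
    R.subtype '' {x : ↥R | x ∈ (⊤ : Subgroup ↥R) ∧ x ^ p = 1} = {x : G | x ∈ R ∧ x ^ p = 1} := by
  ext x
  constructor
  · rintro ⟨y, hy, rfl⟩
    refine ⟨y.2, ?_⟩
    have := congrArg Subtype.val hy.2
    simpa using this
  · rintro ⟨hxR, hxp⟩
    exact ⟨⟨x, hxR⟩, ⟨Subgroup.mem_top _, Subtype.ext (by simpa using hxp)⟩, rfl⟩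

theorem omega_eq_map {G : Type*} [Group G] (p : ℕ) (R : Subgroup G) :
    Subgroup.closure {x : G | x ∈ R ∧ x ^ p = 1} =
      (Cfsg.omegaOne p (⊤ : Subgroup ↥R)).map R.subtype := by
  unfold Cfsg.omegaOne
  rw [MonoidHom.map_closure, image_omega]

theorem conj_mem_omega {G : Type*} [Group G] (p : ℕ) (R : Subgroup G) (g : G)
    (hg : g ∈ Subgroup.normalizer (R : Set G)) :
    ∀ h ∈ Subgroup.closure {x : G | x ∈ R ∧ x ^ p = 1},
      g * h * g⁻¹ ∈ Subgroup.closure {x : G | x ∈ R ∧ x ^ p = 1} := by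
  intro h hh
  induction hh using Subgroup.closure_induction with
  | mem x hx =>
    refine Subgroup.subset_closure ⟨(Subgroup.mem_normalizer_iff.1 hg x).1 hx.1, ?_⟩
    rw [conj_pow, hx.2]; group
  | one => simpa using Subgroup.one_mem _
  | mul x y _ _ hx hy =>
    have : g * (x * y) * g⁻¹ = (g * x * g⁻¹) * (g * y * g⁻¹) := by group
    rw [this]; exact Subgroup.mul_mem _ hx hy
  | inv x _ hx =>
    have : g * x⁻¹ * g⁻¹ = (g * x * g⁻¹)⁻¹ := by group
    rw [this]; exact Subgroup.inv_mem _ hx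

theorem pRankLE_of_le {G : Type*} [Group G] (p k : ℕ) (R T : Subgroup G) (hTR : T ≤ R)
    (hr : Cfsg.PRankLE p k R) : Cfsg.PRankLE p k T := by
  intro A hA hAexp
  haveI := hA
  have h1 : IsMulCommutative ↥(A.map (Subgroup.inclusion hTR)) := inferInstance
  have h2 : ∀ a ∈ A.map (Subgroup.inclusion hTR), a ^ p = 1 := by
    rintro _ ⟨a, ha, rfl⟩
    rw [← map_pow, hAexp a ha, map_one]
  have h3 := hr _ h1 h2
  have h4 : Nat.card ↥(A.map (Subgroup.inclusion hTR)) = Nat.card ↥A :=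
    (Nat.card_congr (A.equivMapOfInjective (Subgroup.inclusion hTR)
      (Subgroup.inclusion_injective hTR)).toEquiv).symm
  rw [h4] at h3
  exact h3

theorem omega_sub {G : Type*} [Group G] [Finite G] (p : ℕ) [Fact p.Prime] (hp3 : 3 < p)
    (R : Subgroup G) (hR : IsPGroup p R) (hr : Cfsg.PRankLE p 2 R) :
    ∃ T : Subgroup G, T ≤ R ∧ (∀ t ∈ T, t ^ p = 1) ∧ (∀ x ∈ R, x ^ p = 1 → x ∈ T) ∧
      Nat.card T ≤ p ^ 3 ∧
      Subgroup.normalizer (R : Set G) ≤ Subgroup.normalizer (T : Set G) ∧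
      (Nat.card T ≤ p ^ 2 → Cfsg.IsMetacyclic ↥R) := by
  have hTR : Subgroup.closure {x : G | x ∈ R ∧ x ^ p = 1} ≤ R := by
    rw [Subgroup.closure_le]
    intro x hx
    exact hx.1
  have hexp : ∀ t ∈ Subgroup.closure {x : G | x ∈ R ∧ x ^ p = 1}, t ^ p = 1 := by
    intro t ht
    rw [omega_eq_map] at ht
    obtain ⟨y, hy, rfl⟩ := ht
    have hy' : y ∈ Subgroup.closure {x : ↥R | x ^ p = 1} := by
      have hset : {x : ↥R | x ∈ (⊤ : Subgroup ↥R) ∧ x ^ p = 1} = {x : ↥R | x ^ p = 1} := by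
        ext x; simp
      unfold Cfsg.omegaOne at hy
      rw [hset] at hy
      exact hy
    have := Cfsg.Agent.S0128.result hp3 hR (fun E hE => hr E hE.1 hE.2) y hy'
    rw [← map_pow, this, map_one]
  refine ⟨Subgroup.closure {x : G | x ∈ R ∧ x ^ p = 1}, hTR, hexp,
    fun x hx hxp => Subgroup.subset_closure ⟨hx, hxp⟩, ?_, ?_, ?_⟩
  · exact Cfsg.Agent.S3771.result (hR.to_le hTR) (pRankLE_of_le p 2 R _ hTR hr)
      (fun x => Subtype.ext (by simpa using hexp x.1 x.2))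
  · intro g hg
    rw [Subgroup.mem_normalizer_iff]
    intro h
    constructor
    · exact conj_mem_omega p R g hg h
    · intro hh
      have hg' : g⁻¹ ∈ Subgroup.normalizer (R : Set G) := Subgroup.inv_mem _ hg
      have := conj_mem_omega p R g⁻¹ hg' _ hh
      have e : g⁻¹ * (g * h * g⁻¹) * g⁻¹⁻¹ = h := by group
      rw [e] at this
      exact this
  · intro hcard
    apply Cfsg.Agent.S0639.result hp3 hR
    have h4 : Nat.card ↥((Cfsg.omegaOne p (⊤ : Subgroup ↥R)).map R.subtype) =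
        Nat.card ↥(Cfsg.omegaOne p (⊤ : Subgroup ↥R)) :=
      (Nat.card_congr ((Cfsg.omegaOne p (⊤ : Subgroup ↥R)).equivMapOfInjective R.subtype
        R.subtype_injective).toEquiv).symm
    rw [← h4, ← omega_eq_map]
    exact hcard

end Cfsg.Agent.Lib.helper19.S1454X4
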