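import Cfsg.Agent.Lib.helper19.NilpSym2

/-!
Derived length of the Sylow `p`-subgroups of symmetric groups.
-/

namespace Cfsg.Agent.Lib.helper19.SylDL

universe u

theorem ds_bot_of_injective {G H : Type*} [Group G] [Group H] (f : G →* H)
    (hf : Function.Injective f) (k : ℕ) (h : derivedSeries H k = ⊥) : derivedSeries G k = ⊥ := by
  have h1 := map_derivedSeries_le_derivedSeries f k
  rw [h, le_bot_iff, Subgroup.map_eq_bot_iff_of_injective _ hf] at h1
  exact h1

theorem ds_bot_mono {G : Type*} [Group G] {k l : ℕ} (hkl : k ≤ l) (h : derivedSeries G k = ⊥) :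
    derivedSeries G l = ⊥ :=
  le_bot_iff.mp (h ▸ derivedSeries_antitone G hkl)

theorem ds_prod {G H : Type*} [Group G] [Group H] (k : ℕ) (h1 : derivedSeries G k = ⊥)
    (h2 : derivedSeries H k = ⊥) : derivedSeries (G × H) k = ⊥ := by
  rw [eq_bot_iff]
  intro x hx
  have a := map_derivedSeries_le_derivedSeries (MonoidHom.fst G H) k
    (Subgroup.mem_map_of_mem _ hx)
  have b := map_derivedSeries_le_derivedSeries (MonoidHom.snd G H) k
    (Subgroup.mem_map_of_mem _ hx)
  rw [h1, Subgroup.mem_bot] at a
  rw [h2, Subgroup.mem_bot] at b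
  rw [Subgroup.mem_bot]
  exact Prod.ext a b

theorem ds_pi {ι : Type*} {D : Type*} [Group D] (k : ℕ) (h : derivedSeries D k = ⊥) :
    derivedSeries (ι → D) k = ⊥ := by
  rw [eq_bot_iff]
  intro x hx
  rw [Subgroup.mem_bot]
  funext i
  have a := map_derivedSeries_le_derivedSeries (Pi.evalMonoidHom (fun _ : ι => D) i) k
    (Subgroup.mem_map_of_mem _ hx)
  rw [h, Subgroup.mem_bot] at a
  exact a

theorem ds_sub {G : Type*} [Group G] (K : Subgroup G) (hK : derivedSeries G 1 ≤ K) (a : ℕ) :
    derivedSeries G (a + 1) ≤ (derivedSeries K a).map K.subtype := by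
  induction a with
  | zero =>
    rw [derivedSeries_zero, ← MonoidHom.range_eq_map, Subgroup.range_subtype]
    exact hK
  | succ a ih =>
    rw [derivedSeries_succ G (a + 1), derivedSeries_succ (↥K) a, Subgroup.map_commutator]
    exact Subgroup.commutator_mono ih ih

open RegularWreathProduct in
theorem rw_upper {D Q : Type*} [Group D] [CommGroup Q] (a : ℕ) (h : derivedSeries D a = ⊥) :
    derivedSeries (D ≀ᵣ Q) (a + 1) = ⊥ := by
  let K : Subgroup (D ≀ᵣ Q) := (rightHom : D ≀ᵣ Q →* Q).ker
  have hK : derivedSeries (D ≀ᵣ Q) 1 ≤ K := by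
    rw [derivedSeries_one]
    exact Abelianization.commutator_subset_ker _
  have h1 := ds_sub K hK a
  let lh : K →* (Q → D) :=
    { toFun := fun w => w.1.left
      map_one' := rfl
      map_mul' := fun x y => by
        have hx : x.1.right = 1 := x.2
        show (x.1 * y.1).left = x.1.left * y.1.left
        rw [mul_left, hx]
        funext q
        simp }
  have hlh : Function.Injective lh := by
    intro x y hxy
    apply Subtype.ext
    apply RegularWreathProduct.ext
    · exact hxy
    · have hx : x.1.right = 1 := x.2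
      have hy : y.1.right = 1 := y.2
      rw [hx, hy]
  have h2 : derivedSeries K a = ⊥ := ds_bot_of_injective lh hlh a (ds_pi a h)
  rw [h2, Subgroup.map_bot] at h1
  exact le_bot_iff.mp h1

theorem iw_upper (G : Type u) [CommGroup G] (a : ℕ) :
    derivedSeries (IteratedWreathProduct G a) a = ⊥ := by
  induction a with
  | zero =>
    rw [eq_bot_iff]
    intro x _
    rw [Subgroup.mem_bot]
    have hs : Subsingleton (IteratedWreathProduct G 0) := by
      rw [IteratedWreathProduct_zero]; infer_instance
    exact Subsingleton.elim _ _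
  | succ a ih =>
    exact rw_upper (D := IteratedWreathProduct G a) (Q := G) a ih

open RegularWreathProduct in
theorem rw_lower {D Q : Type*} [Group D] [Group Q] (q : Q) (hq : q ≠ 1) (i : ℕ)
    (h : derivedSeries D i ≠ ⊥) : derivedSeries (D ≀ᵣ Q) (i + 1) ≠ ⊥ := by
  classical
  let K : Subgroup (D ≀ᵣ Q) := (rightHom : D ≀ᵣ Q →* Q).ker
  let ev : K →* D :=
    { toFun := fun w => w.1.left 1
      map_one' := rfl
      map_mul' := fun x y => by
        have hx : x.1.right = 1 := x.2
        show (x.1 * y.1).left 1 = x.1.left 1 * y.1.left 1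
        rw [mul_left, hx]
        simp }
  have hq' : q⁻¹ ≠ 1 := inv_ne_one.mpr hq
  have key : ∀ j, derivedSeries D j ≤
      ((derivedSeries (D ≀ᵣ Q) (j + 1)).subgroupOf K).map ev := by
    intro j
    induction j with
    | zero =>
      intro d _
      obtain ⟨a, hadef⟩ : ∃ a : D ≀ᵣ Q, a = ⟨Pi.mulSingle 1 d, 1⟩ := ⟨_, rfl⟩
      have hwK : a * inl q * a⁻¹ * (inl q)⁻¹ ∈ K := by
        show (a * inl q * a⁻¹ * (inl q)⁻¹).right = 1
        rw [hadef]
        simp
      have hwE : a * inl q * a⁻¹ * (inl q)⁻¹ ∈ derivedSeries (D ≀ᵣ Q) (0 + 1) := by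
        rw [derivedSeries_succ, derivedSeries_zero]
        exact Subgroup.commutator_mem_commutator (Subgroup.mem_top a) (Subgroup.mem_top (inl q))
      refine ⟨⟨_, hwK⟩, Subgroup.mem_subgroupOf.mpr hwE, ?_⟩
      show (a * inl q * a⁻¹ * (inl q)⁻¹).left 1 = d
      rw [hadef]
      simp [Pi.mulSingle_eq_of_ne hq']
    | succ j ih =>
      rw [derivedSeries_succ D j]
      refine (Subgroup.commutator_mono ih ih).trans ?_
      rw [← Subgroup.map_commutator]
      apply Subgroup.map_mono
      rw [Subgroup.commutator_le]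
      intro x hx y hy
      rw [Subgroup.mem_subgroupOf] at hx hy ⊢
      rw [derivedSeries_succ (D ≀ᵣ Q) (j + 1)]
      exact Subgroup.commutator_mem_commutator hx hy
  intro hbot
  apply h
  rw [eq_bot_iff]
  intro d hd
  obtain ⟨w, hw, rfl⟩ := key i hd
  have hw' := Subgroup.mem_subgroupOf.mp hw
  rw [hbot, Subgroup.mem_bot] at hw'
  have : w = 1 := Subtype.ext hw'
  rw [this, map_one]
  exact Subgroup.one_mem _

theorem iw_lower (G : Type u) [Group G] (q : G) (hq : q ≠ 1) (a : ℕ) :
    derivedSeries (IteratedWreathProduct G (a + 1)) a ≠ ⊥ := by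
  induction a with
  | zero =>
    intro h
    have h' : derivedSeries (IteratedWreathProduct G 0 ≀ᵣ G) 0 = ⊥ := h
    have hmem : (RegularWreathProduct.inl q : IteratedWreathProduct G 0 ≀ᵣ G) ∈
        derivedSeries (IteratedWreathProduct G 0 ≀ᵣ G) 0 := by
      rw [derivedSeries_zero]; trivial
    rw [h', Subgroup.mem_bot] at hmem
    have := congrArg RegularWreathProduct.right hmem
    exact hq this
  | succ a ih =>
    exact rw_lower (D := IteratedWreathProduct G (a + 1)) (Q := G) q hq a ih

open Cfsg.Agent.Lib.helper19.NilpSym in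
theorem pgroup_ds (p : ℕ) [hp : Fact p.Prime] : ∀ (m : ℕ) (α : Type u) [Finite α]
    (Q : Subgroup (Equiv.Perm α)), IsPGroup p Q → Nat.card α = m →
    derivedSeries Q (Nat.log p m) = ⊥ := by
  intro m
  induction m using Nat.strong_induction_on with
  | _ m ih =>
    intro α _ Q hQ hcard
    classical
    haveI : NeZero p := ⟨hp.out.ne_zero⟩
    rcases isEmpty_or_nonempty α with hα | hα
    · haveI : Subsingleton (Equiv.Perm α) := ⟨fun a b => Equiv.ext (fun x => isEmptyElim x)⟩
      rw [eq_bot_iff]
      intro x _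
      rw [Subgroup.mem_bot]
      exact Subsingleton.elim _ _
    by_cases htr : MulAction.IsPretransitive Q α
    · obtain ⟨x⟩ := hα
      obtain ⟨a, ha⟩ := hQ.card_orbit x
      have hm : m = p ^ a := by
        rw [← hcard, ← ha, MulAction.orbit_eq_univ]
        exact (Nat.card_congr (Equiv.Set.univ α)).symm
      rw [hm, Nat.log_pow hp.out.one_lt]
      obtain ⟨P', hP'⟩ := hQ.exists_le_sylow
      have hG : Nat.card (Multiplicative (ZMod p)) = p := by
        rw [Nat.card_congr Multiplicative.toAdd, Nat.card_zmod]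
      have e := Sylow.mulEquivIteratedWreathProduct p a α (by rw [hcard, hm])
        (Multiplicative (ZMod p)) hG P'
      let f : Q →* IteratedWreathProduct (Multiplicative (ZMod p)) a :=
        e.toMonoidHom.comp (Subgroup.inclusion hP')
      have hf : Function.Injective f := e.injective.comp (Subgroup.inclusion_injective hP')
      exact ds_bot_of_injective f hf a (iw_upper _ a)
    · obtain ⟨x⟩ := hα
      have hne : ∃ y, y ∉ MulAction.orbit Q x := by
        by_contra hall
        push Not at hall
        apply htr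
        refine ⟨fun y z => ?_⟩
        obtain ⟨a, ha⟩ := hall y
        obtain ⟨b, hb⟩ := hall z
        refine ⟨b * a⁻¹, ?_⟩
        rw [← ha, ← hb, mul_smul, inv_smul_smul]
      obtain ⟨y, hy⟩ := hne
      have hs : ∀ g ∈ Q, ∀ z, g z ∈ MulAction.orbit Q x ↔ z ∈ MulAction.orbit Q x := by
        intro g hg z
        constructor
        · intro h
          have := MulAction.mem_orbit_of_mem_orbit ((⟨g, hg⟩ : Q)⁻¹) h
          have e : ((⟨g, hg⟩ : Q)⁻¹) • (g z) = z := by
            change (g⁻¹ : Equiv.Perm α) (g z) = z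
            simp
          rwa [e] at this
        · intro h
          exact MulAction.mem_orbit_of_mem_orbit (⟨g, hg⟩ : Q) h
      obtain ⟨s, hsdef⟩ : ∃ s : Set α, s = MulAction.orbit Q x := ⟨_, rfl⟩
      rw [← hsdef] at hs hy
      have hsum : Nat.card {z // z ∈ s} + Nat.card {z // z ∈ sᶜ} = m := by
        have h1 : Nat.card {z // z ∈ s} = s.ncard := Nat.card_coe_set_eq _
        have h2 : Nat.card {z // z ∈ sᶜ} = sᶜ.ncard := Nat.card_coe_set_eq sᶜ
        rw [h1, h2, Set.ncard_add_ncard_compl, hcard]
      have h1 : 0 < Nat.card {z // z ∈ s} := by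
        haveI : Nonempty {z // z ∈ s} := ⟨⟨x, by rw [hsdef]; exact MulAction.mem_orbit_self x⟩⟩
        exact Nat.card_pos
      have h2 : 0 < Nat.card {z // z ∈ sᶜ} := by
        haveI : Nonempty {z // z ∈ sᶜ} := ⟨⟨y, hy⟩⟩
        exact Nat.card_pos
      have c1 := ih (Nat.card {z // z ∈ s}) (by omega) _ (resHom Q s hs).range
        (hQ.of_surjective _ (MonoidHom.rangeRestrict_surjective _)) rfl
      have c2 := ih (Nat.card {z // z ∈ sᶜ}) (by omega) _ (resHom Q sᶜ (compl_inv Q s hs)).range
        (hQ.of_surjective _ (MonoidHom.rangeRestrict_surjective _)) rfl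
      have c1' := ds_bot_mono (Nat.log_mono_right (b := p) (show Nat.card {z // z ∈ s} ≤ m by omega)) c1
      have c2' := ds_bot_mono (Nat.log_mono_right (b := p) (show Nat.card {z // z ∈ sᶜ} ≤ m by omega)) c2
      have c3 := ds_prod _ c1' c2'
      refine ds_bot_of_injective (((resHom Q s hs).rangeRestrict).prod
        ((resHom Q sᶜ (compl_inv Q s hs)).rangeRestrict)) ?_ _ c3
      intro g h hgh
      simp only [MonoidHom.prod_apply, Prod.mk.injEq] at hgh
      obtain ⟨e1, e2⟩ := hgh
      classical
      apply Subtype.ext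
      ext z
      by_cases hz : z ∈ s
      · have := congrArg (fun f => ((f.1 ⟨z, hz⟩ : {z // z ∈ s}) : α)) e1
        exact this
      · have := congrArg (fun f => ((f.1 ⟨z, hz⟩ : {z // z ∈ sᶜ}) : α)) e2
        exact this

theorem main (p : ℕ) [hp : Fact p.Prime] (n : ℕ) (hn : 1 ≤ n) (P : Sylow p (Equiv.Perm (Fin n))) :
    derivedSeries ↥(P : Subgroup (Equiv.Perm (Fin n))) (Nat.log p n) = ⊥ ∧
    (1 ≤ Nat.log p n →
      derivedSeries ↥(P : Subgroup (Equiv.Perm (Fin n))) (Nat.log p n - 1) ≠ ⊥) := by
  constructor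
  · exact pgroup_ds p n (Fin n) P P.isPGroup' (Nat.card_fin n)
  · intro hk
    classical
    haveI : NeZero p := ⟨hp.out.ne_zero⟩
    obtain ⟨k, hkdef⟩ : ∃ k, k = Nat.log p n := ⟨_, rfl⟩
    rw [← hkdef] at hk ⊢
    have hG : Nat.card (Multiplicative (ZMod p)) = p := by
      rw [Nat.card_congr Multiplicative.toAdd, Nat.card_zmod]
    obtain ⟨q, hq⟩ : ∃ q : Multiplicative (ZMod p), q ≠ 1 := by
      haveI : Nontrivial (Multiplicative (ZMod p)) :=
        (Finite.one_lt_card_iff_nontrivial).mp (by rw [hG]; exact hp.out.one_lt)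
      exact exists_ne 1
    have hle : Fintype.card (Fin k → Multiplicative (ZMod p)) ≤ Fintype.card (Fin n) := by
      rw [← Nat.card_eq_fintype_card, ← Nat.card_eq_fintype_card, Nat.card_fun, Nat.card_fin,
        Nat.card_fin, hG, hkdef]
      exact Nat.pow_log_le_self p (by omega)
    obtain ⟨ι⟩ := Function.Embedding.nonempty_of_card_le hle
    let ψ : IteratedWreathProduct (Multiplicative (ZMod p)) k →* Equiv.Perm (Fin n) :=
      (Equiv.Perm.viaEmbeddingHom ι).comp (iteratedWreathToPermHom (Multiplicative (ZMod p)) k)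
    have hψ : Function.Injective ψ :=
      (Equiv.Perm.viaEmbeddingHom_injective ι).comp
        (iteratedWreathToPermHomInj (Multiplicative (ZMod p)) k)
    have hW : IsPGroup p (IteratedWreathProduct (Multiplicative (ZMod p)) k) :=
      IsPGroup.of_card (by rw [IteratedWreathProduct.card, hG])
    have hR : IsPGroup p ψ.range := hW.of_surjective ψ.rangeRestrict ψ.rangeRestrict_surjective
    obtain ⟨P₁, hP₁⟩ := hR.exists_le_sylow
    let e : P₁ ≃* P := P₁.equiv P
    let φ : IteratedWreathProduct (Multiplicative (ZMod p)) k →* P :=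
      e.toMonoidHom.comp ((Subgroup.inclusion hP₁).comp ψ.rangeRestrict)
    have hφ : Function.Injective φ :=
      e.injective.comp ((Subgroup.inclusion_injective hP₁).comp
        (fun a b h => hψ (congrArg Subtype.val h)))
    intro hbot
    obtain ⟨k', rfl⟩ : ∃ k', k = k' + 1 := ⟨k - 1, by omega⟩
    have := ds_bot_of_injective φ hφ k' (by simpa using hbot)
    exact iw_lower (Multiplicative (ZMod p)) q hq k' this

end Cfsg.Agent.Lib.helper19.SylDL
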