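import Cfsg.Agent.Lib.helper19.SL2Q
import Cfsg.Agent.Lib.helper19.SylDL

/-!
Non-abelian finite 2-subgroups of `SL_2(F)`, `char F ≠ 2`, have derived length two.
-/

namespace Cfsg.Agent.Lib.helper19.SL2Q

variable {F : Type*} [Field F]

theorem sl2_struct {Q : Type*} [Group Q] [Finite Q] (hQ : IsPGroup 2 Q) (h2 : (2 : F) ≠ 0)
    (ρ : Q →* Matrix (Fin 2) (Fin 2) F) (hρ : Function.Injective ρ)
    (hdet : ∀ g, (ρ g).det = 1) (hna : ∃ a b : Q, a * b ≠ b * a) :
    ∃ c : Q, ¬ ((ρ c) 0 1 = 0 ∧ (ρ c) 1 0 = 0 ∧ (ρ c) 0 0 = (ρ c) 1 1) ∧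
      ∀ y : Q, ρ y * ρ c = ρ c * ρ y ∨ ρ y * ρ c = -(ρ c * ρ y) := by
  classical
  have : Fact (Nat.Prime 2) := ⟨Nat.prime_two⟩
  have hZ : Subgroup.center Q ≠ ⊤ := by
    intro h
    obtain ⟨a, b, hab⟩ := hna
    have : b ∈ Subgroup.center Q := by rw [h]; trivial
    exact hab (Subgroup.mem_center_iff.mp this a)
  have hnt : Nontrivial (Q ⧸ Subgroup.center Q) := QuotientGroup.nontrivial_iff.mpr hZ
  have hpq : IsPGroup 2 (Q ⧸ Subgroup.center Q) := hQ.to_quotient _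
  have hcn : Nontrivial (Subgroup.center (Q ⧸ Subgroup.center Q)) := hpq.center_nontrivial
  obtain ⟨⟨cbar, hcbar⟩, hne⟩ := exists_ne (1 : Subgroup.center (Q ⧸ Subgroup.center Q))
  obtain ⟨c, rfl⟩ := QuotientGroup.mk_surjective cbar
  have hc1 : c ∉ Subgroup.center Q := by
    intro h
    apply hne
    apply Subtype.ext
    exact (QuotientGroup.eq_one_iff c).mpr h
  have hc2 : ∀ y : Q, y * c * y⁻¹ * c⁻¹ ∈ Subgroup.center Q := by
    intro y
    rw [← QuotientGroup.eq_one_iff]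
    have h := Subgroup.mem_center_iff.mp hcbar (y : Q ⧸ Subgroup.center Q)
    rw [QuotientGroup.mk_mul, QuotientGroup.mk_mul, QuotientGroup.mk_mul, QuotientGroup.mk_inv,
      QuotientGroup.mk_inv, h]
    group
  have hsc : ∀ z : Q, z ∈ Subgroup.center Q → ρ z = 1 ∨ ρ z = -1 := by
    intro z hz
    by_cases hs : (ρ z) 0 1 = 0 ∧ (ρ z) 1 0 = 0 ∧ (ρ z) 0 0 = (ρ z) 1 1
    · obtain ⟨h01, h10, h00⟩ := hs
      have hd := hdet z
      rw [Matrix.det_fin_two, h01, h10, ← h00] at hd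
      have : ((ρ z) 0 0 - 1) * ((ρ z) 0 0 + 1) = 0 := by linear_combination hd
      rcases mul_eq_zero.mp this with h | h
      · left
        have h' : (ρ z) 0 0 = 1 := sub_eq_zero.mp h
        ext i j
        fin_cases i <;> fin_cases j <;> simp [h01, h10, ← h00, h']
      · right
        have h' : (ρ z) 0 0 = -1 := eq_neg_of_add_eq_zero_left h
        ext i j
        fin_cases i <;> fin_cases j <;> simp [h01, h10, ← h00, h']
    · exfalso
      obtain ⟨a, b, hab⟩ := hna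
      apply hab
      apply hρ
      rw [map_mul, map_mul]
      obtain ⟨α₁, β₁, e1⟩ := comm_form (ρ z) (ρ a) hs
        (by rw [← map_mul, ← map_mul, Subgroup.mem_center_iff.mp hz a])
      obtain ⟨α₂, β₂, e2⟩ := comm_form (ρ z) (ρ b) hs
        (by rw [← map_mul, ← map_mul, Subgroup.mem_center_iff.mp hz b])
      rw [e1, e2]
      exact form_comm _ _ _ _ _
  have hdich : ∀ y : Q, ρ y * ρ c = ρ c * ρ y ∨ ρ y * ρ c = -(ρ c * ρ y) := by
    intro y
    have e : y * c = (y * c * y⁻¹ * c⁻¹) * (c * y) := by group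
    have e' : ρ y * ρ c = ρ (y * c * y⁻¹ * c⁻¹) * (ρ c * ρ y) := by
      rw [← map_mul, ← map_mul, ← map_mul, ← e]
    rcases hsc _ (hc2 y) with h | h
    · left
      rw [e', h, one_mul]
    · right
      rw [e', h, neg_one_mul]
  have hy0 : ∃ y₀ : Q, ρ y₀ * ρ c = -(ρ c * ρ y₀) := by
    by_contra hno
    push Not at hno
    apply hc1
    rw [Subgroup.mem_center_iff]
    intro g
    apply hρ
    rw [map_mul, map_mul]
    exact (hdich g).resolve_right (hno g)
  obtain ⟨y₀, hy₀⟩ := hy0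
  have hinv : ∀ g : Q, ρ g * ρ g⁻¹ = 1 := fun g => by rw [← map_mul, mul_inv_cancel, map_one]
  have htr : (ρ c).trace = 0 := trace_zero_of_anti h2 (ρ y₀) (ρ y₀⁻¹) (ρ c) (hinv y₀) hy₀
  refine ⟨c, ?_, hdich⟩
  rintro ⟨h01, h10, h00⟩
  have ht := htr
  rw [Matrix.trace_fin_two, ← h00] at ht
  have h0 : (ρ c) 0 0 = 0 := by
    have : (2 : F) * (ρ c) 0 0 = 0 := by linear_combination ht
    exact (mul_eq_zero.mp this).resolve_left h2
  have hd := hdet c
  rw [Matrix.det_fin_two, h01, h0] at hd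
  simp at hd

theorem sl2_ds2 {Q : Type*} [Group Q] [Finite Q] (hQ : IsPGroup 2 Q) (h2 : (2 : F) ≠ 0)
    (ρ : Q →* Matrix (Fin 2) (Fin 2) F) (hρ : Function.Injective ρ)
    (hdet : ∀ g, (ρ g).det = 1) (hna : ∃ a b : Q, a * b ≠ b * a) :
    derivedSeries Q 2 = ⊥ := by
  obtain ⟨c, hns, hdich⟩ := sl2_struct hQ h2 ρ hρ hdet hna
  have hinv : ∀ g : Q, ρ g * ρ g⁻¹ = 1 := fun g => by rw [← map_mul, mul_inv_cancel, map_one]
  have hinv' : ∀ g : Q, ρ g⁻¹ * ρ g = 1 := fun g => by rw [← map_mul, inv_mul_cancel, map_one]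
  -- twisted commutation
  have htw : ∀ g : Q, ∃ s : F, s * s = 1 ∧ ρ g * ρ c = s • (ρ c * ρ g) := by
    intro g
    rcases hdich g with h | h
    · exact ⟨1, by ring, by rw [h, one_smul]⟩
    · exact ⟨-1, by ring, by rw [h, neg_smul, one_smul]⟩
  have hmul : ∀ (g h : Q) (s t : F), ρ g * ρ c = s • (ρ c * ρ g) → ρ h * ρ c = t • (ρ c * ρ h) →
      ρ (g * h) * ρ c = (s * t) • (ρ c * ρ (g * h)) := by
    intro g h s t hg hh
    rw [map_mul, mul_assoc, hh, Matrix.mul_smul, ← mul_assoc, hg, Matrix.smul_mul, smul_smul,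
      mul_assoc, mul_comm t s]
  have hinvtw : ∀ (g : Q) (s : F), s * s = 1 → ρ g * ρ c = s • (ρ c * ρ g) →
      ρ g⁻¹ * ρ c = s • (ρ c * ρ g⁻¹) := by
    intro g s hs hg
    have e1 : ρ c * ρ g⁻¹ = s • (ρ g⁻¹ * ρ c) := by
      calc ρ c * ρ g⁻¹ = ρ g⁻¹ * (ρ g * ρ c) * ρ g⁻¹ := by
            rw [← mul_assoc, hinv' g, one_mul]
        _ = ρ g⁻¹ * (s • (ρ c * ρ g)) * ρ g⁻¹ := by rw [hg]
        _ = s • (ρ g⁻¹ * ρ c) := by
            rw [Matrix.mul_smul, Matrix.smul_mul, ← mul_assoc, mul_assoc, hinv g, mul_one]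
    rw [e1, smul_smul, hs, one_smul]
  have hcomm : ∀ x y : Q, ρ (x * y * x⁻¹ * y⁻¹) * ρ c = ρ c * ρ (x * y * x⁻¹ * y⁻¹) := by
    intro x y
    obtain ⟨s, hs, hx⟩ := htw x
    obtain ⟨t, ht, hy⟩ := htw y
    have h1 := hmul _ _ _ _ (hmul _ _ _ _ (hmul _ _ _ _ hx hy) (hinvtw x s hs hx))
      (hinvtw y t ht hy)
    have e : s * t * s * t = 1 := by
      have : s * t * s * t = (s * s) * (t * t) := by ring
      rw [this, hs, ht, one_mul]
    rw [h1, e, one_smul]
  -- commutators lie in the centralizer of c, which is abelian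
  have hle : commutator Q ≤ Subgroup.centralizer ({c} : Set Q) := by
    rw [commutator_def, Subgroup.commutator_le]
    intro x _ y _
    rw [Subgroup.mem_centralizer_iff]
    intro h hh
    rw [Set.mem_singleton_iff] at hh
    rw [hh, commutatorElement_def]
    apply hρ
    rw [map_mul, map_mul (f := ρ) (x * y * x⁻¹ * y⁻¹) c]
    exact (hcomm x y).symm
  have hab : ∀ u v : Q, u ∈ Subgroup.centralizer ({c} : Set Q) →
      v ∈ Subgroup.centralizer ({c} : Set Q) → u * v = v * u := by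
    intro u v hu hv
    have hu' : c * u = u * c := Subgroup.mem_centralizer_iff.mp hu c rfl
    have hv' : c * v = v * c := Subgroup.mem_centralizer_iff.mp hv c rfl
    obtain ⟨α₁, β₁, e1⟩ := comm_form (ρ c) (ρ u) hns (by rw [← map_mul, ← map_mul, hu'])
    obtain ⟨α₂, β₂, e2⟩ := comm_form (ρ c) (ρ v) hns (by rw [← map_mul, ← map_mul, hv'])
    apply hρ
    rw [map_mul, map_mul, e1, e2]
    exact form_comm _ _ _ _ _
  rw [eq_bot_iff, derivedSeries_succ Q 1, derivedSeries_one, Subgroup.commutator_le]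
  intro u hu v hv
  rw [Subgroup.mem_bot, commutatorElement_def, hab u v (hle hu) (hle hv)]
  group

theorem ds1_of_nonabelian {Q : Type*} [Group Q] (hna : ∃ a b : Q, a * b ≠ b * a) :
    derivedSeries Q 1 ≠ ⊥ := by
  intro h
  obtain ⟨a, b, hab⟩ := hna
  have hm : a * b * a⁻¹ * b⁻¹ ∈ derivedSeries Q 1 := by
    rw [derivedSeries_one, commutator_def]
    exact Subgroup.commutator_mem_commutator (Subgroup.mem_top a) (Subgroup.mem_top b)
  rw [h, Subgroup.mem_bot] at hm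
  apply hab
  calc a * b = a * b * a⁻¹ * b⁻¹ * (b * a) := by group
    _ = b * a := by rw [hm, one_mul]

end Cfsg.Agent.Lib.helper19.SL2Q
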