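import Cfsg.Agent.Lib.helper19.SylAb

/-!
Non-abelian finite 2-subgroups of `SL_2(F)`, `char F ≠ 2`: squares are commutators.
-/

namespace Cfsg.Agent.Lib.helper19.SL2Q

open Cfsg.Agent.Lib.helper19.SylAb

variable {F : Type*} [Field F]

theorem ch2 (M : Matrix (Fin 2) (Fin 2) F) :
    M * M = M.trace • M - M.det • (1 : Matrix (Fin 2) (Fin 2) F) := by
  ext i j
  fin_cases i <;> fin_cases j <;>
    simp [Matrix.mul_apply, Fin.sum_univ_two, Matrix.trace_fin_two, Matrix.det_fin_two] <;> ring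

theorem sq_of_trace_zero (M : Matrix (Fin 2) (Fin 2) F) (hd : M.det = 1) (ht : M.trace = 0) :
    M * M = -1 := by
  rw [ch2, hd, ht]
  simp

theorem trace_zero_of_anti (h2 : (2 : F) ≠ 0) (y y' c : Matrix (Fin 2) (Fin 2) F)
    (h1 : y * y' = 1) (hyc : y * c = -(c * y)) : c.trace = 0 := by
  have h1' : y' * y = 1 := mul_eq_one_comm.mp h1
  have hcy : c * y = -(y * c) := by rw [hyc, neg_neg]
  have e : c.trace = -c.trace := by
    calc c.trace = (c * (y * y')).trace := by rw [h1, mul_one]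
      _ = ((c * y) * y').trace := by rw [mul_assoc]
      _ = (-(y * c) * y').trace := by rw [hcy]
      _ = -((y * c) * y').trace := by rw [neg_mul, Matrix.trace_neg]
      _ = -(y' * (y * c)).trace := by rw [Matrix.trace_mul_comm]
      _ = -c.trace := by rw [← mul_assoc, h1', one_mul]
  have : (2 : F) * c.trace = 0 := by linear_combination e
  exact (mul_eq_zero.mp this).resolve_left h2

theorem mk_form (y c : Matrix (Fin 2) (Fin 2) F) (α β : F) (h00 : y 0 0 = α + β * c 0 0)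
    (h01 : y 0 1 = β * c 0 1) (h10 : y 1 0 = β * c 1 0) (h11 : y 1 1 = α + β * c 1 1) :
    y = α • (1 : Matrix (Fin 2) (Fin 2) F) + β • c := by
  ext i j
  fin_cases i <;> fin_cases j <;> simp [h00, h01, h10, h11]

theorem comm_form (c y : Matrix (Fin 2) (Fin 2) F)
    (hc : ¬ (c 0 1 = 0 ∧ c 1 0 = 0 ∧ c 0 0 = c 1 1))
    (hyc : y * c = c * y) : ∃ α β : F, y = α • (1 : Matrix (Fin 2) (Fin 2) F) + β • c := by
  have e00 := congrFun (congrFun hyc 0) 0
  have e01 := congrFun (congrFun hyc 0) 1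
  have e10 := congrFun (congrFun hyc 1) 0
  simp only [Matrix.mul_apply, Fin.sum_univ_two] at e00 e01 e10
  by_cases h01 : c 0 1 = 0
  · by_cases h10 : c 1 0 = 0
    · have hne : c 0 0 - c 1 1 ≠ 0 := fun h => hc ⟨h01, h10, sub_eq_zero.mp h⟩
      have hy01 : y 0 1 = 0 := by
        have : y 0 1 * (c 0 0 - c 1 1) = 0 := by
          linear_combination -e01 + (y 0 0 - y 1 1) * h01
        exact (mul_eq_zero.mp this).resolve_right hne
      have hy10 : y 1 0 = 0 := by
        have : y 1 0 * (c 0 0 - c 1 1) = 0 := by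
          linear_combination e10 + (y 0 0 - y 1 1) * h10
        exact (mul_eq_zero.mp this).resolve_right hne
      obtain ⟨β, hβ⟩ : ∃ β : F, β * (c 0 0 - c 1 1) = y 0 0 - y 1 1 :=
        ⟨(y 0 0 - y 1 1) / (c 0 0 - c 1 1), div_mul_cancel₀ _ hne⟩
      refine ⟨y 0 0 - β * c 0 0, β, mk_form _ _ _ _ (by ring) ?_ ?_ ?_⟩
      · rw [h01, mul_zero]; exact hy01
      · rw [h10, mul_zero]; exact hy10
      · linear_combination hβ
    · obtain ⟨β, hβ⟩ : ∃ β : F, β * c 1 0 = y 1 0 := ⟨y 1 0 / c 1 0, div_mul_cancel₀ _ h10⟩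
      refine ⟨y 0 0 - β * c 0 0, β, mk_form _ _ _ _ (by ring) ?_ hβ.symm ?_⟩
      · have : y 0 1 * c 1 0 = (β * c 0 1) * c 1 0 := by
          linear_combination e00 - c 0 1 * hβ
        exact mul_right_cancel₀ h10 this
      · have : y 1 1 * c 1 0 = (y 0 0 - β * c 0 0 + β * c 1 1) * c 1 0 := by
          linear_combination e10 + (c 0 0 - c 1 1) * hβ
        exact mul_right_cancel₀ h10 this
  · obtain ⟨β, hβ⟩ : ∃ β : F, β * c 0 1 = y 0 1 := ⟨y 0 1 / c 0 1, div_mul_cancel₀ _ h01⟩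
    refine ⟨y 0 0 - β * c 0 0, β, mk_form _ _ _ _ (by ring) hβ.symm ?_ ?_⟩
    · have : y 1 0 * c 0 1 = (β * c 1 0) * c 0 1 := by
        linear_combination -e00 - c 1 0 * hβ
      exact mul_right_cancel₀ h01 this
    · have : y 1 1 * c 0 1 = (y 0 0 - β * c 0 0 + β * c 1 1) * c 0 1 := by
        linear_combination -e01 + (c 0 0 - c 1 1) * hβ
      exact mul_right_cancel₀ h01 this

theorem form_comm (c : Matrix (Fin 2) (Fin 2) F) (α₁ β₁ α₂ β₂ : F) :
    (α₁ • (1 : Matrix (Fin 2) (Fin 2) F) + β₁ • c) * (α₂ • 1 + β₂ • c) =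
      (α₂ • 1 + β₂ • c) * (α₁ • 1 + β₁ • c) := by
  ext i j
  fin_cases i <;> fin_cases j <;> simp [Matrix.mul_apply, Fin.sum_univ_two] <;> ring

theorem det_form (c : Matrix (Fin 2) (Fin 2) F) (α β : F) :
    (α • (1 : Matrix (Fin 2) (Fin 2) F) + β • c).det =
      α * α + α * β * c.trace + β * β * c.det := by
  rw [Matrix.det_fin_two, Matrix.det_fin_two, Matrix.trace_fin_two]
  simp
  ring

theorem inv_form (c : Matrix (Fin 2) (Fin 2) F) (α β : F) :
    (α • (1 : Matrix (Fin 2) (Fin 2) F) + β • c) * (α • 1 - β • c) =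
      (α * α) • (1 : Matrix (Fin 2) (Fin 2) F) - (β * β) • (c * c) := by
  ext i j
  fin_cases i <;> fin_cases j <;> simp [Matrix.mul_apply, Fin.sum_univ_two] <;> ring

theorem sl2_EE {Q : Type*} [Group Q] [Finite Q] (hQ : IsPGroup 2 Q) (h2 : (2 : F) ≠ 0)
    (ρ : Q →* Matrix (Fin 2) (Fin 2) F) (hρ : Function.Injective ρ)
    (hdet : ∀ g, (ρ g).det = 1) (hna : ∃ a b : Q, a * b ≠ b * a) : EE 2 Q := by
  classical
  have : Fact (Nat.Prime 2) := ⟨Nat.prime_two⟩
  have hZ : Subgroup.center Q ≠ ⊤ := by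
    intro h
    obtain ⟨a, b, hab⟩ := hna
    have : b ∈ Subgroup.center Q := by rw [h]; trivial
    exact hab (Subgroup.mem_center_iff.mp this a)
  have hnt : Nontrivial (Q ⧸ Subgroup.center Q) := QuotientGroup.nontrivial_iff.mpr hZ
  have hpq : IsPGroup 2 (Q ⧸ Subgroup.center Q) := hQ.to_quotient _
  have hcn : Nontrivial (Subgroup.center (Q ⧸ Subgroup.center Q)) := hpq.center_nontrivial
  obtain ⟨⟨cbar, hcbar⟩, hne⟩ := exists_ne (1 : Subgroup.center (Q ⧸ Subgroup.center Q))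
  obtain ⟨c, rfl⟩ := QuotientGroup.mk_surjective cbar
  have hc1 : c ∉ Subgroup.center Q := by
    intro h
    apply hne
    apply Subtype.ext
    exact (QuotientGroup.eq_one_iff c).mpr h
  have hc2 : ∀ y : Q, y * c * y⁻¹ * c⁻¹ ∈ Subgroup.center Q := by
    intro y
    rw [← QuotientGroup.eq_one_iff]
    have h := Subgroup.mem_center_iff.mp hcbar (y : Q ⧸ Subgroup.center Q)
    rw [QuotientGroup.mk_mul, QuotientGroup.mk_mul, QuotientGroup.mk_mul, QuotientGroup.mk_inv,
      QuotientGroup.mk_inv, h]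
    group
  have hsc : ∀ z : Q, z ∈ Subgroup.center Q → ρ z = 1 ∨ ρ z = -1 := by
    intro z hz
    by_cases hs : (ρ z) 0 1 = 0 ∧ (ρ z) 1 0 = 0 ∧ (ρ z) 0 0 = (ρ z) 1 1
    · obtain ⟨h01, h10, h00⟩ := hs
      have hd := hdet z
      rw [Matrix.det_fin_two, h01, h10, ← h00] at hd
      have : ((ρ z) 0 0 - 1) * ((ρ z) 0 0 + 1) = 0 := by linear_combination hd
      rcases mul_eq_zero.mp this with h | h
      · left
        have h' : (ρ z) 0 0 = 1 := sub_eq_zero.mp h
        ext i j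
        fin_cases i <;> fin_cases j <;> simp [h01, h10, ← h00, h']
      · right
        have h' : (ρ z) 0 0 = -1 := eq_neg_of_add_eq_zero_left h
        ext i j
        fin_cases i <;> fin_cases j <;> simp [h01, h10, ← h00, h']
    · exfalso
      obtain ⟨a, b, hab⟩ := hna
      apply hab
      apply hρ
      rw [map_mul, map_mul]
      obtain ⟨α₁, β₁, e1⟩ := comm_form (ρ z) (ρ a) hs
        (by rw [← map_mul, ← map_mul, Subgroup.mem_center_iff.mp hz a])
      obtain ⟨α₂, β₂, e2⟩ := comm_form (ρ z) (ρ b) hs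
        (by rw [← map_mul, ← map_mul, Subgroup.mem_center_iff.mp hz b])
      rw [e1, e2]
      exact form_comm _ _ _ _ _
  have hdich : ∀ y : Q, ρ y * ρ c = ρ c * ρ y ∨ ρ y * ρ c = -(ρ c * ρ y) := by
    intro y
    have e : y * c = (y * c * y⁻¹ * c⁻¹) * (c * y) := by group
    have e' : ρ y * ρ c = ρ (y * c * y⁻¹ * c⁻¹) * (ρ c * ρ y) := by
      rw [← map_mul, ← map_mul, ← map_mul, ← e]
    rcases hsc _ (hc2 y) with h | h
    · left
      rw [e', h, one_mul]
    · right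
      rw [e', h, neg_one_mul]
  have hy0 : ∃ y₀ : Q, ρ y₀ * ρ c = -(ρ c * ρ y₀) := by
    by_contra hno
    push Not at hno
    apply hc1
    rw [Subgroup.mem_center_iff]
    intro g
    apply hρ
    rw [map_mul, map_mul]
    exact (hdich g).resolve_right (hno g)
  obtain ⟨y₀, hy₀⟩ := hy0
  have hinv : ∀ g : Q, ρ g * ρ g⁻¹ = 1 := fun g => by rw [← map_mul, mul_inv_cancel, map_one]
  have htr : (ρ c).trace = 0 := trace_zero_of_anti h2 (ρ y₀) (ρ y₀⁻¹) (ρ c) (hinv y₀) hy₀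
  have hcc : ρ c * ρ c = -1 := sq_of_trace_zero _ (hdet c) htr
  have hns : ¬ ((ρ c) 0 1 = 0 ∧ (ρ c) 1 0 = 0 ∧ (ρ c) 0 0 = (ρ c) 1 1) := by
    rintro ⟨h01, h10, h00⟩
    have ht := htr
    rw [Matrix.trace_fin_two, ← h00] at ht
    have h0 : (ρ c) 0 0 = 0 := by
      have : (2 : F) * (ρ c) 0 0 = 0 := by linear_combination ht
      exact (mul_eq_zero.mp this).resolve_left h2
    have hd := hdet c
    rw [Matrix.det_fin_two, h01, h0] at hd
    simp at hd
  have hkey : ∀ a y : Q, ρ a * ρ c = ρ c * ρ a → ρ y * ρ c = -(ρ c * ρ y) →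
      a * a = a * y * a⁻¹ * y⁻¹ := by
    intro a y ha hy
    obtain ⟨α, β, e⟩ := comm_form (ρ c) (ρ a) hns ha
    have e1 : ρ y * ρ c * ρ y⁻¹ = -ρ c := by rw [hy, neg_mul, mul_assoc, hinv y, mul_one]
    have h1 : ρ (y * a * y⁻¹) = α • (1 : Matrix (Fin 2) (Fin 2) F) - β • ρ c := by
      rw [map_mul, map_mul, e]
      simp only [mul_add, add_mul, Matrix.mul_smul, Matrix.smul_mul, mul_one]
      rw [hinv y, e1, smul_neg, sub_eq_add_neg]
    have hd := hdet a
    rw [e, det_form, htr, hdet c] at hd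
    have hd' : α * α + β * β = 1 := by linear_combination hd
    have h2' : ρ a * ρ (y * a * y⁻¹) = 1 := by
      rw [h1, e, inv_form, hcc, smul_neg, sub_neg_eq_add, ← add_smul, hd', one_smul]
    have h3 : a * (y * a * y⁻¹) = 1 := hρ (by rw [map_mul, h2', map_one])
    have h4 : y * a * y⁻¹ = a⁻¹ := eq_inv_of_mul_eq_one_right h3
    have h5 : y * a⁻¹ * y⁻¹ = a := by
      have : y * a⁻¹ * y⁻¹ = (y * a * y⁻¹)⁻¹ := by group
      rw [this, h4, inv_inv]
    calc a * a = a * (y * a⁻¹ * y⁻¹) := by rw [h5]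
      _ = a * y * a⁻¹ * y⁻¹ := by group
  intro x
  rw [pow_two, commutator_def]
  rcases hdich x with hx | hx
  · rw [hkey x y₀ hx hy₀]
    exact Subgroup.commutator_mem_commutator (Subgroup.mem_top x) (Subgroup.mem_top y₀)
  · have hxx : x * x = c * c := by
      apply hρ
      rw [map_mul, map_mul, sq_of_trace_zero _ (hdet x)
        (trace_zero_of_anti h2 (ρ c) (ρ c⁻¹) (ρ x) (hinv c) (by rw [hx, neg_neg])), hcc]
    rw [hxx, hkey c y₀ rfl hy₀]
    exact Subgroup.commutator_mem_commutator (Subgroup.mem_top c) (Subgroup.mem_top y₀)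

end Cfsg.Agent.Lib.helper19.SL2Q
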