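import Cfsg.Agent.Lib.helper19.SL2Q
import Cfsg.Agent.Lib.helper4.SpSylowEA
import Cfsg.Agent.Lib.helper4.SpPalin

/-!
Sylow 2-subgroups of symplectic groups over fields of odd order: abelianization is elementary.
-/

namespace Cfsg.Agent.Lib.helper19.SL2Q

open Matrix Cfsg.Agent.Lib.helper19.SylAb

variable {F : Type*} [Field F]

/-- the index equivalence -/
def e2 : Fin 2 ≃ Fin 1 ⊕ Fin 1 := (finSumFinEquiv (m := 1) (n := 1)).symm

/-- `Sp_2(F)` as `2 × 2` matrices -/
def rho0 (F : Type*) [Field F] : symplecticGroup (Fin 1) F →* Matrix (Fin 2) (Fin 2) F where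
  toFun g := g.1.submatrix e2 e2
  map_one' := Matrix.submatrix_one_equiv e2
  map_mul' g h := by
    show (g.1 * h.1).submatrix e2 e2 = g.1.submatrix e2 e2 * h.1.submatrix e2 e2
    rw [Matrix.submatrix_mul_equiv]

theorem rho0_injective : Function.Injective (rho0 F) := by
  intro g h hgh
  apply Subtype.ext
  have h1 : g.1.submatrix e2 e2 = h.1.submatrix e2 e2 := hgh
  have := congrArg (fun M => M.submatrix e2.symm e2.symm) h1
  simpa using this

theorem rho0_det (g : symplecticGroup (Fin 1) F) : (rho0 F g).det = 1 := by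
  show (g.1.submatrix e2 e2).det = 1
  rw [Matrix.det_submatrix_equiv_self]
  exact Cfsg.Agent.Lib.helper4.SpPalin.sp_det_one g

/-- an element of order four anticommuting with `J` -/
def bM (x y : F) : Matrix (Fin 1 ⊕ Fin 1) (Fin 1 ⊕ Fin 1) F :=
  Matrix.fromBlocks (Matrix.of fun _ _ => x) (Matrix.of fun _ _ => y)
    (Matrix.of fun _ _ => y) (Matrix.of fun _ _ => -x)

theorem bM_mem (x y : F) (hxy : x * x + y * y = -1) : bM x y ∈ symplecticGroup (Fin 1) F := by
  rw [SymplecticGroup.mem_iff]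
  ext i j
  rcases i with i | i <;> rcases j with j | j <;>
    (obtain rfl : i = 0 := Subsingleton.elim _ _) <;>
    (obtain rfl : j = 0 := Subsingleton.elim _ _) <;>
    simp [bM, J, Matrix.mul_apply, Fintype.sum_sum_type, Matrix.one_apply] <;>
    first | linear_combination hxy | linear_combination -hxy | ring1

theorem bM_sq (x y : F) (hxy : x * x + y * y = -1) : bM x y * bM x y = -1 := by
  ext i j
  rcases i with i | i <;> rcases j with j | j <;>
    (obtain rfl : i = 0 := Subsingleton.elim _ _) <;>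
    (obtain rfl : j = 0 := Subsingleton.elim _ _) <;>
    simp [bM, Matrix.mul_apply, Fintype.sum_sum_type, Matrix.one_apply] <;>
    first | linear_combination hxy | linear_combination -hxy | ring1

theorem bM_J (x y : F) : bM x y * J (Fin 1) F = -(J (Fin 1) F * bM x y) := by
  ext i j
  rcases i with i | i <;> rcases j with j | j <;>
    (obtain rfl : i = 0 := Subsingleton.elim _ _) <;>
    (obtain rfl : j = 0 := Subsingleton.elim _ _) <;>
    simp [bM, J, Matrix.mul_apply, Fintype.sum_sum_type, Matrix.one_apply]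

theorem pgroup_zpowers {G : Type*} [Group G] (a : G) (h : a ^ 4 = 1) :
    IsPGroup 2 (Subgroup.zpowers a) := by
  have hd : orderOf a ∣ 2 ^ 2 := orderOf_dvd_of_pow_eq_one h
  obtain ⟨m, -, hm⟩ := (Nat.dvd_prime_pow Nat.prime_two).mp hd
  apply IsPGroup.of_card (n := m)
  rw [Nat.card_zpowers, hm]

theorem normalizer_of_inv {G : Type*} [Group G] (a b : G) (h : b * a * b⁻¹ = a⁻¹) :
    b ∈ Subgroup.normalizer (Subgroup.zpowers a : Set G) := by
  have h' : b⁻¹ * a * b = a⁻¹ := by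
    have e : a = b⁻¹ * a⁻¹ * b := by rw [← h]; group
    calc b⁻¹ * a * b = (b⁻¹ * a⁻¹ * b)⁻¹ := by group
      _ = a⁻¹ := by rw [← e]
  rw [Subgroup.mem_normalizer_iff]
  intro g
  constructor
  · intro hg
    obtain ⟨k, rfl⟩ := Subgroup.mem_zpowers_iff.mp hg
    rw [← conj_zpow, h]
    exact Subgroup.zpow_mem _ (Subgroup.inv_mem _ (Subgroup.mem_zpowers a)) k
  · intro hg
    obtain ⟨k, hk⟩ := Subgroup.mem_zpowers_iff.mp hg
    have e : g = b⁻¹ * a ^ k * b⁻¹⁻¹ := by rw [hk]; group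
    rw [e, ← conj_zpow, inv_inv, h']
    exact Subgroup.zpow_mem _ (Subgroup.inv_mem _ (Subgroup.mem_zpowers a)) k

theorem sp2_nonabelian [Fintype F] (hodd : Odd (Fintype.card F))
    (S : Sylow 2 (symplecticGroup (Fin 1) F)) :
    ∃ a b : ↥(S : Subgroup (symplecticGroup (Fin 1) F)), a * b ≠ b * a := by
  classical
  have : Fact (Nat.Prime 2) := ⟨Nat.prime_two⟩
  have h2 : (2 : F) ≠ 0 := Cfsg.Agent.Lib.helper4.SpSylowEA.two_ne_zero_of_odd hodd
  obtain ⟨x, y, hxy0⟩ := FiniteField.exists_root_sum_quadratic (R := F)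
    (f := Polynomial.X ^ 2) (g := Polynomial.X ^ 2 - Polynomial.C (-1))
    (Polynomial.degree_X_pow 2) (Polynomial.degree_X_pow_sub_C (by decide) _)
    (Nat.odd_iff.mp hodd)
  have hxy : x * x + y * y = -1 := by
    simp only [Polynomial.eval_pow, Polynomial.eval_X, Polynomial.eval_sub, Polynomial.eval_C]
      at hxy0
    linear_combination hxy0
  obtain ⟨a, ha⟩ : ∃ a : symplecticGroup (Fin 1) F, a = ⟨J (Fin 1) F, SymplecticGroup.J_mem (Fin 1) F⟩ :=
    ⟨_, rfl⟩
  obtain ⟨b, hb⟩ : ∃ b : symplecticGroup (Fin 1) F, b = ⟨bM x y, bM_mem x y hxy⟩ := ⟨_, rfl⟩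
  have haa : a.1 * a.1 = -1 := by rw [ha]; exact J_squared (Fin 1) F
  have hbb : b.1 * b.1 = -1 := by rw [hb]; exact bM_sq x y hxy
  have hba : b.1 * a.1 = -(a.1 * b.1) := by rw [ha, hb]; exact bM_J x y
  have ha4 : a ^ 4 = 1 := by
    have e : a ^ 4 = a * a * (a * a) := by
      rw [show (4 : ℕ) = 2 + 2 from rfl, pow_add, pow_two]
    rw [e]
    apply Subtype.ext
    show a.1 * a.1 * (a.1 * a.1) = 1
    rw [haa, neg_one_mul, neg_neg]
  have hb4 : b ^ 4 = 1 := by
    have e : b ^ 4 = b * b * (b * b) := by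
      rw [show (4 : ℕ) = 2 + 2 from rfl, pow_add, pow_two]
    rw [e]
    apply Subtype.ext
    show b.1 * b.1 * (b.1 * b.1) = 1
    rw [hbb, neg_one_mul, neg_neg]
  have haba : a * b * a = b := by
    apply Subtype.ext
    show a.1 * b.1 * a.1 = b.1
    rw [mul_assoc, hba, mul_neg, ← mul_assoc, haa, neg_one_mul, neg_neg]
  have hconj : b * a * b⁻¹ = a⁻¹ := by
    apply eq_inv_of_mul_eq_one_right
    rw [← mul_assoc, ← mul_assoc, haba, mul_inv_cancel]
  have hne : a * b ≠ b * a := by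
    intro hab
    have h1 : a.1 * b.1 = b.1 * a.1 := congrArg Subtype.val hab
    rw [hba] at h1
    have h3 : (2 : F) • (a.1 * b.1) = 0 := by
      rw [two_smul]
      nth_rewrite 1 [h1]
      rw [neg_add_cancel]
    have h4 : a.1 * b.1 = 0 := (smul_eq_zero.mp h3).resolve_left h2
    have h5 : b.1 = 0 := by
      have : a.1 * (a.1 * b.1) = -b.1 := by rw [← mul_assoc, haa, neg_one_mul]
      rw [h4, mul_zero] at this
      exact neg_eq_zero.mp this.symm
    rw [h5, mul_zero] at hbb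
    have h6 := congrFun (congrFun hbb (Sum.inl 0)) (Sum.inl 0)
    simp at h6
  have hK : IsPGroup 2 ↥(Subgroup.zpowers b ⊔ Subgroup.zpowers a) :=
    IsPGroup.to_sup_of_normal_right' (pgroup_zpowers b hb4) (pgroup_zpowers a ha4)
      (Subgroup.zpowers_le.mpr (normalizer_of_inv a b hconj))
  obtain ⟨Q₀, hQ₀⟩ := hK.exists_le_sylow
  obtain ⟨g, hg⟩ := MulAction.exists_smul_eq (symplecticGroup (Fin 1) F) Q₀ S
  have hmem : ∀ z ∈ (Q₀ : Subgroup (symplecticGroup (Fin 1) F)),
      g * z * g⁻¹ ∈ (S : Subgroup (symplecticGroup (Fin 1) F)) := by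
    intro z hz
    rw [← hg, Sylow.coe_subgroup_smul]
    exact Subgroup.smul_mem_pointwise_smul _ _ _ hz
  have haQ : a ∈ (Q₀ : Subgroup (symplecticGroup (Fin 1) F)) :=
    hQ₀ ((le_sup_right : Subgroup.zpowers a ≤ _) (Subgroup.mem_zpowers a))
  have hbQ : b ∈ (Q₀ : Subgroup (symplecticGroup (Fin 1) F)) :=
    hQ₀ ((le_sup_left : Subgroup.zpowers b ≤ _) (Subgroup.mem_zpowers b))
  refine ⟨⟨g * a * g⁻¹, hmem a haQ⟩, ⟨g * b * g⁻¹, hmem b hbQ⟩, ?_⟩
  intro h
  apply hne
  have h1 : g * a * g⁻¹ * (g * b * g⁻¹) = g * b * g⁻¹ * (g * a * g⁻¹) := congrArg Subtype.val h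
  have h2' : g * (a * b) * g⁻¹ = g * (b * a) * g⁻¹ := by
    calc g * (a * b) * g⁻¹ = g * a * g⁻¹ * (g * b * g⁻¹) := by group
      _ = g * b * g⁻¹ * (g * a * g⁻¹) := h1
      _ = g * (b * a) * g⁻¹ := by group
  exact mul_left_cancel (mul_right_cancel h2')

theorem sp2_sylow_EE [Fintype F] (hodd : Odd (Fintype.card F))
    (S : Sylow 2 (symplecticGroup (Fin 1) F)) :
    EE 2 ↥(S : Subgroup (symplecticGroup (Fin 1) F)) := by
  have h2 : (2 : F) ≠ 0 := Cfsg.Agent.Lib.helper4.SpSylowEA.two_ne_zero_of_odd hodd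
  refine sl2_EE S.isPGroup' h2
    ((rho0 F).comp (S : Subgroup (symplecticGroup (Fin 1) F)).subtype) ?_ ?_
    (sp2_nonabelian hodd S)
  · exact rho0_injective.comp (Subgroup.subtype_injective _)
  · intro g
    exact rho0_det _

end Cfsg.Agent.Lib.helper19.SL2Q
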