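import Cfsg.Agent.Lib.helper19.SL2Q2

/-!
Sylow 2-subgroups of `Sp_2n(F)`, `|F|` odd: reduction to `Sp_2(F) ≀ S_n`.
-/

namespace Cfsg.Agent.Lib.helper19.SL2Q

open Matrix Cfsg.Agent.Lib.helper19.SylAb Cfsg.Agent.Lib.helper4.SpWreath

variable {F : Type*} [Field F]

theorem sp_sylow_EE [Fintype F] (hodd : Odd (Fintype.card F)) (n : ℕ)
    (P : Sylow 2 (symplecticGroup (Fin n) F)) :
    EE 2 ↥(P : Subgroup (symplecticGroup (Fin n) F)) := by
  classical
  have : Fact (Nat.Prime 2) := ⟨Nat.prime_two⟩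
  obtain ⟨Q⟩ : Nonempty (Sylow 2 (symplecticGroup (Fin 1) F)) := inferInstance
  obtain ⟨R⟩ : Nonempty (Sylow 2 (Equiv.Perm (Fin n))) := inferInstance
  have hQ : EE 2 ↥(Q : Subgroup (symplecticGroup (Fin 1) F)) := sp2_sylow_EE hodd Q
  have hR : EE 2 ↥(R : Subgroup (Equiv.Perm (Fin n))) := sym_EE 2 n (Fin n) R (by simp)
  obtain ⟨φ, hφ⟩ : ∃ φ : ↥(R : Subgroup (Equiv.Perm (Fin n))) →*
      MulAut (Fin n → ↥(Q : Subgroup (symplecticGroup (Fin 1) F))),
      φ = mulAutArrow (G := ↥(R : Subgroup (Equiv.Perm (Fin n)))) (A := Fin n)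
        (M := ↥(Q : Subgroup (symplecticGroup (Fin 1) F))) := ⟨_, rfl⟩
  -- the homomorphism into the wreath product
  let Ψ : (Fin n → ↥(Q : Subgroup (symplecticGroup (Fin 1) F))) ⋊[φ]
      ↥(R : Subgroup (Equiv.Perm (Fin n))) →* W n F :=
    SemidirectProduct.map
      ((Q : Subgroup (symplecticGroup (Fin 1) F)).subtype.compLeft (Fin n))
      (R : Subgroup (Equiv.Perm (Fin n))).subtype
      (fun g => by
        rw [hφ]
        exact MonoidHom.ext fun f => funext fun i => rfl)
  have hΨ : Function.Injective Ψ := by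
    intro w w' h
    have h1 : ((Q : Subgroup (symplecticGroup (Fin 1) F)).subtype.compLeft (Fin n)) w.left =
        ((Q : Subgroup (symplecticGroup (Fin 1) F)).subtype.compLeft (Fin n)) w'.left :=
      congrArg SemidirectProduct.left h
    have h2 : (w.right : Equiv.Perm (Fin n)) = w'.right := congrArg SemidirectProduct.right h
    apply SemidirectProduct.ext
    · funext i
      exact Subtype.ext (congrFun h1 i)
    · exact Subtype.ext h2
  have hΘ : Function.Injective ((Φ n F).comp Ψ) := Φ_injective.comp hΨ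
  -- EE for the semidirect product
  have hT : EE 2 ((Fin n → ↥(Q : Subgroup (symplecticGroup (Fin 1) F))) ⋊[φ]
      ↥(R : Subgroup (Equiv.Perm (Fin n)))) := by
    intro w
    have e := (SemidirectProduct.inl_left_mul_inr_right w).symm
    have h1 : (SemidirectProduct.inl (w.left ^ 2) :
        (Fin n → ↥(Q : Subgroup (symplecticGroup (Fin 1) F))) ⋊[φ]
          ↥(R : Subgroup (Equiv.Perm (Fin n)))) ∈ commutator _ :=
      comm_map SemidirectProduct.inl (pi_comm _ (fun i => hQ (w.left i)))
    have h2 : (SemidirectProduct.inr (w.right ^ 2) :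
        (Fin n → ↥(Q : Subgroup (symplecticGroup (Fin 1) F))) ⋊[φ]
          ↥(R : Subgroup (Equiv.Perm (Fin n)))) ∈ commutator _ :=
      comm_map SemidirectProduct.inr (hR w.right)
    rw [← Abelianization.ker_of, MonoidHom.mem_ker] at h1 h2 ⊢
    conv_lhs => rw [e]
    rw [map_pow, map_mul, mul_pow, ← map_pow, ← map_pow, ← map_pow, ← map_pow, h1, h2, one_mul]
  -- cardinalities
  have hq1 : 1 < Fintype.card F := Fintype.one_lt_card
  have hnd : ¬ 2 ∣ Fintype.card F := by
    rw [Nat.odd_iff] at hodd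
    omega
  have hq2 : Fintype.card F ^ 2 - 1 ≠ 0 := by
    have := Nat.one_lt_pow (n := 2) (by omega) hq1
    omega
  have hne : ∀ i : ℕ, Fintype.card F ^ (2 * (i + 1)) - 1 ≠ 0 := by
    intro i
    have := Nat.one_lt_pow (n := 2 * (i + 1)) (by omega) hq1
    omega
  have hv1 : (Nat.card (symplecticGroup (Fin 1) F)).factorization 2 =
      padicValNat 2 (Fintype.card F ^ 2 - 1) := by
    rw [Nat.factorization_def _ Nat.prime_two,
      Cfsg.Agent.Lib.helper4.card_sp (rfl : Fintype.card F = Fintype.card F) 1,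
      Finset.prod_range_one]
    have e : Fintype.card F ^ (2 * (0 + 1)) - 1 = Fintype.card F ^ 2 - 1 := by norm_num
    rw [e, padicValNat.mul (pow_ne_zero _ (by omega)) hq2, padicValNat.pow,
      padicValNat.eq_zero_of_not_dvd hnd, mul_zero, zero_add]
  have hvn : (Nat.card (symplecticGroup (Fin n) F)).factorization 2 =
      n * padicValNat 2 (Fintype.card F ^ 2 - 1) + padicValNat 2 n.factorial := by
    rw [Nat.factorization_def _ Nat.prime_two,
      Cfsg.Agent.Lib.helper4.card_sp (rfl : Fintype.card F = Fintype.card F) n,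
      padicValNat.mul (pow_ne_zero _ (by omega))
        (Finset.prod_ne_zero_iff.mpr (fun i _ => hne i)),
      padicValNat.pow, padicValNat.eq_zero_of_not_dvd hnd,
      Cfsg.Agent.Lib.helper4.SpSylowEA.v2_prod _ hodd hq1 n, mul_zero, zero_add]
  have hvp : (Nat.card (Equiv.Perm (Fin n))).factorization 2 = padicValNat 2 n.factorial := by
    rw [Nat.factorization_def _ Nat.prime_two, Nat.card_perm, Nat.card_fin]
  have hcard : Nat.card ((Φ n F).comp Ψ).range =
      2 ^ (Nat.card (symplecticGroup (Fin n) F)).factorization 2 := by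
    rw [← Nat.card_congr (MonoidHom.ofInjective hΘ).toEquiv, SemidirectProduct.card,
      Nat.card_fun, Nat.card_fin, Q.card_eq_multiplicity, R.card_eq_multiplicity, hv1, hvp, hvn,
      ← pow_mul, ← pow_add, mul_comm]
  -- transfer
  let S₀ : Sylow 2 (symplecticGroup (Fin n) F) := Sylow.ofCard ((Φ n F).comp Ψ).range hcard
  have e1 : ↥(P : Subgroup (symplecticGroup (Fin n) F)) ≃* ↥((Φ n F).comp Ψ).range := P.equiv S₀
  have e2 := MonoidHom.ofInjective hΘ
  exact EE_of_surj (e2.trans e1.symm).toMonoidHom (e2.trans e1.symm).surjective hT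

end Cfsg.Agent.Lib.helper19.SL2Q
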