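import Cfsg.Agent.Lib.helper19.SylDL

/-!
Abelianization of Sylow subgroups of symmetric groups is elementary abelian.
-/

namespace Cfsg.Agent.Lib.helper19.SylAb

universe u

/-- every `p`-th power lies in the commutator subgroup -/
def EE (p : ℕ) (N : Type*) [Group N] : Prop := ∀ x : N, x ^ p ∈ commutator N

theorem comm_map {M N : Type*} [Group M] [Group N] (f : M →* N) {x : M}
    (hx : x ∈ commutator M) : f x ∈ commutator N := by
  have h1 : (commutator M).map f ≤ commutator N := by
    rw [commutator_def, commutator_def, Subgroup.map_commutator]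
    exact Subgroup.commutator_mono le_top le_top
  exact h1 (Subgroup.mem_map_of_mem f hx)

theorem EE_of_surj {p : ℕ} {M N : Type*} [Group M] [Group N] (f : M →* N)
    (hf : Function.Surjective f) (h : EE p M) : EE p N := by
  intro x
  obtain ⟨y, rfl⟩ := hf x
  rw [← map_pow]
  exact comm_map f (h y)

theorem EE_prod {p : ℕ} {M N : Type*} [Group M] [Group N] (h1 : EE p M) (h2 : EE p N) :
    EE p (M × N) := by
  intro x
  have e : x ^ p = MonoidHom.inl M N (x.1 ^ p) * MonoidHom.inr M N (x.2 ^ p) := by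
    ext <;> simp
  rw [e]
  exact Subgroup.mul_mem _ (comm_map _ (h1 x.1)) (comm_map _ (h2 x.2))

/-- the base group embedding of a regular wreath product -/
def baseHom (D Q : Type*) [Group D] [Group Q] : (Q → D) →* D ≀ᵣ Q :=
  { toFun := fun f => ⟨f, 1⟩
    map_one' := rfl
    map_mul' := fun f g => by
      apply RegularWreathProduct.ext
      · funext x
        simp
      · simp }

theorem baseHom_left {D Q : Type*} [Group D] [Group Q] (f : Q → D) :
    (baseHom D Q f).left = f := rfl

theorem baseHom_right {D Q : Type*} [Group D] [Group Q] (f : Q → D) :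
    (baseHom D Q f).right = 1 := rfl

theorem baseHom_mul_inl {D Q : Type*} [Group D] [Group Q] (w : D ≀ᵣ Q) :
    w = baseHom D Q w.left * RegularWreathProduct.inl w.right := by
  apply RegularWreathProduct.ext
  · funext x
    simp [baseHom]
  · simp [baseHom]

theorem pi_comm {D Q : Type*} [Group D] [Finite Q] (f : Q → D)
    (hf : ∀ q, f q ∈ commutator D) : f ∈ commutator (Q → D) := by
  have h := Subgroup.commutator_pi_pi_of_finite (fun _ : Q => (⊤ : Subgroup D)) (fun _ => ⊤)
  rw [Subgroup.pi_top] at h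
  rw [commutator_def, h, Subgroup.mem_pi]
  intro q _
  have := hf q
  rw [commutator_def] at this
  exact this

theorem rw_EE {p : ℕ} {D Q : Type*} [Group D] [Group Q] [Finite Q] (hD : EE p D)
    (hQ : ∀ q : Q, q ^ p = 1) : EE p (D ≀ᵣ Q) := by
  intro w
  rw [← Abelianization.ker_of, MonoidHom.mem_ker]
  have e := baseHom_mul_inl w
  have h1 : (Abelianization.of (w ^ p) : Abelianization (D ≀ᵣ Q)) =
      Abelianization.of (baseHom D Q (w.left ^ p)) *
        Abelianization.of (RegularWreathProduct.inl (w.right ^ p)) := by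
    rw [map_pow]
    conv_lhs => rw [e]
    rw [map_mul, mul_pow, ← map_pow, ← map_pow, ← map_pow, ← map_pow]
  rw [h1, hQ, map_one, map_one, mul_one]
  have h2 : baseHom D Q (w.left ^ p) ∈ commutator (D ≀ᵣ Q) := by
    apply comm_map
    apply pi_comm
    intro q
    exact hD (w.left q)
  rw [← Abelianization.ker_of, MonoidHom.mem_ker] at h2
  exact h2

theorem iw_EE (p : ℕ) (G : Type u) [Group G] [Finite G] (hG : ∀ q : G, q ^ p = 1) (a : ℕ) :
    EE p (IteratedWreathProduct G a) := by
  induction a with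
  | zero =>
    intro x
    have hs : Subsingleton (IteratedWreathProduct G 0) := by
      rw [IteratedWreathProduct_zero]; infer_instance
    rw [Subsingleton.elim (x ^ p) 1]
    exact Subgroup.one_mem _
  | succ a ih =>
    exact rw_EE (D := IteratedWreathProduct G a) (Q := G) ih hG

open Cfsg.Agent.Lib.helper19.NilpSym in
theorem split_sylow (p : ℕ) [hp : Fact p.Prime] {α : Type u} [Finite α]
    (P : Sylow p (Equiv.Perm α)) (s : Set α) [DecidablePred (· ∈ s)]
    (hs : ∀ g ∈ (P : Subgroup (Equiv.Perm α)), ∀ z, g z ∈ s ↔ z ∈ s) :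
    ∃ (S₁ : Sylow p (Equiv.Perm {z // z ∈ s})) (S₂ : Sylow p (Equiv.Perm {z // ¬ z ∈ s}))
      (e : ↥(P : Subgroup (Equiv.Perm α)) ≃*
        (↥(S₁ : Subgroup (Equiv.Perm {z // z ∈ s})) ×
          ↥(S₂ : Subgroup (Equiv.Perm {z // ¬ z ∈ s})))),
      ∀ g : ↥(P : Subgroup (Equiv.Perm α)),
        (g : Equiv.Perm α) = Equiv.Perm.subtypeCongr (e g).1.1 (e g).2.1 := by
  have hs' : ∀ g ∈ (P : Subgroup (Equiv.Perm α)), ∀ z, g z ∈ sᶜ ↔ z ∈ sᶜ := compl_inv P s hs
  obtain ⟨S₁, h1⟩ := (P.isPGroup'.of_surjective _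
    (MonoidHom.rangeRestrict_surjective (resHom P s hs))).exists_le_sylow
  obtain ⟨S₂, h2⟩ := IsPGroup.exists_le_sylow (G := Equiv.Perm {z // ¬ z ∈ s})
    (P.isPGroup'.of_surjective _
    (MonoidHom.rangeRestrict_surjective (resHom P sᶜ hs')))
  let J := Equiv.Perm.subtypeCongrHom (· ∈ s)
  have hJ : Function.Injective J := Equiv.Perm.subtypeCongrHom_injective _
  let F : (↥(S₁ : Subgroup (Equiv.Perm {z // z ∈ s})) ×
      ↥(S₂ : Subgroup (Equiv.Perm {z // ¬ z ∈ s}))) →* Equiv.Perm α :=
    J.comp (MonoidHom.prodMap (Subgroup.subtype _) (Subgroup.subtype _))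
  have hF : Function.Injective F := by
    intro x y hxy
    have := hJ hxy
    have h1 := congrArg Prod.fst this
    have h2 := congrArg Prod.snd this
    exact Prod.ext (Subtype.ext h1) (Subtype.ext h2)
  have hT : IsPGroup p F.range := by
    have hprod : IsPGroup p (↥(S₁ : Subgroup (Equiv.Perm {z // z ∈ s})) ×
        ↥(S₂ : Subgroup (Equiv.Perm {z // ¬ z ∈ s}))) := by
      obtain ⟨n1, hn1⟩ := IsPGroup.iff_card.mp S₁.isPGroup'
      obtain ⟨n2, hn2⟩ := IsPGroup.iff_card.mp S₂.isPGroup'
      apply IsPGroup.of_card (n := n1 + n2)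
      rw [Nat.card_prod, hn1, hn2, pow_add]
    exact hprod.of_surjective _ (MonoidHom.rangeRestrict_surjective F)
  have hPT : (P : Subgroup (Equiv.Perm α)) ≤ F.range := by
    intro g hg
    refine ⟨(⟨resHom P s hs ⟨g, hg⟩, h1 ⟨_, rfl⟩⟩, ⟨resHom P sᶜ hs' ⟨g, hg⟩, h2 ⟨_, rfl⟩⟩), ?_⟩
    ext z
    by_cases hz : z ∈ s
    · show Equiv.Perm.subtypeCongr (resHom P s hs ⟨g, hg⟩) (resHom P sᶜ hs' ⟨g, hg⟩) z = g z
      rw [Equiv.Perm.subtypeCongr.left_apply _ _ hz]
      rfl
    · show Equiv.Perm.subtypeCongr (resHom P s hs ⟨g, hg⟩) (resHom P sᶜ hs' ⟨g, hg⟩) z = g z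
      rw [Equiv.Perm.subtypeCongr.right_apply _ _ hz]
      rfl
  have hTP : F.range = P := P.is_maximal' hT hPT
  let e : ↥(P : Subgroup (Equiv.Perm α)) ≃*
        (↥(S₁ : Subgroup (Equiv.Perm {z // z ∈ s})) ×
          ↥(S₂ : Subgroup (Equiv.Perm {z // ¬ z ∈ s}))) :=
    (MulEquiv.subgroupCongr hTP.symm).trans (MonoidHom.ofInjective hF).symm
  refine ⟨S₁, S₂, e, ?_⟩
  intro g
  have h := (MonoidHom.ofInjective hF).apply_symm_apply (MulEquiv.subgroupCongr hTP.symm g)
  have h' := congrArg Subtype.val h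
  exact h'.symm

theorem sym_EE (p : ℕ) [hp : Fact p.Prime] : ∀ (m : ℕ) (α : Type u) [Finite α]
    (P : Sylow p (Equiv.Perm α)), Nat.card α = m →
    EE p (P : Subgroup (Equiv.Perm α)) := by
  intro m
  induction m using Nat.strong_induction_on with
  | _ m ih =>
    intro α _ P hcard
    classical
    have : NeZero p := ⟨hp.out.ne_zero⟩
    rcases isEmpty_or_nonempty α with hα | hα
    · have : Subsingleton (Equiv.Perm α) := ⟨fun a b => Equiv.ext (fun x => isEmptyElim x)⟩
      intro x
      rw [Subsingleton.elim (x ^ p) 1]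
      exact Subgroup.one_mem _
    by_cases htr : MulAction.IsPretransitive (P : Subgroup (Equiv.Perm α)) α
    · obtain ⟨x⟩ := hα
      obtain ⟨a, ha⟩ := P.isPGroup'.card_orbit x
      have hm : Nat.card α = p ^ a := by
        rw [← ha, MulAction.orbit_eq_univ]
        exact (Nat.card_congr (Equiv.Set.univ α)).symm
      have hG : Nat.card (Multiplicative (ZMod p)) = p := by
        rw [Nat.card_congr Multiplicative.toAdd, Nat.card_zmod]
      have e := Sylow.mulEquivIteratedWreathProduct p a α hm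
        (Multiplicative (ZMod p)) hG P
      have hGp : ∀ q : Multiplicative (ZMod p), q ^ p = 1 := by
        intro q
        have := pow_card_eq_one' (x := q)
        rwa [hG] at this
      exact EE_of_surj e.symm.toMonoidHom e.symm.surjective (iw_EE p _ hGp a)
    · obtain ⟨x⟩ := hα
      have hne : ∃ y, y ∉ MulAction.orbit (P : Subgroup (Equiv.Perm α)) x := by
        by_contra hall
        push Not at hall
        apply htr
        refine ⟨fun y z => ?_⟩
        obtain ⟨a, ha⟩ := hall y
        obtain ⟨b, hb⟩ := hall z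
        refine ⟨b * a⁻¹, ?_⟩
        rw [← ha, ← hb, mul_smul, inv_smul_smul]
      obtain ⟨y, hy⟩ := hne
      have hs : ∀ g ∈ (P : Subgroup (Equiv.Perm α)), ∀ z,
          g z ∈ MulAction.orbit (P : Subgroup (Equiv.Perm α)) x ↔
            z ∈ MulAction.orbit (P : Subgroup (Equiv.Perm α)) x := by
        intro g hg z
        constructor
        · intro h
          have := MulAction.mem_orbit_of_mem_orbit
            ((⟨g, hg⟩ : (P : Subgroup (Equiv.Perm α)))⁻¹) h
          have e : ((⟨g, hg⟩ : (P : Subgroup (Equiv.Perm α)))⁻¹) • (g z) = z := by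
            change (g⁻¹ : Equiv.Perm α) (g z) = z
            simp
          rwa [e] at this
        · intro h
          exact MulAction.mem_orbit_of_mem_orbit (⟨g, hg⟩ : (P : Subgroup (Equiv.Perm α))) h
      obtain ⟨s, hsdef⟩ : ∃ s : Set α, s = MulAction.orbit (P : Subgroup (Equiv.Perm α)) x :=
        ⟨_, rfl⟩
      rw [← hsdef] at hs hy
      have hsum : Nat.card {z // z ∈ s} + Nat.card {z // ¬ z ∈ s} = m := by
        have h1 : Nat.card {z // z ∈ s} = s.ncard := Nat.card_coe_set_eq _
        have h2 : Nat.card {z // ¬ z ∈ s} = sᶜ.ncard := Nat.card_coe_set_eq sᶜ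
        rw [h1, h2, Set.ncard_add_ncard_compl, hcard]
      have h1 : 0 < Nat.card {z // z ∈ s} := by
        have : Nonempty {z // z ∈ s} := ⟨⟨x, by rw [hsdef]; exact MulAction.mem_orbit_self x⟩⟩
        exact Nat.card_pos
      have h2 : 0 < Nat.card {z // ¬ z ∈ s} := by
        have : Nonempty {z // ¬ z ∈ s} := ⟨⟨y, hy⟩⟩
        exact Nat.card_pos
      obtain ⟨S₁, S₂, e, -⟩ := split_sylow p P s hs
      have c1 := ih (Nat.card {z // z ∈ s}) (by omega) _ S₁ rfl
      have c2 := ih (Nat.card {z // ¬ z ∈ s}) (by omega) _ S₂ rfl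
      exact EE_of_surj e.symm.toMonoidHom e.symm.surjective (EE_prod c1 c2)

end Cfsg.Agent.Lib.helper19.SylAb
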